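import Mathlib
import Cfsg.Prelude.Def_Characters
import Cfsg.Prelude.Def_Blocks

/-!
# Linear groups of degree two: the orbit equation on fixed lines

A finite group with a faithful complex representation of degree two has an abelian normal subgroup
of index at most two, or the centralisers of its non-central elements have at most five times the
order of the centre.
-/

set_option autoImplicit false
set_option linter.unusedSectionVars false
set_option linter.style.haveILetI false
open Module Pointwise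
open scoped Classical

namespace CfsgLib.KGVTrans

universe u

local notation "V" => (Fin 2 → ℂ)

variable {G : Type u} [Group G] [Finite G] (ρ : Representation ℂ G V)

theorem isFinitelySemisimple_map (g : G) : Module.End.IsFinitelySemisimple (ρ g) := by
  have hm : orderOf g ≠ 0 := (orderOf_pos g).ne'
  have hsq : Squarefree (Polynomial.X ^ orderOf g - 1 : Polynomial ℂ) := by
    refine Polynomial.Separable.squarefree ?_
    rw [← map_one Polynomial.C]
    exact Polynomial.separable_X_pow_sub_C 1 (Nat.cast_ne_zero.mpr hm) one_ne_zero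
  exact (Module.End.isSemisimple_of_squarefree_aeval_eq_zero hsq (by
    rw [map_sub, map_pow, Polynomial.aeval_X, map_one, ← map_pow, pow_orderOf_eq_one, map_one,
      sub_self])).isFinitelySemisimple

/-- A non-scalar element has two eigenlines, and no other invariant lines. -/
theorem two_lines (g : G) (hg : ¬ ∃ c : ℂ, ∀ v, ρ g v = c • v) :
    ∃ L₁ L₂ : Submodule ℂ V, L₁ ≠ L₂ ∧ finrank ℂ L₁ = 1 ∧ finrank ℂ L₂ = 1 ∧
      L₁.map (ρ g) ≤ L₁ ∧ L₂.map (ρ g) ≤ L₂ ∧
      (∃ a : ℂ, L₁ = Module.End.eigenspace (ρ g) a) ∧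
      ∀ L : Submodule ℂ V, finrank ℂ L = 1 → L.map (ρ g) ≤ L → L = L₁ ∨ L = L₂ := by
  set f := ρ g
  have htop : ⨆ a : ℂ, Module.End.eigenspace f a = ⊤ := by
    have h := Module.End.iSup_maxGenEigenspace_eq_top f
    rwa [iSup_congr fun a => (isFinitelySemisimple_map ρ g).maxGenEigenspace_eq_eigenspace a] at h
  obtain ⟨a, ha⟩ := Module.End.exists_eigenvalue f
  have hne : Module.End.eigenspace f a ≠ ⊤ := fun h => hg ⟨a, fun v =>
    Module.End.mem_eigenspace_iff.mp (h ▸ Submodule.mem_top)⟩
  obtain ⟨b, hab, hb⟩ : ∃ b, b ≠ a ∧ Module.End.eigenspace f b ≠ ⊥ := by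
    by_contra h
    push Not at h
    apply hne
    rw [eq_top_iff, ← htop, iSup_le_iff]
    intro c
    rcases eq_or_ne c a with rfl | hc
    · exact le_rfl
    · rw [h c hc]; exact bot_le
  have hd : Disjoint (Module.End.eigenspace f a) (Module.End.eigenspace f b) :=
    (Module.End.eigenspaces_iSupIndep f).pairwiseDisjoint hab.symm
  have hsum := Submodule.finrank_sup_add_finrank_inf_eq (Module.End.eigenspace f a) (Module.End.eigenspace f b)
  rw [hd.eq_bot, finrank_bot, add_zero] at hsum
  have hV : finrank ℂ V = 2 := by simp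
  have hle := Submodule.finrank_le (Module.End.eigenspace f a ⊔ Module.End.eigenspace f b)
  have h1 : 0 < finrank ℂ (Module.End.eigenspace f a) :=
    Nat.pos_of_ne_zero fun h => ha (Submodule.finrank_eq_zero.mp h)
  have h2 : 0 < finrank ℂ (Module.End.eigenspace f b) :=
    Nat.pos_of_ne_zero fun h => hb (Submodule.finrank_eq_zero.mp h)
  have e1 : finrank ℂ (Module.End.eigenspace f a) = 1 := by omega
  have e2 : finrank ℂ (Module.End.eigenspace f b) = 1 := by omega
  have hstab : ∀ c : ℂ, (Module.End.eigenspace f c).map f ≤ Module.End.eigenspace f c := by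
    rintro c _ ⟨v, hv, rfl⟩
    rw [Module.End.mem_eigenspace_iff, Module.End.mem_eigenspace_iff.mp hv, map_smul,
      Module.End.mem_eigenspace_iff.mp hv]
  refine ⟨_, _, fun h => ?_, e1, e2, hstab a, hstab b, ⟨a, rfl⟩, fun L hL hLs => ?_⟩
  · have := hd.eq_bot
    rw [h, inf_idem] at this
    exact hb this
  obtain ⟨⟨v, hvL⟩, hv0, hspan⟩ := finrank_eq_one_iff'.mp hL
  have hv0' : v ≠ 0 := fun h => hv0 (Subtype.ext h)
  obtain ⟨c, hc⟩ := hspan ⟨f v, hLs ⟨v, hvL, rfl⟩⟩
  have hc' : f v = c • v := (congrArg Subtype.val hc).symm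
  have hve : v ∈ Module.End.eigenspace f c := Module.End.mem_eigenspace_iff.mpr hc'
  have hLe : L ≤ Module.End.eigenspace f c := by
    intro x hx
    obtain ⟨d, hd'⟩ := hspan ⟨x, hx⟩
    rw [← show d • v = x from congrArg Subtype.val hd']
    exact Submodule.smul_mem _ d hve
  have htot : Module.End.eigenspace f a ⊔ Module.End.eigenspace f b = ⊤ :=
    Submodule.eq_top_of_finrank_eq (by omega)
  have hcab : c = a ∨ c = b := by
    by_contra h
    push Not at h
    have hv' : v ∈ Module.End.eigenspace f a ⊔ Module.End.eigenspace f b := by rw [htot]; trivial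
    have hdd : Disjoint (Module.End.eigenspace f c) (Module.End.eigenspace f a ⊔ Module.End.eigenspace f b) := by
      refine ((Module.End.eigenspaces_iSupIndep f) c).mono_right (sup_le ?_ ?_)
      · exact le_iSup₂_of_le a h.1.symm le_rfl
      · exact le_iSup₂_of_le b h.2.symm le_rfl
    exact hv0' (Submodule.disjoint_def.mp hdd v hve hv')
  rcases hcab with rfl | rfl
  · exact Or.inl (Submodule.eq_of_le_of_finrank_le hLe (by omega))
  · exact Or.inr (Submodule.eq_of_le_of_finrank_le hLe (by omega))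

theorem scalar_iff_center (hline : ∀ L : Submodule ℂ V, finrank ℂ L = 1 → ∃ g, ¬ L.map (ρ g) ≤ L)
    (hinj : Function.Injective ρ) (g : G) :
    (∃ c : ℂ, ∀ v, ρ g v = c • v) ↔ g ∈ Subgroup.center G := by
  constructor
  · rintro ⟨c, hc⟩
    rw [Subgroup.mem_center_iff]
    intro h
    refine hinj (LinearMap.ext fun v => ?_)
    rw [map_mul, map_mul, Module.End.mul_apply, Module.End.mul_apply, hc, hc, map_smul]
  · intro hg
    by_contra hns
    obtain ⟨L, -, -, hL, -, -, -, ⟨a, rfl⟩, -⟩ := two_lines ρ g hns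
    obtain ⟨h, hh⟩ := hline _ hL
    apply hh
    rintro _ ⟨v, hv, rfl⟩
    rw [SetLike.mem_coe, Module.End.mem_eigenspace_iff] at hv
    rw [Module.End.mem_eigenspace_iff]
    have e : ρ g (ρ h v) = ρ h (ρ g v) := by
      rw [← Module.End.mul_apply, ← map_mul, ← (Subgroup.mem_center_iff.mp hg h), map_mul,
        Module.End.mul_apply]
    rw [e, hv, map_smul]

/-- Lines of the projective line. -/
def Line : Type := {L : Submodule ℂ V // finrank ℂ L = 1}

theorem finrank_map (g : G) (L : Submodule ℂ V) : finrank ℂ (L.map (ρ g)) = finrank ℂ L := by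
  refine (Submodule.equivMapOfInjective (ρ g) ?_ L).finrank_eq.symm
  intro x y h
  have := congrArg (ρ g⁻¹) h
  rwa [← Module.End.mul_apply, ← Module.End.mul_apply, ← map_mul, inv_mul_cancel, map_one] at this

/-- The action on lines. -/
@[reducible] def lineAction : MulAction G Line where
  smul g L := ⟨L.1.map (ρ g), by rw [finrank_map]; exact L.2⟩
  one_smul L := Subtype.ext (show L.1.map (ρ 1) = L.1 by rw [map_one]; exact Submodule.map_id L.1)
  mul_smul g h L := Subtype.ext (show L.1.map (ρ (g * h)) = (L.1.map (ρ h)).map (ρ g) by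
    rw [map_mul]; exact Submodule.map_comp (ρ h) (ρ g) L.1)

theorem smul_le_iff (g : G) (L : Submodule ℂ V) : L.map (ρ g) ≤ L ↔ L.map (ρ g) = L :=
  ⟨fun h => Submodule.eq_of_le_of_finrank_le h (le_of_eq (finrank_map ρ g L).symm), fun h => h.le⟩

/-- The counting argument. -/
theorem orbit_arith {ι : Type*} [Fintype ι] (n : ℕ) (o k : ι → ℕ) (hn : 1 < n)
    (hok : ∀ i, o i * k i = n) (hk : ∀ i, 2 ≤ k i) (ho : ∀ i, 3 ≤ o i)
    (hsum : ∑ i, (n - o i) = 2 * (n - 1)) : 3 ∣ n ∧ ∀ i, k i ≤ 5 := by
  have hle : ∀ i, 2 * o i ≤ n := fun i => by nlinarith [hok i, hk i]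
  have hup : Fintype.card ι * n ≤ 4 * (n - 1) := by
    have h : ∑ _i : ι, n ≤ ∑ i, 2 * (n - o i) :=
      Finset.sum_le_sum fun i _ => by have := hle i; omega
    rw [Finset.sum_const, Finset.card_univ, smul_eq_mul, ← Finset.mul_sum, hsum] at h
    omega
  have hlow : 2 * (n - 1) ≤ Fintype.card ι * (n - 3) := by
    have h : ∑ i, (n - o i) ≤ ∑ _i : ι, (n - 3) :=
      Finset.sum_le_sum fun i _ => by have := ho i; omega
    rw [Finset.sum_const, Finset.card_univ, smul_eq_mul, hsum] at h
    exact h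
  have hr : Fintype.card ι = 3 := by
    rcases Nat.lt_or_ge (Fintype.card ι) 3 with h | h
    · have : Fintype.card ι * (n - 3) ≤ 2 * (n - 3) := Nat.mul_le_mul_right _ (by omega)
      omega
    · rcases Nat.eq_or_lt_of_le h with h | h
      · exact h.symm
      · have : 4 * n ≤ Fintype.card ι * n := Nat.mul_le_mul_right _ h
        omega
  let e : Fin 3 ≃ ι := (Fintype.equivFinOfCardEq hr).symm
  rw [← e.sum_comp, Fin.sum_univ_three] at hsum
  -- two sorted parameters
  have key : ∀ x y z a b c : ℕ, x * a = n → y * b = n → z * c = n → 2 ≤ a → a ≤ b → b ≤ c →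
      3 ≤ x → 3 ≤ y → 3 ≤ z → x + y + z = n + 2 → a ≤ 5 ∧ b ≤ 5 ∧ c ≤ 5 ∧ 3 ∣ n := by
    intro x y z a b c hx hy hz ha hab hbc x3 y3 z3 hs
    have hxy : y ≤ x := by
      by_contra h
      have : (x + 1) * a ≤ y * b := Nat.mul_le_mul (by omega) hab
      rw [add_mul] at this
      omega
    have hyz : z ≤ y := by
      by_contra h
      have : (y + 1) * b ≤ z * c := Nat.mul_le_mul (by omega) hbc
      rw [add_mul] at this
      omega
    have ha2 : a = 2 := by
      by_contra h
      have : x * 3 ≤ x * a := Nat.mul_le_mul_left _ (by omega)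
      omega
    subst ha2
    have hb3 : b = 3 := by
      by_contra h
      rcases Nat.lt_or_ge b 3 with h' | h'
      · obtain rfl : b = 2 := by omega
        omega
      · have : y * 4 ≤ y * b := Nat.mul_le_mul_left _ (by omega)
        omega
    subst hb3
    rcases Nat.lt_or_ge c 6 with h | h
    · exact ⟨by omega, by omega, by omega, hy ▸ dvd_mul_left 3 y⟩
    · have : z * 6 ≤ z * c := Nat.mul_le_mul_left _ h
      omega
  have hs' : o (e 0) + o (e 1) + o (e 2) = n + 2 := by
    have := hle (e 0); have := hle (e 1); have := hle (e 2)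
    omega
  have p0 := hok (e 0); have p1 := hok (e 1); have p2 := hok (e 2)
  have q0 := hk (e 0); have q1 := hk (e 1); have q2 := hk (e 2)
  have r0 := ho (e 0); have r1 := ho (e 1); have r2 := ho (e 2)
  rcases le_total (k (e 0)) (k (e 1)) with h01 | h01 <;> rcases le_total (k (e 1)) (k (e 2)) with h12 | h12 <;>
    rcases le_total (k (e 0)) (k (e 2)) with h02 | h02
  all_goals
    have main : k (e 0) ≤ 5 ∧ k (e 1) ≤ 5 ∧ k (e 2) ≤ 5 ∧ 3 ∣ n := by
      first
      | (have h := key _ _ _ _ _ _ p0 p1 p2 q0 h01 h12 r0 r1 r2 (by omega); tauto)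
      | (have h := key _ _ _ _ _ _ p0 p2 p1 q0 h02 h12 r0 r2 r1 (by omega); tauto)
      | (have h := key _ _ _ _ _ _ p1 p0 p2 q1 h01 h02 r1 r0 r2 (by omega); tauto)
      | (have h := key _ _ _ _ _ _ p1 p2 p0 q1 h12 h02 r1 r2 r0 (by omega); tauto)
      | (have h := key _ _ _ _ _ _ p2 p0 p1 q2 h02 h01 r2 r0 r1 (by omega); tauto)
      | (have h := key _ _ _ _ _ _ p2 p1 p0 q2 h12 h01 r2 r1 r0 (by omega); tauto)
    refine ⟨main.2.2.2, fun i => ?_⟩
    obtain ⟨j, rfl⟩ := e.surjective i
    fin_cases j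
    exacts [main.1, main.2.1, main.2.2.1]

/-- Elements preserving two different lines commute. -/
theorem commute_of_two_lines (hinj : Function.Injective ρ) (L₁ L₂ : Submodule ℂ V)
    (h1 : finrank ℂ L₁ = 1) (h2 : finrank ℂ L₂ = 1) (hne : L₁ ≠ L₂) {x y : G}
    (hx1 : L₁.map (ρ x) = L₁) (hx2 : L₂.map (ρ x) = L₂)
    (hy1 : L₁.map (ρ y) = L₁) (hy2 : L₂.map (ρ y) = L₂) : x * y = y * x := by
  have hsup : L₁ ⊔ L₂ = ⊤ := by
    refine Submodule.eq_top_of_finrank_eq ?_
    have h := Submodule.finrank_sup_add_finrank_inf_eq L₁ L₂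
    have hinf : L₁ ⊓ L₂ = ⊥ := by
      by_contra hb
      have h0 : 0 < finrank ℂ ↥(L₁ ⊓ L₂) :=
        Nat.pos_of_ne_zero fun h0 => hb (Submodule.finrank_eq_zero.mp h0)
      exact hne ((Submodule.eq_of_le_of_finrank_le inf_le_left (by omega)).symm.trans
        (Submodule.eq_of_le_of_finrank_le inf_le_right (by omega)))
    rw [hinf, finrank_bot, h1, h2] at h
    simp only [Module.finrank_fin_fun]
    omega
  have hcomm : ∀ L : Submodule ℂ V, finrank ℂ L = 1 → L.map (ρ x) = L → L.map (ρ y) = L →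
      ∀ v ∈ L, ρ x (ρ y v) = ρ y (ρ x v) := by
    intro L hL hx hy v hv
    obtain ⟨⟨w, hw⟩, -, hs⟩ := finrank_eq_one_iff'.mp hL
    obtain ⟨a, ha⟩ := hs ⟨ρ x w, hx.le ⟨w, hw, rfl⟩⟩
    obtain ⟨b, hb⟩ := hs ⟨ρ y w, hy.le ⟨w, hw, rfl⟩⟩
    obtain ⟨c, hc⟩ := hs ⟨v, hv⟩
    have ha' : ρ x w = a • w := (congrArg Subtype.val ha).symm
    have hb' : ρ y w = b • w := (congrArg Subtype.val hb).symm
    rw [show v = c • w from (congrArg Subtype.val hc).symm]
    simp only [map_smul, ha', hb', smul_smul]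
    congr 1
    ring
  refine hinj (LinearMap.ext fun v => ?_)
  rw [map_mul, map_mul, Module.End.mul_apply, Module.End.mul_apply]
  have hv : v ∈ L₁ ⊔ L₂ := by rw [hsup]; exact Submodule.mem_top
  obtain ⟨u, hu, w, hw, rfl⟩ := Submodule.mem_sup.mp hv
  rw [map_add, map_add, map_add, map_add, hcomm L₁ h1 hx1 hy1 u hu, hcomm L₂ h2 hx2 hy2 w hw]

theorem dichotomy [Fintype G] (hinj : Function.Injective ρ)
    (hline : ∀ L : Submodule ℂ V, finrank ℂ L = 1 → ∃ g, ¬ L.map (ρ g) ≤ L) :
    (∃ H : Subgroup G, H.Normal ∧ H.index ≤ 2 ∧ ∀ x ∈ H, ∀ y ∈ H, x * y = y * x) ∨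
    (3 ∣ Nat.card G ∧ ∀ g : G, g ∉ Subgroup.center G → ∃ k, k ≤ 5 ∧
      k * Nat.card (Subgroup.center G) ∣ Nat.card G ∧
      Nat.card (Subgroup.centralizer ({g} : Set G)) ≤ k * Nat.card (Subgroup.center G)) := by
  refine or_iff_not_imp_left.mpr fun hprim => ?_
  letI : MulAction G Line := lineAction ρ
  have hfix : ∀ (g : G) (L : Line), g • L = L ↔ L.1.map (ρ g) = L.1 := fun g L =>
    ⟨fun h => congrArg Subtype.val h, fun h => Subtype.ext h⟩
  set Z := Subgroup.center G with hZ
  have hns : ∀ g : G, g ∉ Z → ¬ ∃ c : ℂ, ∀ v, ρ g v = c • v := fun g hg h =>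
    hg ((scalar_iff_center ρ hline hinj g).mp h)
  have hZfix : ∀ g ∈ Z, ∀ L : Line, g • L = L := by
    intro g hg L
    obtain ⟨c, hc⟩ := (scalar_iff_center ρ hline hinj g).mpr hg
    rw [hfix, ← smul_le_iff]
    rintro _ ⟨v, hv, rfl⟩
    rw [hc]
    exact L.1.smul_mem c hv
  -- the special lines
  have hpair : ∀ g : G, g ∉ Z → ∃ L₁ L₂ : Line, L₁ ≠ L₂ ∧ ∀ L : Line, g • L = L ↔ L = L₁ ∨ L = L₂ := by
    intro g hg
    obtain ⟨L₁, L₂, hne, h1, h2, s1, s2, -, hall⟩ := two_lines ρ g (hns g hg)
    refine ⟨⟨L₁, h1⟩, ⟨L₂, h2⟩, fun e => hne (congrArg Subtype.val e), fun L => ⟨fun hL => ?_, ?_⟩⟩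
    · exact (hall L.1 L.2 ((hfix g L).mp hL).le).imp (fun e => Subtype.ext e) (fun e => Subtype.ext e)
    · rintro (rfl | rfl)
      · exact (hfix g _).mpr ((smul_le_iff ρ g _).mp s1)
      · exact (hfix g _).mpr ((smul_le_iff ρ g _).mp s2)
  obtain ⟨g₀, hg₀⟩ : ∃ g : G, g ∉ Z := by
    by_contra hall
    push Not at hall
    obtain ⟨g, hg⟩ := hline (ℂ ∙ (Pi.single 0 1 : Fin 2 → ℂ))
      (finrank_span_singleton (by simp))
    apply hg
    obtain ⟨c, hc⟩ := (scalar_iff_center ρ hline hinj g).mpr (hall g)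
    rintro _ ⟨v, hv, rfl⟩
    rw [hc]
    exact Submodule.smul_mem _ c hv
  let Ω : Set Line := {L | ∃ g : G, g ∉ Z ∧ g • L = L}
  have hΩ : Ω.Finite := by
    have : Ω = ⋃ g ∈ {g : G | g ∉ Z}, {L : Line | g • L = L} := by
      ext L; simp [Ω]
    rw [this]
    refine Set.Finite.biUnion (Set.toFinite _) fun g hg => ?_
    obtain ⟨L₁, L₂, -, h⟩ := hpair g hg
    exact ((Set.finite_singleton L₂).insert L₁).subset fun L hL => (h L).mp hL
  haveI : Fintype Ω := hΩ.fintype
  let hact : MulAction G Ω :=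
    { smul := fun g L => ⟨g • L.1, by
        obtain ⟨h, hh, hL⟩ := L.2
        refine ⟨g * h * g⁻¹, fun hm => hh ?_, ?_⟩
        · have := (inferInstance : Z.Normal).conj_mem _ hm g⁻¹
          simpa [mul_assoc] using this
        · rw [smul_smul, inv_mul_cancel_right, mul_smul, hL]⟩
      one_smul := fun L => Subtype.ext (one_smul G L.1)
      mul_smul := fun g h L => Subtype.ext (mul_smul g h L.1) }
  have hfixΩ : ∀ (g : G) (L : Ω), g • L = L ↔ g • L.1 = L.1 := fun g L =>
    ⟨fun h => congrArg Subtype.val h, fun h => Subtype.ext h⟩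
  have hst : ∀ L : Ω, Z ≤ MulAction.stabilizer G L := fun L g hg => (hfixΩ g L).mpr (hZfix g hg L.1)
  -- double counting
  have hdc : ∑ L : Ω, ((Nat.card (MulAction.stabilizer G L)) - Nat.card Z) =
      2 * (Nat.card G - Nat.card Z) := by
    have h1 : ∀ L : Ω, Nat.card (MulAction.stabilizer G L) - Nat.card Z =
        (Finset.univ.filter (fun g : G => g ∉ Z ∧ g • L = L)).card := by
      intro L
      rw [Nat.card_eq_fintype_card, Nat.card_eq_fintype_card, Fintype.card_subtype, Fintype.card_subtype,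
        ← Finset.card_sdiff_of_subset (fun g hg => by
          simp only [Finset.mem_filter, Finset.mem_univ, true_and] at hg ⊢
          exact hst L hg)]
      congr 1
      ext g
      simp [MulAction.mem_stabilizer_iff, and_comm]
    simp_rw [h1, Finset.card_filter]
    rw [Finset.sum_comm]
    have h2 : ∀ g : G, (∑ L : Ω, if g ∉ Z ∧ g • L = L then 1 else 0) = if g ∈ Z then 0 else 2 := by
      intro g
      by_cases hg : g ∈ Z
      · simp [hg]
      · simp only [hg, not_false_eq_true, true_and, if_false]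
        rw [← Finset.card_filter]
        obtain ⟨L₁, L₂, hne, h⟩ := hpair g hg
        rw [Finset.card_eq_two]
        refine ⟨⟨L₁, g, hg, (h L₁).mpr (Or.inl rfl)⟩, ⟨L₂, g, hg, (h L₂).mpr (Or.inr rfl)⟩,
          fun e => hne (congrArg Subtype.val e), ?_⟩
        ext L
        simp [hfixΩ, h, Subtype.ext_iff]
    simp_rw [h2]
    rw [Finset.sum_ite, Finset.sum_const_zero, zero_add, Finset.sum_const, smul_eq_mul, mul_comm]
    congr 1
    have := Finset.card_filter_add_card_filter_not (s := Finset.univ) (fun g : G => g ∈ Z)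
    rw [Finset.card_univ, ← Nat.card_eq_fintype_card] at this
    rw [Nat.card_eq_fintype_card (α := Z), Fintype.card_subtype]
    omega
  -- orbits
  let π : Ω → MulAction.orbitRel.Quotient G Ω := Quotient.mk _
  have hz0 : 0 < Nat.card Z := Nat.card_pos
  have hnG : Z.index * Nat.card Z = Nat.card G := Z.index_mul_card
  have horb : ∀ i : MulAction.orbitRel.Quotient G Ω, ∃ o k : ℕ, o * k = Z.index ∧ 2 ≤ k ∧ 3 ≤ o ∧
      ∑ L ∈ Finset.univ.filter (fun L => π L = i), (Nat.card (MulAction.stabilizer G L) - Nat.card Z) =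
        (Z.index - o) * Nat.card Z := by
    intro i
    obtain ⟨L, rfl⟩ := Quotient.exists_rep i
    set O := MulAction.orbit G L with hO
    have hfil : (Finset.univ.filter (fun M => π M = Quotient.mk _ L)) = O.toFinset := by
      ext M
      simp [π, O, Quotient.eq, MulAction.orbitRel_apply]
    obtain ⟨k, hk⟩ := Subgroup.card_dvd_of_le (hst L)
    have hos : Nat.card O * Nat.card (MulAction.stabilizer G L) = Nat.card G := by
      rw [← Nat.card_prod]
      exact Nat.card_congr (MulAction.orbitProdStabilizerEquivGroup G L)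
    have hok : Nat.card O * k = Z.index := by
      refine Nat.eq_of_mul_eq_mul_right hz0 ?_
      rw [hnG, ← hos, hk]; ring
    have hk2 : 2 ≤ k := by
      obtain ⟨g, hg, hL⟩ := L.2
      by_contra h
      apply hg
      have hle : Nat.card (MulAction.stabilizer G L) ≤ Nat.card Z := by
        rw [hk]
        calc Nat.card Z * k ≤ Nat.card Z * 1 := Nat.mul_le_mul_left _ (by omega)
          _ = _ := mul_one _
      rw [Subgroup.eq_of_le_of_card_ge (hst L) hle]
      exact (hfixΩ g L).mpr hL
    refine ⟨Nat.card O, k, hok, hk2, ?_, ?_⟩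
    · by_contra h
      have hpos : 0 < Nat.card O := by
        have : Nonempty O := ⟨⟨L, MulAction.mem_orbit_self L⟩⟩
        exact Nat.card_pos
      obtain ⟨g, hg⟩ := hline L.1.1 L.1.2
      have hgL : g • L ≠ L := fun e => hg ((hfix g L.1).mp ((hfixΩ g L).mp e)).le
      have hO2 : O = {L, g • L} := by
        refine (Set.eq_of_subset_of_ncard_le ?_ ?_ (Set.toFinite _)).symm
        · rintro x (h | h)
          · rw [h]; exact MulAction.mem_orbit_self L
          · rw [h]; exact MulAction.mem_orbit L g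
        · rw [Set.ncard_pair hgL.symm, ← Nat.card_coe_set_eq]; omega
      have hmem : ∀ (x : G) (M : Ω), M ∈ O → x • M ∈ O := fun x M hM => by
        rw [hO, ← MulAction.orbit_eq_iff.mpr hM]
        exact MulAction.mem_orbit M x
      have v : ∀ (x : G) (M M' : Ω), x • M = M' → M.1.1.map (ρ x) = M'.1.1 :=
        fun x M M' e => congrArg (fun T : Ω => T.1.1) e
      have hpairs : ∀ x : G, (x • L = L ∧ x • (g • L) = g • L) ∨ (x • L = g • L ∧ x • (g • L) = L) := fun x => by
        have e1 := hmem x L (MulAction.mem_orbit_self L)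
        have e2 := hmem x (g • L) (MulAction.mem_orbit L g)
        rw [hO2] at e1 e2
        rcases e1 with e1 | e1 <;> rcases e2 with e2 | e2
        · exact absurd (MulAction.injective x (e1.trans e2.symm)) hgL.symm
        · exact Or.inl ⟨e1, e2⟩
        · exact Or.inr ⟨e1, e2⟩
        · exact absurd (MulAction.injective x (e1.trans e2.symm)) hgL.symm
      have hidx : (MulAction.stabilizer G L).index ≤ 2 := by
        rw [MulAction.index_stabilizer, ← hO, ← Nat.card_coe_set_eq]
        omega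
      have hnor : (MulAction.stabilizer G L).Normal := by
        refine ⟨fun a ha x => ?_⟩
        rw [MulAction.mem_stabilizer_iff] at ha ⊢
        have hag : a • (g • L) = g • L := ((hpairs a).resolve_right fun h => hgL (ha.symm.trans h.1).symm).2
        rw [mul_smul, mul_smul]
        rcases hpairs x⁻¹ with h | h <;> rw [h.1]
        · rw [ha, ← h.1, smul_inv_smul, h.1]
        · rw [hag, ← h.1, smul_inv_smul]
      refine hprim ⟨MulAction.stabilizer G L, hnor, hidx, fun a ha b hb => ?_⟩
      rw [MulAction.mem_stabilizer_iff] at ha hb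
      exact commute_of_two_lines ρ hinj L.1.1 (g • L).1.1 L.1.2 (g • L).1.2
        (fun e => hgL (Subtype.ext (Subtype.ext e.symm))) (v a _ _ ha)
        (v a _ _ ((hpairs a).resolve_right fun h => hgL (ha.symm.trans h.1).symm).2) (v b _ _ hb)
        (v b _ _ ((hpairs b).resolve_right fun h => hgL (hb.symm.trans h.1).symm).2)
    · rw [hfil]
      rw [Finset.sum_congr rfl (g := fun _ => Nat.card (MulAction.stabilizer G L) - Nat.card Z)]
      · rw [Finset.sum_const, smul_eq_mul, Set.toFinset_card, ← Nat.card_eq_fintype_card, Nat.mul_sub,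
          hos, ← hnG, Nat.sub_mul]
      · intro M hM
        rw [Set.mem_toFinset] at hM
        obtain ⟨x, rfl⟩ := hM
        congr 1
        exact Nat.card_congr (MulAction.stabilizerEquivStabilizerOfOrbitRel
          (show (MulAction.orbitRel G Ω) (x • L) L from ⟨x, rfl⟩)).toEquiv
  choose o k hok hk ho hsum using horb
  have harith := orbit_arith Z.index o k (by
      have h1 : Z.index ≠ 1 := fun h => hg₀ (Subgroup.index_eq_one.mp h ▸ Subgroup.mem_top g₀)
      have := Z.index_ne_zero_of_finite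
      omega) hok hk ho (by
      rw [← Finset.sum_fiberwise Finset.univ π] at hdc
      simp_rw [hsum] at hdc
      refine Nat.eq_of_mul_eq_mul_right hz0 ?_
      rw [Finset.sum_mul, hdc, mul_assoc, Nat.sub_mul, one_mul, hnG])
  refine ⟨harith.1.trans (hnG ▸ dvd_mul_right _ _), fun g hg => ?_⟩
  obtain ⟨L₁, -, -, h1, -, s1, -, ⟨a, ha⟩, -⟩ := two_lines ρ g (hns g hg)
  set L : Ω := ⟨⟨L₁, h1⟩, g, hg, (hfix g ⟨L₁, h1⟩).mpr ((smul_le_iff ρ g L₁).mp s1)⟩ with hLdef
  have hCle : Subgroup.centralizer ({g} : Set G) ≤ MulAction.stabilizer G L := by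
    intro x hx
    rw [Subgroup.mem_centralizer_singleton_iff] at hx
    refine (hfixΩ x L).mpr ((hfix x _).mpr ((smul_le_iff ρ x L₁).mp ?_))
    rintro _ ⟨w, hw, rfl⟩
    rw [ha] at hw ⊢
    rw [SetLike.mem_coe, Module.End.mem_eigenspace_iff] at hw
    rw [Module.End.mem_eigenspace_iff, ← Module.End.mul_apply, ← map_mul, ← hx, map_mul,
      Module.End.mul_apply, hw, map_smul]
  -- the order of the stabiliser
  obtain ⟨k', hk'⟩ := Subgroup.card_dvd_of_le (hst L)
  have hk5 : k' ≤ 5 := by
    have hs := hsum (π L)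
    have hO : ∀ M ∈ Finset.univ.filter (fun M => π M = π L),
        Nat.card (MulAction.stabilizer G M) - Nat.card Z = Nat.card Z * k' - Nat.card Z := fun M hM => by
      rw [Finset.mem_filter] at hM
      rw [← hk']
      congr 1
      exact Nat.card_congr (MulAction.stabilizerEquivStabilizerOfOrbitRel (Quotient.exact hM.2)).toEquiv
    have hcard : (Finset.univ.filter (fun M => π M = π L)).card * k' = Z.index := by
      have hf : Finset.univ.filter (fun M => π M = π L) = (MulAction.orbit G L).toFinset := by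
        ext M
        simp [π, Quotient.eq, MulAction.orbitRel_apply]
      have hos : Nat.card (MulAction.orbit G L) * Nat.card (MulAction.stabilizer G L) = Nat.card G := by
        rw [← Nat.card_prod]
        exact Nat.card_congr (MulAction.orbitProdStabilizerEquivGroup G L)
      refine Nat.eq_of_mul_eq_mul_right hz0 ?_
      rw [hnG, ← hos, hk', hf, Set.toFinset_card, ← Nat.card_eq_fintype_card]; ring
    rw [Finset.sum_congr rfl hO, Finset.sum_const, smul_eq_mul] at hs
    have e1 := hok (π L)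
    have e2 := ho (π L)
    have e3 := hk (π L)
    have e4 := harith.2 (π L)
    set c := (Finset.univ.filter (fun M => π M = π L)).card
    rw [Nat.mul_sub, show c * (Nat.card Z * k') = Z.index * Nat.card Z by rw [← hcard]; ring,
      ← Nat.sub_mul] at hs
    have hs' := Nat.eq_of_mul_eq_mul_right hz0 hs
    have hcle : c ≤ Z.index := hcard ▸ Nat.le_mul_of_pos_right _ (Nat.pos_of_ne_zero fun h0 => by
      rw [h0, mul_zero] at hcard; exact Z.index_ne_zero_of_finite hcard.symm)
    have hoc : c = o (π L) := by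
      have : o (π L) ≤ Z.index := e1 ▸ Nat.le_mul_of_pos_right _ (by omega)
      omega
    rw [hoc, ← e1] at hcard
    rw [Nat.eq_of_mul_eq_mul_left (by omega) hcard]
    exact e4
  refine ⟨k', hk5, ?_, ?_⟩
  · rw [mul_comm, ← hk']; exact Subgroup.card_subgroup_dvd_card _
  · rw [mul_comm, ← hk']; exact Subgroup.card_le_of_le hCle

/-- The dichotomy for characters. -/
theorem dichotomy_char [Fintype G] {χ : G → ℂ} (hχ : Cfsg.IsCharacter G χ)
    (hfaith : ∀ g : G, χ g = χ 1 → g = 1) (h2 : Cfsg.charDegree χ = 2) :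
    (∃ H : Subgroup G, H.Normal ∧ H.index ≤ 2 ∧ ∀ x ∈ H, ∀ y ∈ H, x * y = y * x) ∨
    (3 ∣ Nat.card G ∧ ∀ g : G, g ∉ Subgroup.center G → ∃ k, k ≤ 5 ∧
      k * Nat.card (Subgroup.center G) ∣ Nat.card G ∧
      Nat.card (Subgroup.centralizer ({g} : Set G)) ≤ k * Nat.card (Subgroup.center G)) := by
  obtain ⟨n, σ, hσ⟩ := hχ
  obtain rfl : n = 2 := by
    rw [← hσ, Cfsg.charDegree, Representation.char_one] at h2
    simpa using h2
  have hinj : Function.Injective σ := by
    intro x y h
    have h1 : σ (x * y⁻¹) = 1 := by rw [map_mul, h, ← map_mul, mul_inv_cancel, map_one]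
    refine mul_inv_eq_one.mp (hfaith _ ?_)
    rw [← hσ, Representation.character, Representation.character, h1, map_one σ]
  by_cases hline : ∀ L : Submodule ℂ (Fin 2 → ℂ), finrank ℂ L = 1 → ∃ g, ¬ L.map (σ g) ≤ L
  · exact dichotomy σ hinj hline
  left
  push Not at hline
  obtain ⟨L, hL, hinv⟩ := hline
  refine ⟨⊤, inferInstance, by simp, fun x _ y _ => ?_⟩
  obtain ⟨⟨w, hw⟩, hw0, hs⟩ := finrank_eq_one_iff'.mp hL
  have hw0' : w ≠ 0 := fun h => hw0 (Subtype.ext h)
  -- eigenvalues on the line and on the quotient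
  have hex : ∀ g : G, ∃ a : ℂ, σ g w = a • w := fun g => by
    obtain ⟨a, ha⟩ := hs ⟨σ g w, hinv g ⟨w, hw, rfl⟩⟩
    exact ⟨a, (congrArg Subtype.val ha).symm⟩
  choose a ha using hex
  have hdim : finrank ℂ ((Fin 2 → ℂ) ⧸ L) = 1 := by
    have := L.finrank_quotient_add_finrank
    simp [hL] at this; omega
  obtain ⟨q, hq0, hqs⟩ := finrank_eq_one_iff'.mp hdim
  have hex2 : ∀ g : G, ∃ b : ℂ, L.mapQ L (σ g) (Submodule.map_le_iff_le_comap.mp (hinv g)) q = b • q := fun g => by
    obtain ⟨b, hb⟩ := hqs (L.mapQ L (σ g) (Submodule.map_le_iff_le_comap.mp (hinv g)) q)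
    exact ⟨b, hb.symm⟩
  choose b hb using hex2
  have hcancel : ∀ (W : Type) [AddCommGroup W] [Module ℂ W] (τ : Representation ℂ G W) (u : W),
      u ≠ 0 → ∀ e : G → ℂ, (∀ g, τ g u = e g • u) → τ (x * y * x⁻¹ * y⁻¹) u = u := by
    intro W _ _ τ u hu e he
    have hmul : ∀ g h : G, e (g * h) = e g * e h := fun g h => smul_left_injective ℂ hu (by
      show e (g * h) • u = (e g * e h) • u
      rw [← he, map_mul, Module.End.mul_apply, he h, map_smul, he g, smul_smul, mul_comm])
    have hone : e 1 = 1 := smul_left_injective ℂ hu (by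
      show e 1 • u = (1 : ℂ) • u
      rw [← he, map_one, one_smul]; rfl)
    have h1 : e x * e x⁻¹ = 1 := by rw [← hmul, mul_inv_cancel, hone]
    have h2 : e y * e y⁻¹ = 1 := by rw [← hmul, mul_inv_cancel, hone]
    rw [he, hmul, hmul, hmul, show e x * e y * e x⁻¹ * e y⁻¹ = (e x * e x⁻¹) * (e y * e y⁻¹) by ring,
      h1, h2, one_mul, one_smul]
  set c := x * y * x⁻¹ * y⁻¹ with hc
  have hc1 : σ c w = w := hcancel _ σ w hw0' a ha
  let τ : Representation ℂ G ((Fin 2 → ℂ) ⧸ L) :=
    { toFun := fun g => L.mapQ L (σ g) (Submodule.map_le_iff_le_comap.mp (hinv g))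
      map_one' := by
        refine Submodule.linearMap_qext _ (LinearMap.ext fun v => ?_)
        simp
      map_mul' := fun g h => by
        refine Submodule.linearMap_qext _ (LinearMap.ext fun v => ?_)
        simp [map_mul] }
  have hc2 : τ c q = q := hcancel _ τ q hq0 b hb
  have hN : ∀ v : Fin 2 → ℂ, σ c v - v ∈ L := fun v => by
    obtain ⟨r, hr⟩ := hqs (Submodule.Quotient.mk v)
    rw [← Submodule.Quotient.mk_eq_zero, Submodule.Quotient.mk_sub, sub_eq_zero]
    show τ c (Submodule.Quotient.mk v) = Submodule.Quotient.mk v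
    rw [← hr, map_smul, hc2]
  have hL1 : ∀ u ∈ L, σ c u = u := fun u hu => by
    obtain ⟨r, hr⟩ := hs ⟨u, hu⟩
    rw [show u = r • w from (congrArg Subtype.val hr).symm, map_smul, hc1]
  have hfix : σ c = 1 := by
    refine LinearMap.ext fun v => ?_
    set d := σ c v - v with hd
    have hv : σ c v = v + d := by rw [hd]; abel
    have hpow : ∀ i : ℕ, σ (c ^ i) v = v + (i : ℂ) • d := fun i => by
      induction i with
      | zero => simp
      | succ i ih =>
        rw [pow_succ', map_mul, Module.End.mul_apply, ih, map_add, map_smul, hL1 _ (hN v), hv]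
        push_cast
        rw [add_smul, one_smul]; abel
    have h0 := hpow (orderOf c)
    rw [pow_orderOf_eq_one, map_one, Module.End.one_apply, eq_comm, add_eq_left, smul_eq_zero] at h0
    rcases h0 with h0 | h0
    · exact absurd (Nat.cast_eq_zero.mp h0) (orderOf_pos c).ne'
    · rw [hv, h0, add_zero]; rfl
  have hc0 : c = 1 := hinj (hfix.trans (map_one σ).symm)
  calc x * y = c * (y * x) := by rw [hc]; group
    _ = y * x := by rw [hc0, one_mul]

end CfsgLib.KGVTrans
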