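import Mathlib
import Cfsg.Agent.Lib.TransLinear.Transitive

/-!
# Class numbers in the semilinear case

A transitive group of semilinear maps `x ↦ a σ(x)` of a field with `q` elements, of order prime to
the characteristic: `k(G) + k(G_v) ≤ q`, and equality is rare.
-/

set_option autoImplicit false
set_option linter.unusedSectionVars false
set_option linter.style.haveILetI false
open scoped Classical

namespace CfsgLib.KGVTrans

theorem card_conjClasses_le (H : Type*) [Group H] [Finite H] :
    Nat.card (ConjClasses H) ≤ Nat.card H :=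
  Nat.card_le_card_of_surjective ConjClasses.mk ConjClasses.mk_surjective

/-- The number of commuting pairs as a sum of centraliser orders. -/
theorem sum_card_centralizer (H : Type*) [Group H] [Fintype H] :
    ∑ g : H, Nat.card (Subgroup.centralizer ({g} : Set H)) = Nat.card (ConjClasses H) * Nat.card H := by
  rw [← card_comm_eq_card_conjClasses_mul_card, ← Nat.card_sigma]
  exact Nat.card_congr
    { toFun := fun t => ⟨(t.2.1, t.1), Subgroup.mem_centralizer_singleton_iff.mp t.2.2⟩
      invFun := fun t => ⟨t.1.2, t.1.1, Subgroup.mem_centralizer_singleton_iff.mpr t.2⟩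
      left_inv := fun _ => rfl
      right_inv := fun _ => rfl }

theorem arith {p n d a f s k : ℕ} (hp : p.Prime) (hn : 0 < n) (hd : d ∣ n) (hpd : ¬ p ∣ d)
    (hd2 : 2 ≤ d) (hdvd : p ^ n - 1 ∣ a * d) (ha : a ≤ p ^ n - 1) (hf : (f + 1) ^ 2 ≤ p ^ n)
    (hs : s ≤ d) (hk : k * d ≤ a + (d - 1) * (d + 1) * f) :
    k + s ≤ p ^ n ∧ (k + s = p ^ n → (p ^ n = 8 ∧ a * d = 21) ∨ (p ^ n = 9 ∧ a * d = 16)) := by
  obtain ⟨e, rfl⟩ := Nat.exists_eq_add_of_le hd2
  have hdd : (2 + e - 1) * (2 + e + 1) = (e + 1) * (e + 3) := by
    rw [show 2 + e - 1 = e + 1 by omega, show 2 + e + 1 = e + 3 by omega]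
  rw [hdd] at hk
  set q := p ^ n with hq
  have hq1 : 1 < q := Nat.one_lt_pow hn.ne' hp.one_lt
  have htot : (k + s) * (2 + e) ≤ a + (e + 1) * (e + 3) * f + (2 + e) * (2 + e) := by
    have hse := Nat.mul_le_mul_right (2 + e) hs
    rw [add_mul]; omega
  rcases Nat.lt_or_ge (k + s) q with hlt | hge
  · exact ⟨hlt.le, fun h => absurd h hlt.ne⟩
  have h1 : q * (2 + e) ≤ (k + s) * (2 + e) := Nat.mul_le_mul_right _ hge
  have h2 : q ≤ (e + 3) * (f + 1) := by
    have : a + 1 ≤ q := by omega
    have e1 : q * (2 + e) = q + (e + 1) * q := by ring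
    have e2 : (e + 1) * ((e + 3) * (f + 1)) + 1 = (e + 1) * (e + 3) * f + (2 + e) * (2 + e) := by ring
    have h3 : (e + 1) * q ≤ (e + 1) * ((e + 3) * (f + 1)) := by omega
    exact Nat.le_of_mul_le_mul_left h3 (by omega)
  have h3 : f + 1 ≤ e + 3 := by
    have h' : (f + 1) * (f + 1) ≤ (e + 3) * (f + 1) := by rw [← pow_two]; exact hf.trans h2
    exact Nat.le_of_mul_le_mul_right h' (by omega)
  have h4 : q ≤ (e + 3) ^ 2 := by
    rw [pow_two]; exact h2.trans (Nat.mul_le_mul_left _ h3)
  have hn2 : 2 + e ≤ n := Nat.le_of_dvd hn hd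
  have he : e ≤ 3 := by
    by_contra he
    push Not at he
    have h5 : 2 ^ (2 + e) ≤ (e + 3) ^ 2 :=
      ((Nat.pow_le_pow_right two_pos hn2).trans (Nat.pow_le_pow_left hp.two_le n)).trans (by omega)
    have h6 : ∀ e, 4 ≤ e → (e + 3) ^ 2 < 2 ^ (2 + e) := fun e he => by
      induction e, he using Nat.le_induction with
      | base => norm_num
      | succ e he ih => rw [← add_assoc, pow_succ 2]; nlinarith
    exact absurd h5 (h6 e he).not_ge
  have hpn : p ^ (2 + e) ≤ (e + 3) ^ 2 := (Nat.pow_le_pow_right hp.pos hn2).trans h4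
  interval_cases e
  · -- d = 2
    have hp3 : p = 3 := by
      have : p ≤ 3 := by
        by_contra hc
        have := Nat.pow_le_pow_left (show 4 ≤ p by omega) 2
        norm_num at this hpn; omega
      have := hp.two_le
      interval_cases p
      · exact absurd (by norm_num) hpd
      · rfl
    subst hp3
    have hn' : n = 2 := by
      by_contra hne
      have : 3 ^ 3 ≤ q := Nat.pow_le_pow_right (by norm_num) (by omega)
      omega
    subst hn'
    norm_num [hq] at *
    have hf2 : f ≤ 2 := by
      by_contra hc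
      have := Nat.pow_le_pow_left (show 4 ≤ f + 1 by omega) 2
      norm_num at this; omega
    have : a = 8 := by omega
    exact ⟨by omega, fun _ => by omega⟩
  · -- d = 3
    have hp2 : p = 2 := by
      have : p ≤ 2 := by
        by_contra hc
        have := Nat.pow_le_pow_left (show 3 ≤ p by omega) 3
        norm_num at this hpn; omega
      have := hp.two_le
      omega
    subst hp2
    have hn' : n = 3 := by
      obtain ⟨j, rfl⟩ := hd
      by_contra hne
      have : 2 ^ 6 ≤ q := Nat.pow_le_pow_right (by norm_num) (by omega)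
      omega
    subst hn'
    norm_num [hq] at *
    have hf2 : f ≤ 1 := by
      by_contra hc
      have := Nat.pow_le_pow_left (show 3 ≤ f + 1 by omega) 2
      norm_num at this; omega
    have : a = 7 := by omega
    exact ⟨by omega, fun _ => by omega⟩
  · -- d = 4
    exfalso
    have hp2 : p = 2 := by
      have : p ≤ 2 := by
        by_contra hc
        have := Nat.pow_le_pow_left (show 3 ≤ p by omega) 4
        norm_num at this hpn; omega
      have := hp.two_le
      omega
    exact hpd (by rw [hp2]; norm_num)
  · -- d = 5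
    exfalso
    have hp2 : p = 2 := by
      have : p ≤ 2 := by
        by_contra hc
        have := Nat.pow_le_pow_left (show 3 ≤ p by omega) 5
        norm_num at this hpn; omega
      have := hp.two_le
      omega
    subst hp2
    have hn' : n = 5 := by
      obtain ⟨j, rfl⟩ := hd
      by_contra hne
      have : 2 ^ 10 ≤ q := Nat.pow_le_pow_right (by norm_num) (by omega)
      omega
    subst hn'
    norm_num [hq] at *
    have : f ≤ 4 := by
      by_contra hc
      have := Nat.pow_le_pow_left (show 6 ≤ f + 1 by omega) 2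
      norm_num at this; omega
    omega

/-- Fixed points of a nontrivial automorphism of a finite field. -/
theorem card_fixed_sq_le {F : Type*} [Field F] [Finite F] (σ : F ≃+* F) (hσ : σ ≠ RingEquiv.refl F) :
    Nat.card {x : F // σ x = x} ^ 2 ≤ Nat.card F := by
  set K := RingHom.eqLocusField (σ : F →+* F) (RingHom.id F)
  have hcard : Nat.card {x : F // σ x = x} = Nat.card K :=
    Nat.card_congr (Equiv.subtypeEquivRight fun x => Iff.rfl)
  haveI : Module.Finite K F := Module.Finite.of_finite
  rw [hcard, Module.natCard_eq_pow_finrank (K := K) (V := F)]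
  refine Nat.pow_le_pow_right Nat.card_pos ?_
  by_contra h
  have hpos : 0 < Module.finrank K F := Module.finrank_pos
  have h1 : Module.finrank K F = 1 := by omega
  apply hσ
  ext x
  obtain ⟨c, hc⟩ := (finrank_eq_one_iff_of_nonzero' (1 : F) one_ne_zero).mp h1 x
  have : x ∈ K := by
    rw [← hc]
    show (c : F) • (1 : F) ∈ K
    rw [smul_eq_mul, mul_one]
    exact c.2
  exact this

variable {G : Type*} [Group G] [Finite G] {p : ℕ} [hp : Fact p.Prime] {V : Type*} [AddCommGroup V]
  [Module (ZMod p) V] [Finite V]

theorem semilinear_bound (ρ : G →* (V ≃ₗ[ZMod p] V)) (hρ : Function.Injective ρ)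
    (htrans : ∀ v w : V, v ≠ 0 → w ≠ 0 → ∃ g : G, ρ g v = w) (hG : ¬ p ∣ Nat.card G)
    {F : Type} [Field F] [Finite F] (e : V ≃+ F)
    (hsl : ∀ g : G, ∃ (a : F) (σ : F ≃+* F), ∀ v : V, e (ρ g v) = a * σ (e v))
    (S : Subgroup G) (v₀ : V) (hv₀ : v₀ ≠ 0) (hS : ∀ g, g ∈ S ↔ ρ g v₀ = v₀) :
    Nat.card (ConjClasses G) + Nat.card (ConjClasses S) ≤ Nat.card V ∧
      (Nat.card (ConjClasses G) + Nat.card (ConjClasses S) = Nat.card V →
        IsCyclic G ∨ (Nat.card V = 8 ∧ Nat.card G = 21) ∨ (Nat.card V = 9 ∧ Nat.card G = 16)) := by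
  haveI : Fintype G := Fintype.ofFinite G
  haveI : Fintype F := Fintype.ofFinite F
  haveI : Nontrivial V := ⟨⟨v₀, 0, hv₀⟩⟩
  have hpF : ∀ x : F, p • x = 0 := fun x => by
    obtain ⟨v, rfl⟩ := e.surjective x
    rw [← map_nsmul, ← Nat.cast_smul_eq_nsmul (ZMod p), ZMod.natCast_self, zero_smul, map_zero]
  haveI : CharP F p := by
    refine CharP.congr (ringChar F) ?_
    refine ((Nat.prime_dvd_prime_iff_eq (CharP.char_is_prime F (ringChar F)) hp.out).mp ?_)
    rw [← ringChar.spec]
    simpa using hpF 1
  letI : Algebra (ZMod p) F := ZMod.algebra F p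
  haveI : Module.Finite (ZMod p) F := Module.Finite.of_finite
  set n := Module.finrank (ZMod p) F with hn
  have hq : Nat.card V = p ^ n := by
    rw [Nat.card_congr e.toEquiv, Module.natCard_eq_pow_finrank (K := ZMod p) (V := F), Nat.card_zmod]
  have hnpos : 0 < n := Module.finrank_pos
  choose α σ hσ using hsl
  have huniq : ∀ g (b : F) (τ : F ≃+* F), (∀ v, e (ρ g v) = b * τ (e v)) → α g = b ∧ σ g = τ := by
    intro g b τ h
    have h1 : α g = b := by
      have := (hσ g (e.symm 1)).symm.trans (h (e.symm 1))
      simpa using this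
    refine ⟨h1, RingEquiv.ext fun x => ?_⟩
    have hb : b ≠ 0 := fun hb => by
      have := h (e.symm 1)
      rw [hb, zero_mul, map_eq_zero_iff e e.injective, LinearEquiv.map_eq_zero_iff,
        map_eq_zero_iff e.symm e.symm.injective] at this
      exact one_ne_zero this
    have := (hσ g (e.symm x)).symm.trans (h (e.symm x))
    rw [h1, e.apply_symm_apply] at this
    exact mul_left_cancel₀ hb this
  have hα : ∀ g, α g ≠ 0 := fun g hb => by
    have := hσ g (e.symm 1)
    rw [hb, zero_mul, map_eq_zero_iff e e.injective, LinearEquiv.map_eq_zero_iff,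
      map_eq_zero_iff e.symm e.symm.injective] at this
    exact one_ne_zero this
  have hmul : ∀ g h, α (g * h) = α g * σ g (α h) ∧ σ (g * h) = (σ h).trans (σ g) := fun g h =>
    huniq _ _ _ fun v => by
      rw [map_mul, LinearEquiv.mul_apply, hσ g, hσ h, map_mul, RingEquiv.trans_apply, mul_assoc]
  have hone : α 1 = 1 ∧ σ 1 = RingEquiv.refl F := huniq _ _ _ fun v => by simp
  let alg : (F ≃+* F) → (F ≃ₐ[ZMod p] F) := fun τ => AlgEquiv.ofRingEquiv (f := τ) fun x => by
    exact RingHom.congr_fun (Subsingleton.elim ((τ : F →+* F).comp (algebraMap (ZMod p) F)) (algebraMap (ZMod p) F)) x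
  let φ : G →* (F ≃ₐ[ZMod p] F) :=
    { toFun := fun g => alg (σ g)
      map_one' := AlgEquiv.ext fun x => by show σ 1 x = x; rw [hone.2]; rfl
      map_mul' := fun g h => AlgEquiv.ext fun x => by show σ (g * h) x = σ g (σ h x); rw [(hmul g h).2]; rfl }
  set A := φ.ker with hA
  have hmemA : ∀ g, g ∈ A ↔ σ g = RingEquiv.refl F := fun g => by
    rw [hA, MonoidHom.mem_ker]
    exact ⟨fun h => RingEquiv.ext fun x => AlgEquiv.congr_fun h x,
      fun h => AlgEquiv.ext fun x => by show σ g x = x; rw [h]; rfl⟩
  set d := Nat.card φ.range with hd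
  set a := Nat.card A with ha
  have had : a * d = Nat.card G := by
    rw [hd, ← Subgroup.index_ker, ha, hA, Subgroup.card_mul_index]
  have hdn : d ∣ n := by
    rw [hn, ← IsGalois.card_aut_eq_finrank (ZMod p) F]
    exact Subgroup.card_subgroup_dvd_card _
  have hinjA : ∀ g h : G, g ∈ A → h ∈ A → α g = α h → g = h := fun g h hg hh he =>
    hρ (LinearEquiv.ext fun v => e.injective (by
      rw [hσ g, hσ h, he, (hmemA g).mp hg, (hmemA h).mp hh]))
  have hcardF : Nat.card F = p ^ n := by rw [← hq, Nat.card_congr e.toEquiv]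
  have haq : a ≤ p ^ n - 1 := by
    rw [← hcardF, ← Nat.card_units]
    exact Nat.card_le_card_of_injective (fun g : A => Units.mk0 (α g) (hα g)) fun g h he =>
      Subtype.ext (hinjA g h g.2 h.2 (congrArg Units.val he))
  have hdvd : p ^ n - 1 ∣ a * d := by
    rw [had, ← hq]
    exact TransLinear.card_sub_one_dvd htrans
  set s := Nat.card S with hsdef
  have hSA : ∀ g ∈ S, g ∈ A → g = 1 := fun g hg hgA => hinjA g 1 hgA (one_mem _) (by
    have h := hσ g v₀
    rw [(hS g).mp hg, (hmemA g).mp hgA, RingEquiv.refl_apply] at h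
    have he0 : e v₀ ≠ 0 := (map_ne_zero_iff e e.injective).mpr hv₀
    rw [hone.1]
    exact mul_right_cancel₀ he0 (by rw [one_mul]; exact h.symm))
  have hsd : s ≤ d := by
    refine Nat.card_le_card_of_injective (fun g : S => (⟨φ g, g, rfl⟩ : φ.range)) fun g h he => ?_
    have he' : φ g = φ h := congrArg Subtype.val he
    have h1 : φ (g⁻¹ * h : S).1 = 1 := by
      rw [Subgroup.coe_mul, Subgroup.coe_inv, map_mul, map_inv, he', inv_mul_cancel]
    have h2 := hSA _ (g⁻¹ * h).2 h1
    rw [Subgroup.coe_mul, Subgroup.coe_inv] at h2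
    exact Subtype.ext (inv_mul_eq_one.mp h2)
  have hkS := card_conjClasses_le S
  -- the largest field of fixed points
  set f := (Finset.univ : Finset G).sup fun g =>
    if σ g = RingEquiv.refl F then 0 else Nat.card {x : F // σ g x = x} - 1 with hfdef
  have hf : (f + 1) ^ 2 ≤ p ^ n := by
    obtain ⟨g, -, hg⟩ := Finset.exists_mem_eq_sup (Finset.univ : Finset G) ⟨1, Finset.mem_univ _⟩
      fun g => if σ g = RingEquiv.refl F then 0 else Nat.card {x : F // σ g x = x} - 1
    rw [hfdef, hg]
    split_ifs with h
    · simpa using Nat.one_le_pow n p hp.out.pos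
    · have : 0 < Nat.card {x : F // σ g x = x} := by
        haveI : Nonempty {x : F // σ g x = x} := ⟨⟨1, map_one _⟩⟩
        exact Nat.card_pos
      rw [Nat.sub_add_cancel this, ← hcardF]
      exact card_fixed_sq_le _ h
  have hCA : ∀ h : G, h ∉ A →
      Nat.card {g : A // Commute (g : G) h} ≤ f := by
    intro h hh
    have hne : σ h ≠ RingEquiv.refl F := fun e' => hh ((hmemA h).mpr e')
    refine le_trans ?_ (Finset.le_sup (f := fun g => if σ g = RingEquiv.refl F then 0 else
      Nat.card {x : F // σ g x = x} - 1) (Finset.mem_univ h))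
    show _ ≤ if σ h = RingEquiv.refl F then 0 else Nat.card {x : F // σ h x = x} - 1
    rw [if_neg hne]
    have hz : Nat.card {x : F // σ h x = x} - 1 = Nat.card {x : {x : F // σ h x = x} // x ≠ ⟨0, map_zero _⟩} := by
      rw [Nat.card_eq_fintype_card, Nat.card_eq_fintype_card, Fintype.card_subtype_compl, Fintype.card_subtype_eq]
    rw [hz]
    refine Nat.card_le_card_of_injective (fun g => ⟨⟨α g.1.1, ?_⟩, fun h0 => hα _ (congrArg Subtype.val h0)⟩)
      fun g g' he => Subtype.ext (Subtype.ext (hinjA _ _ g.1.2 g'.1.2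
        (congrArg (fun x => x.1.1) he)))
    have h1 := (hmul g.1.1 h).1
    rw [g.2.eq, (hmul h g.1.1).1, (hmemA _).mp g.1.2, RingEquiv.refl_apply, mul_comm] at h1
    exact mul_right_cancel₀ (hα h) h1
  rcases Nat.lt_or_ge d 2 with hd1 | hd2
  · -- no field automorphisms
    have hd1 : d = 1 := by
      have : 0 < d := Nat.card_pos
      omega
    have hAt : A = ⊤ := Subgroup.eq_top_of_card_eq A (by rw [← had, hd1, mul_one])
    have hcyc : IsCyclic G := by
      let ι : G →* F :=
        { toFun := α
          map_one' := hone.1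
          map_mul' := fun g h => by
            rw [(hmul g h).1, (hmemA g).mp (hAt ▸ Subgroup.mem_top g), RingEquiv.refl_apply] }
      exact isCyclic_of_subgroup_isDomain ι fun g h he =>
        hinjA g h (hAt ▸ Subgroup.mem_top g) (hAt ▸ Subgroup.mem_top h) he
    refine ⟨?_, fun _ => Or.inl hcyc⟩
    have hk1 := card_conjClasses_le G
    have : Nat.card G ≤ p ^ n - 1 := by rw [← had, hd1, mul_one]; exact haq
    have := Nat.one_le_pow n p hp.out.pos
    omega
  have hk : Nat.card (ConjClasses G) * d ≤ a + (d - 1) * (d + 1) * f := by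
    have hapos : 0 < a := Nat.card_pos
    suffices hmain : a * (Nat.card (ConjClasses G) * d) ≤ a * (a + (d - 1) * (d + 1) * f) from
      Nat.le_of_mul_le_mul_left hmain hapos
    have hC : ∀ g : G, Nat.card (Subgroup.centralizer ({g} : Set G)) =
        Nat.card {h : G // Commute h g} := fun g =>
      Nat.card_congr (Equiv.subtypeEquivRight fun h => Subgroup.mem_centralizer_singleton_iff)
    -- the elements of the kernel
    have hin : ∑ g : A, Nat.card (Subgroup.centralizer ({(g : G)} : Set G)) ≤ a * a + (a * d - a) * f := by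
      calc ∑ g : A, Nat.card (Subgroup.centralizer ({(g : G)} : Set G))
          = Nat.card (Σ g : A, {h : G // Commute h g}) := by
            rw [Nat.card_sigma]; exact Finset.sum_congr rfl fun g _ => hC g
        _ = Nat.card (Σ h : G, {g : A // Commute (g : G) h}) := Nat.card_congr
            { toFun := fun t => ⟨t.2.1, t.1, t.2.2.symm⟩
              invFun := fun t => ⟨t.2.1, t.1, t.2.2.symm⟩
              left_inv := fun _ => rfl
              right_inv := fun _ => rfl }
        _ = ∑ h : G, Nat.card {g : A // Commute (g : G) h} := Nat.card_sigma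
        _ ≤ ∑ h : G, if h ∈ A then a else f := by
            refine Finset.sum_le_sum fun h _ => ?_
            split_ifs with hh
            · exact Nat.card_le_card_of_injective Subtype.val Subtype.val_injective
            · exact hCA h hh
        _ = _ := by
            rw [Finset.sum_ite, Finset.sum_const, Finset.sum_const, smul_eq_mul, smul_eq_mul]
            have e1 : (Finset.univ.filter fun h : G => h ∈ A).card = a := by
              rw [ha, Nat.card_eq_fintype_card, Fintype.card_subtype]
            have e2 := Finset.card_filter_add_card_filter_not (s := Finset.univ) (fun h : G => h ∈ A)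
            rw [e1, Finset.card_univ, ← Nat.card_eq_fintype_card, ← had] at e2
            rw [e1, show (Finset.univ.filter fun h : G => h ∉ A).card = a * d - a by omega]
    -- the other elements
    have hout : ∀ g : G, g ∉ A → Nat.card (Subgroup.centralizer ({g} : Set G)) ≤ f * d := by
      intro g hg
      set C := Subgroup.centralizer ({g} : Set G)
      set ψ := φ.comp C.subtype
      have h1 : Nat.card C = Nat.card ψ.ker * Nat.card ψ.range := by
        rw [← Subgroup.index_ker, Subgroup.card_mul_index]
      rw [h1]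
      refine Nat.mul_le_mul ?_ (Subgroup.card_le_of_le fun x ⟨y, hy⟩ => ⟨y, hy⟩)
      let F' : ψ.ker → {x : A // Commute (x : G) g} := fun x =>
        ⟨⟨((x : C) : G), MonoidHom.mem_ker.mp x.2⟩, Subgroup.mem_centralizer_singleton_iff.mp x.1.2⟩
      have hF' : Function.Injective F' := fun x y he =>
        Subtype.ext (Subtype.ext (congrArg (fun z => (z.1 : G)) he))
      exact (Nat.card_le_card_of_injective F' hF').trans (hCA g hg)
    calc a * (Nat.card (ConjClasses G) * d) = Nat.card (ConjClasses G) * Nat.card G := by rw [← had]; ring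
      _ = ∑ g : G, Nat.card (Subgroup.centralizer ({g} : Set G)) := (sum_card_centralizer G).symm
      _ = (∑ g ∈ Finset.univ.filter (fun g => g ∈ A), Nat.card (Subgroup.centralizer ({g} : Set G))) +
          ∑ g ∈ Finset.univ.filter (fun g => g ∉ A), Nat.card (Subgroup.centralizer ({g} : Set G)) :=
          (Finset.sum_filter_add_sum_filter_not _ _ _).symm
      _ ≤ (a * a + (a * d - a) * f) + (a * d - a) * (f * d) := by
          refine Nat.add_le_add ?_ ?_
          · refine le_trans (le_of_eq ?_) hin
            exact (Finset.sum_subtype _ (fun x => by simp) _)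
          · refine le_trans (Finset.sum_le_card_nsmul _ _ (f * d) fun g hg =>
              hout g (Finset.mem_filter.mp hg).2) (le_of_eq ?_)
            rw [smul_eq_mul]
            congr 1
            have e1 : (Finset.univ.filter fun h : G => h ∈ A).card = a := by
              rw [ha, Nat.card_eq_fintype_card, Fintype.card_subtype]
            have e2 := Finset.card_filter_add_card_filter_not (s := Finset.univ) (fun h : G => h ∈ A)
            rw [e1, Finset.card_univ, ← Nat.card_eq_fintype_card, ← had] at e2
            omega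
      _ = _ := by
          obtain ⟨j, hj⟩ := Nat.exists_eq_add_of_le (show 1 ≤ d by omega)
          rw [hj, show a * (1 + j) - a = a * j by rw [mul_add, mul_one, Nat.add_sub_cancel_left],
            Nat.add_sub_cancel_left]
          ring
  obtain ⟨hle, heq⟩ := arith hp.out hnpos hdn
    (fun h => hG (h.trans (had ▸ dvd_mul_left d a))) hd2 hdvd haq hf hsd hk
  rw [hq, ← had]
  refine ⟨by omega, fun h => ?_⟩
  rcases heq (by omega) with h' | h'
  · exact Or.inr (Or.inl h')
  · exact Or.inr (Or.inr h')

end CfsgLib.KGVTrans
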