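import Cfsg.Agent.Lib.KGVTrans.Primitive
import Cfsg.Agent.Lib.KGVTrans.Degree2
import Cfsg.Agent.Lib.KGVTrans.Semilinear
import Cfsg.Agent.Lib.FourOrbit.Basic
import Cfsg.Agent.Lib.Hall.Basic
import Cfsg.Agent.Lib.Classical.Card
import Cfsg.Agent.Lib.ZJ.RealElements
import Cfsg.Agent.Lib.IsolatedMin.Basic

/-!
# The small dimensions

Outside the semilinear case, dimension two and the pair `(3, 4)`, the class numbers stay strictly
below the number of vectors.
-/

set_option autoImplicit false
set_option linter.unusedSectionVars false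
set_option linter.style.haveILetI false

namespace CfsgLib.KGVTrans

open Cfsg CfsgLib.TransLinear

/-- The class equation with a bound on the non-central centralisers. -/
theorem conjClasses_lt (H : Type*) [Group H] [Finite H] {B : ℕ} (hB : 0 < B)
    (h : ∀ g : H, g ∉ Subgroup.center H → Nat.card (Subgroup.centralizer ({g} : Set H)) ≤ B) :
    Nat.card (ConjClasses H) < Nat.card (Subgroup.center H) + B := by
  classical
  haveI := Fintype.ofFinite H
  have hsum := sum_card_centralizer H
  rw [← Finset.sum_filter_add_sum_filter_not Finset.univ (fun g => g ∈ Subgroup.center H)] at hsum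
  have e1 : (Finset.univ.filter fun g : H => g ∈ Subgroup.center H).card = Nat.card (Subgroup.center H) := by
    rw [Nat.card_eq_fintype_card, Fintype.card_subtype]
  have e2 := Finset.card_filter_add_card_filter_not (s := Finset.univ)
    (fun g : H => g ∈ Subgroup.center H)
  rw [e1, Finset.card_univ, ← Nat.card_eq_fintype_card] at e2
  have b1 := Finset.sum_le_card_nsmul (Finset.univ.filter fun g : H => g ∈ Subgroup.center H)
    (fun g => Nat.card (Subgroup.centralizer ({g} : Set H))) (Nat.card H)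
    fun g _ => Nat.card_le_card_of_injective Subtype.val Subtype.val_injective
  have b2 := Finset.sum_le_card_nsmul (Finset.univ.filter fun g : H => ¬ g ∈ Subgroup.center H)
    (fun g => Nat.card (Subgroup.centralizer ({g} : Set H))) B
    fun g hg => h g (Finset.mem_filter.mp hg).2
  rw [e1, smul_eq_mul] at b1
  rw [smul_eq_mul] at b2
  have hz : 0 < Nat.card (Subgroup.center H) := Nat.card_pos
  refine Nat.lt_of_mul_lt_mul_right (a := Nat.card H) ?_
  rw [← hsum, add_mul]
  refine Nat.add_lt_add_of_le_of_lt b1 (lt_of_le_of_lt b2 ?_)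
  rw [mul_comm B]
  exact Nat.mul_lt_mul_of_pos_right (by omega) hB

section setup

variable {p : ℕ} [hp : Fact p.Prime] {V : Type*} [AddCommGroup V] [Module (ZMod p) V] [Finite V]
  [Nontrivial V] {G : Type*} [Group G] [Finite G] (ρ : G →* (V ≃ₗ[ZMod p] V))

/-- The data of a normal abelian subgroup outside the semilinear case. -/
theorem small_abelian (hρ : Function.Injective ρ)
    (htrans : ∀ v w : V, v ≠ 0 → w ≠ 0 → ∃ g : G, ρ g v = w) (hns : ¬ Semilin ρ) (C : Subgroup G)
    [C.Normal] (hC : ∀ x ∈ C, ∀ y ∈ C, x * y = y * x) :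
    ∃ d t, 0 < d ∧ 2 ≤ t ∧ d * t = Module.finrank (ZMod p) V ∧ Nat.card V = p ^ (d * t) ∧
      Nat.card (algOf ρ C) = p ^ d ∧ Nat.card C ∣ p ^ d - 1 ∧
      ∃ f : G →* Multiplicative (ZMod d), f.ker = Subgroup.centralizer (C : Set G) := by
  obtain ⟨d, t, hd, ht, hV, hA, hCd, hf, hone⟩ := exists_field_data ρ hρ htrans C hC
  refine ⟨d, t, hd, ?_, ?_, hV, hA, hCd, hf⟩
  · by_contra h
    exact hns (hone (by omega)).1
  · have h := hV
    rw [card_eq_pow (p := p)] at h
    exact (Nat.pow_right_injective hp.out.two_le h).symm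

theorem card_stabilizer_mul (htrans : ∀ v w : V, v ≠ 0 → w ≠ 0 → ∃ g : G, ρ g v = w) (S : Subgroup G)
    (v₀ : V) (hv₀ : v₀ ≠ 0) (hS : ∀ g, g ∈ S ↔ ρ g v₀ = v₀) :
    (Nat.card V - 1) * Nat.card S = Nat.card G := by
  classical
  let X := {v : V // v ≠ 0}
  letI : MulAction G X :=
    { smul := fun g x => ⟨ρ g x.1, (ρ g).map_ne_zero_iff.mpr x.2⟩
      one_smul := fun x => Subtype.ext (by show ρ 1 x.1 = x.1; rw [map_one]; rfl)
      mul_smul := fun g h x => Subtype.ext (by
        show ρ (g * h) x.1 = ρ g (ρ h x.1)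
        rw [map_mul]; rfl) }
  haveI : MulAction.IsPretransitive G X := ⟨fun x y => by
    obtain ⟨g, hg⟩ := htrans x.1 y.1 x.2 y.2
    exact ⟨g, Subtype.ext hg⟩⟩
  have hX : Nat.card X = Nat.card V - 1 := by
    haveI := Fintype.ofFinite V
    rw [Nat.card_eq_fintype_card, Fintype.card_subtype_compl, Fintype.card_subtype_eq,
      Nat.card_eq_fintype_card]
  have hSeq : MulAction.stabilizer G (⟨v₀, hv₀⟩ : X) = S := Subgroup.ext fun g => by
    rw [hS, MulAction.mem_stabilizer_iff]
    exact ⟨fun h => congrArg Subtype.val h, fun h => Subtype.ext h⟩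
  rw [← hX, ← MulAction.index_stabilizer_of_transitive G (⟨v₀, hv₀⟩ : X), hSeq,
    Subgroup.index_mul_card]

/-- A stabiliser in dimension two is small. -/
theorem card_stabilizer_le (hρ : Function.Injective ρ) (hG : ¬ p ∣ Nat.card G)
    (hn : Module.finrank (ZMod p) V = 2) (S : Subgroup G) (v₀ : V) (hv₀ : v₀ ≠ 0)
    (hS : ∀ g, g ∈ S ↔ ρ g v₀ = v₀) : Nat.card S ≤ p - 1 := by
  classical
  haveI : Module.Finite (ZMod p) V := Module.Finite.of_finite
  obtain ⟨w, hw⟩ : ∃ w, w ∉ Submodule.span (ZMod p) ({v₀} : Set V) := by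
    by_contra h
    push Not at h
    have h1 := finrank_span_singleton (K := ZMod p) hv₀
    rw [Submodule.eq_top_iff'.mpr h, finrank_top, hn] at h1
    omega
  let f : ZMod p × ZMod p → V := fun c => c.1 • v₀ + c.2 • w
  have hf : Function.Bijective f := by
    rw [Nat.bijective_iff_injective_and_card]
    refine ⟨?_, by rw [card_eq_pow (p := p) (V := V), hn, Nat.card_prod, Nat.card_zmod, pow_two]⟩
    rintro ⟨a, b⟩ ⟨a', b'⟩ h
    simp only [f] at h
    have hb : b = b' := by
      by_contra hne
      apply hw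
      have h' : (b - b') • w = (a' - a) • v₀ := by
        rw [sub_smul, sub_smul, sub_eq_sub_iff_add_eq_add, add_comm, h]
      rw [Submodule.mem_span_singleton]
      refine ⟨(b - b')⁻¹ * (a' - a), ?_⟩
      rw [mul_smul, ← h', smul_smul, inv_mul_cancel₀ (sub_ne_zero.mpr hne), one_smul]
    subst hb
    rw [Prod.mk.injEq]
    exact ⟨smul_left_injective _ hv₀ (add_right_cancel h), rfl⟩
  let co : V → ZMod p × ZMod p := fun v => Function.surjInv hf.2 v
  have hco : ∀ v, (co v).1 • v₀ + (co v).2 • w = v := fun v => Function.surjInv_eq hf.2 v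
  let γ : S → ZMod p := fun g => (co (ρ g.1 w)).2
  have hγ : ∀ g : S, ρ g.1 w = (co (ρ g.1 w)).1 • v₀ + γ g • w := fun g => (hco _).symm
  have hmul : ∀ g h : S, γ (g * h) = γ g * γ h := by
    intro g h
    have h1 : f ((co (ρ (g * h).1 w)).1, γ (g * h)) =
        f ((co (ρ h.1 w)).1 + γ h * (co (ρ g.1 w)).1, γ h * γ g) := by
      show (co (ρ (g * h).1 w)).1 • v₀ + γ (g * h) • w =
        ((co (ρ h.1 w)).1 + γ h * (co (ρ g.1 w)).1) • v₀ + (γ h * γ g) • w
      rw [← hγ (g * h), Subgroup.coe_mul, map_mul, LinearEquiv.mul_apply]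
      conv_lhs => rw [hγ h, map_add, map_smul, map_smul, (hS g.1).mp g.2, hγ g, smul_add, smul_smul,
        smul_smul, ← add_assoc, ← add_smul]
    exact (congrArg Prod.snd (hf.1 h1)).trans (mul_comm _ _)
  have h1 : γ 1 = 1 := by
    have h1 := hγ 1
    rw [Subgroup.coe_one, map_one] at h1
    have h2 : f (0, 1) = f ((co (ρ ((1 : S) : G) w)).1, γ 1) := by
      simp only [f, zero_smul, zero_add, one_smul]
      rw [Subgroup.coe_one, map_one]; exact h1
    exact (congrArg Prod.snd (hf.1 h2)).symm
  let Γ : S →* ZMod p := { toFun := γ, map_one' := h1, map_mul' := hmul }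
  have hinj : Function.Injective Γ.toHomUnits := by
    refine (injective_iff_map_eq_one _).mpr fun g hg => ?_
    have hg1 : γ g = 1 := congrArg Units.val hg
    set α := (co (ρ g.1 w)).1
    have hgw : ρ g.1 w = α • v₀ + w := by rw [hγ g, hg1, one_smul]
    have hpow : ∀ k : ℕ, ρ (g.1 ^ k) w = ((k : ZMod p) * α) • v₀ + w := by
      intro k
      induction k with
      | zero => simp
      | succ k ih =>
        rw [pow_succ', map_mul, LinearEquiv.mul_apply, ih, map_add, map_smul, (hS g.1).mp g.2, hgw,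
          ← add_assoc, ← add_smul, Nat.cast_succ, add_mul, one_mul]
    have hp1 : g.1 ^ p = 1 := hρ (LinearEquiv.ext fun v => by
      obtain ⟨⟨a, b⟩, rfl⟩ := hf.2 v
      simp only [f, map_one, map_add, map_smul]
      rw [hpow, ZMod.natCast_self, zero_mul, zero_smul, zero_add,
        (hS _).mp (S.pow_mem g.2 p)]
      rfl)
    have h2 : orderOf g.1 ∣ p := orderOf_dvd_of_pow_eq_one hp1
    rcases (Nat.dvd_prime hp.out).mp h2 with h3 | h3
    · exact Subtype.ext (orderOf_eq_one_iff.mp h3)
    · exact absurd (h3 ▸ orderOf_dvd_natCard g.1) hG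
  refine (Nat.card_le_card_of_injective _ hinj).trans (le_of_eq ?_)
  rw [Nat.card_units, Nat.card_zmod]

theorem bound_dim_two (hρ : Function.Injective ρ) (hG : ¬ p ∣ Nat.card G) (hp2 : p ≠ 2)
    (htrans : ∀ v w : V, v ≠ 0 → w ≠ 0 → ∃ g : G, ρ g v = w) (hns : ¬ Semilin ρ)
    (hn : Module.finrank (ZMod p) V = 2) (S : Subgroup G) (v₀ : V) (hv₀ : v₀ ≠ 0)
    (hS : ∀ g, g ∈ S ↔ ρ g v₀ = v₀) :
    Nat.card (ConjClasses G) + Nat.card (ConjClasses S) < Nat.card V := by
  classical
  haveI := Fintype.ofFinite G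
  have hab : ∀ (C : Subgroup G) [C.Normal], (∀ x ∈ C, ∀ y ∈ C, x * y = y * x) →
      Nat.card C ≤ p - 1 := by
    intro C _ hC
    obtain ⟨d, t, hd, ht, hdt, -, -, hCd, -⟩ := small_abelian ρ hρ htrans hns C hC
    rw [hn] at hdt
    have : d * 2 ≤ d * t := Nat.mul_le_mul_left d ht
    have hd1 : d = 1 := by omega
    rw [hd1, pow_one] at hCd
    exact Nat.le_of_dvd (by have := hp.out.two_le; omega) hCd
  have hV : Nat.card V = p ^ 2 := by rw [card_eq_pow (p := p) (V := V), hn]
  have hbig : p ^ 2 - 1 ≤ Nat.card G := Nat.le_of_dvd Nat.card_pos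
    (hV ▸ card_sub_one_dvd htrans)
  obtain ⟨χ, hχ, hfaith, hdeg⟩ := exists_char ρ hρ hG hn
  have hp3 : 3 ≤ p := by have := hp.out.two_le; omega
  rcases dichotomy_char hχ hfaith hdeg with ⟨H, hHn, hHi, hH⟩ | ⟨h3, hk⟩
  · exfalso
    haveI := hHn
    have h1 := hab H hH
    have h2 : Nat.card G ≤ (p - 1) * 2 := by
      rw [← Subgroup.card_mul_index H]; exact Nat.mul_le_mul h1 hHi
    have h4 : 3 * p ≤ p ^ 2 := by rw [pow_two]; exact Nat.mul_le_mul_right p hp3
    omega
  · have hz := hab (Subgroup.center G) fun x _ y hy => Subgroup.mem_center_iff.mp hy x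
    have hzpos : 0 < Nat.card (Subgroup.center G) := Nat.card_pos
    have hp5 : 5 ≤ p := by
      have h3' : p ≠ 3 := fun e => hG (e ▸ h3)
      have h4' : p ≠ 4 := fun e => by have := hp.out; rw [e] at this; norm_num at this
      omega
    have hs := (card_conjClasses_le S).trans (card_stabilizer_le ρ hρ hG hn S v₀ hv₀ hS)
    rw [hV]
    by_cases h5 : p = 5
    · subst h5
      have hB : ∀ g : G, g ∉ Subgroup.center G →
          Nat.card (Subgroup.centralizer ({g} : Set G)) ≤ 4 * Nat.card (Subgroup.center G) := by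
        intro g hg
        obtain ⟨k, hk5, hkd, hkc⟩ := hk g hg
        rcases Nat.lt_or_ge k 5 with h | h
        · exact hkc.trans (Nat.mul_le_mul_right _ (by omega))
        · exact absurd ((dvd_mul_right k _).trans hkd) (by rw [show k = 5 by omega]; exact hG)
      have := conjClasses_lt G (by omega) hB
      omega
    · have hp7 : 7 ≤ p := by
        have h6 : p ≠ 6 := fun e => by have := hp.out; rw [e] at this; norm_num at this
        omega
      have hB : ∀ g : G, g ∉ Subgroup.center G →
          Nat.card (Subgroup.centralizer ({g} : Set G)) ≤ 5 * Nat.card (Subgroup.center G) := by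
        intro g hg
        obtain ⟨k, hk5, -, hkc⟩ := hk g hg
        exact hkc.trans (Nat.mul_le_mul_right _ hk5)
      have := conjClasses_lt G (by omega) hB
      have h7 : 7 * p ≤ p ^ 2 := by rw [pow_two]; exact Nat.mul_le_mul_right p hp7
      omega

end setup

section four

variable {V : Type*} [AddCommGroup V] [Module (ZMod 3) V] [Finite V] [Nontrivial V]
  {G : Type*} [Group G] [Finite G] (ρ : G →* (V ≃ₗ[ZMod 3] V))

theorem zmod_three_ne : (2 : ZMod 3) ≠ 0 ∧ ((4 : ℕ) : ZMod 3) ≠ 0 := by decide +kernel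

theorem centralizer_singleton_card {H : Type*} [Group H] [Finite H] (R : Subgroup H) [R.Normal]
    (g : H) :
    Nat.card (Subgroup.centralizer ({g} : Set H)) =
      Nat.card ((R.subgroupOf (Subgroup.centralizer ({g} : Set H)))) *
        Nat.card ((QuotientGroup.mk' R).comp (Subgroup.centralizer ({g} : Set H)).subtype).range := by
  rw [← Subgroup.index_ker]
  have : ((QuotientGroup.mk' R).comp (Subgroup.centralizer ({g} : Set H)).subtype).ker =
      R.subgroupOf (Subgroup.centralizer ({g} : Set H)) := by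
    ext x
    simp [MonoidHom.mem_ker, Subgroup.mem_subgroupOf]
  rw [this, Subgroup.card_mul_index]

theorem dvd_order (hρ : Function.Injective ρ) (hG : ¬ 3 ∣ Nat.card G)
    (hn : Module.finrank (ZMod 3) V = 4) : Nat.card G ∣ 33280 := by
  classical
  haveI : Fact (Nat.Prime 3) := ⟨by norm_num⟩
  haveI : Module.Finite (ZMod 3) V := Module.Finite.of_finite
  let b := Module.finBasisOfFinrankEq (ZMod 3) V hn
  let L : G →* Matrix (Fin 4) (Fin 4) (ZMod 3) :=
    (LinearMap.toMatrixAlgEquiv b).toMonoidHom.comp (endHom ρ)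
  have hinj : Function.Injective L.toHomUnits := fun x y h => hρ (LinearEquiv.ext fun v => by
    have h' : endHom ρ x = endHom ρ y :=
      (LinearMap.toMatrixAlgEquiv b).injective (congrArg Units.val h)
    exact LinearMap.congr_fun h' v)
  have h1 := Subgroup.card_dvd_of_injective _ hinj
  have h2 : Nat.card (GL (Fin 4) (ZMod 3)) = 729 * 33280 := by
    rw [Matrix.card_GL_field, ZMod.card]; rfl
  rw [show Nat.card (Matrix (Fin 4) (Fin 4) (ZMod 3))ˣ = 729 * 33280 from h2] at h1
  refine (Nat.Coprime.dvd_of_dvd_mul_left ?_ h1)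
  rw [show (729 : ℕ) = 3 ^ 6 by norm_num]
  exact (((Nat.prime_three.coprime_iff_not_dvd).mpr hG).symm).pow_right 6

theorem four_facts (hρ : Function.Injective ρ) (hG : ¬ 3 ∣ Nat.card G)
    (htrans : ∀ v w : V, v ≠ 0 → w ≠ 0 → ∃ g : G, ρ g v = w) (hns : ¬ Semilin ρ)
    (hn : Module.finrank (ZMod 3) V = 4) :
    Nat.card G ∣ 2560 ∧ 80 ∣ Nat.card G ∧
      ∀ (C : Subgroup G) [C.Normal], (∀ x ∈ C, ∀ y ∈ C, x * y = y * x) → Nat.card C ≤ 2 := by
  classical
  haveI : Fact (Nat.Prime 3) := ⟨by norm_num⟩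
  haveI : Fact (Nat.Prime 5) := ⟨by norm_num⟩
  have h80 : 80 ∣ Nat.card G := by
    have := pow_finrank_sub_one_dvd ρ htrans
    rwa [hn] at this
  have h33280 := dvd_order ρ hρ hG hn
  obtain ⟨χ, hχ, hfaith, hdeg⟩ := exists_char ρ hρ hG hn
  have h13 : ¬ 13 ∣ Nat.card G := by
    intro h
    have hsq : ¬ 13 ^ 2 ∣ Nat.card G := fun h2 => by
      have := h2.trans h33280
      norm_num at this
    obtain ⟨H, hHn, hH⟩ : ∃ H : Subgroup G, H.Normal ∧ Nat.card H = 13 := by
      by_contra hno
      push Not at hno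
      have := Cfsg.Agent.S4503.result 13 (by norm_num) h hsq hno χ hχ hfaith
      omega
    haveI := hHn
    haveI : Fact (Nat.Prime 13) := ⟨by norm_num⟩
    haveI : IsCyclic H := isCyclic_of_prime_card hH
    obtain ⟨d, t, hd, ht, hdt, -, -, hHd, -⟩ := small_abelian ρ hρ htrans hns H fun x hx y hy =>
      congrArg Subtype.val (mul_comm' (⟨x, hx⟩ : H) ⟨y, hy⟩)
    rw [hn] at hdt
    have h2 : d * 2 ≤ d * t := Nat.mul_le_mul_left d ht
    have hd2 : d ≤ 2 := by omega
    rw [hH] at hHd
    interval_cases d <;> norm_num at hHd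
  have h2560 : Nat.card G ∣ 2560 :=
    ((Nat.Prime.coprime_iff_not_dvd (by norm_num : Nat.Prime 13)).mpr h13).symm.dvd_of_dvd_mul_left
      (show Nat.card G ∣ 13 * 2560 from h33280)
  refine ⟨h2560, h80, fun C _ hC => ?_⟩
  obtain ⟨d, t, hd, ht, hdt, hV, hA, hCd, f, hf⟩ := small_abelian ρ hρ htrans hns C hC
  rw [hn] at hdt
  have h2 : d * 2 ≤ d * t := Nat.mul_le_mul_left d ht
  rcases (show d = 1 ∨ d = 2 by omega) with rfl | rfl
  · exact Nat.le_of_dvd two_pos (by simpa using hCd)
  exfalso
  have ht2 : t = 2 := by omega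
  subst ht2
  set C' := Subgroup.centralizer (C : Set G) with hC'
  obtain ⟨ψ, hψ, hψf, hψd⟩ : ∃ χ : C' → ℂ, IsCharacter _ χ ∧ (∀ g, χ g = χ 1 → g = 1) ∧
      charDegree χ = 2 := centralizer_char ρ hρ hG htrans C hC hA hV
  haveI hCn : C'.Normal := hf ▸ f.normal_ker
  have h5G : 5 ∣ Nat.card G := (dvd_mul_right 5 16).trans h80
  have hsq : ¬ 5 ^ 2 ∣ Nat.card G := fun h => by
    have := h.trans h2560
    norm_num at this
  have h5C : 5 ∣ Nat.card C' := by
    have h1 : Nat.card C' * Nat.card f.range = Nat.card G := by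
      rw [← Subgroup.index_ker, hf, Subgroup.card_mul_index]
    have h3 : Nat.card f.range ∣ 2 := by
      have := Subgroup.card_subgroup_dvd_card f.range
      rwa [Nat.card_congr Multiplicative.toAdd, Nat.card_zmod] at this
    rw [← h1] at h5G
    refine ((Fact.out : Nat.Prime 5).dvd_mul.mp h5G).resolve_right fun hc => ?_
    have := Nat.le_of_dvd two_pos (hc.trans h3)
    omega
  have hsqC : ¬ 5 ^ 2 ∣ Nat.card C' := fun e => hsq (e.trans (Subgroup.card_subgroup_dvd_card C'))
  obtain ⟨H, hHn, hH⟩ : ∃ H : Subgroup C', H.Normal ∧ Nat.card H = 5 := by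
    by_contra hno
    push Not at hno
    obtain ⟨e⟩ := Cfsg.Agent.S4504.result 5 Fact.out h5C hsqC hno ψ hψ hψf (by omega)
    apply hG
    have h3 : 3 ∣ Nat.card (Matrix.ProjectiveSpecialLinearGroup (Fin 2) (ZMod 5)) := by
      have := CfsgLib.Classical.card_PSL_two (F := ZMod 5)
      rw [ZMod.card] at this
      norm_num at this ⊢
      omega
    rw [← Nat.card_congr e.toEquiv] at h3
    exact (h3.trans (Subgroup.card_quotient_dvd_card _)).trans (Subgroup.card_subgroup_dvd_card C')
  let S : Sylow 5 C' := Sylow.ofCard H (by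
    rw [hH, factorization_exact Fact.out h5C hsqC, pow_one])
  haveI : H.Characteristic := S.characteristic_of_normal hHn
  haveI : (H.map C'.subtype).Normal := ConjAct.normal_of_characteristic_of_normal
  have hHcard : Nat.card (H.map C'.subtype) = 5 := by
    rw [Subgroup.card_map_of_injective (Subgroup.subtype_injective _), hH]
  haveI : IsCyclic (H.map C'.subtype) := isCyclic_of_prime_card hHcard
  refine hns (semilin_of_abelian_one ρ hρ htrans (H.map C'.subtype) (fun x hx y hy =>
    congrArg Subtype.val (mul_comm' (⟨x, hx⟩ : H.map C'.subtype) ⟨y, hy⟩)) (by rw [hHcard] : 5 ∣ Nat.card (H.map C'.subtype)) ?_)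
  rw [hn]
  intro i hi hi4
  interval_cases i <;> norm_num

/-- The quotient by the 2-radical. -/
theorem card_quotient_dvd {Q : Type*} [Group Q] [Finite Q] (hQ : Nat.card Q ∣ 2560)
    (hcore : Cfsg.pCore 2 Q = ⊥) :
    Nat.card Q ∣ 20 ∧ (1 < Nat.card Q → ∀ y c : Q, y ≠ 1 → y ^ 5 = 1 → c * y = y * c → c ^ 5 = 1) := by
  classical
  rcases subsingleton_or_nontrivial Q with hs | hnt
  · refine ⟨by rw [Nat.card_of_subsingleton (1 : Q)]; norm_num, fun h => ?_⟩
    rw [Nat.card_of_subsingleton (1 : Q)] at h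
    omega
  haveI : Fact (Nat.Prime 2) := ⟨by norm_num⟩
  haveI : Fact (Nat.Prime 5) := ⟨by norm_num⟩
  have hprimes : ∀ s : ℕ, s.Prime → s ∣ Nat.card Q → s = 2 ∨ s = 5 := fun s hs hd => by
    have h : s ∣ 2 ^ 9 * 5 := hd.trans hQ
    rcases hs.dvd_mul.mp h with h | h
    · exact Or.inl ((Nat.prime_dvd_prime_iff_eq hs Nat.prime_two).mp (hs.dvd_of_dvd_pow h))
    · exact Or.inr ((Nat.prime_dvd_prime_iff_eq hs (by norm_num)).mp h)
  haveI : Group.IsSolvable Q :=
    FourOrbit.isSolvable_of_two_primes Nat.prime_two (by norm_num : Nat.Prime 5) (by norm_num) hprimes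
  obtain ⟨r, hr, N, hNn, hN1, hNp, hNc⟩ := Hall.exists_normal_pgroup_ne_bot (G := Q)
  haveI := hNn
  haveI := Fact.mk hr
  obtain ⟨k, hk⟩ := (IsPGroup.iff_card (p := r) (G := N)).mp hNp
  have hk0 : k ≠ 0 := fun h => hN1 (Subgroup.card_eq_one.mp (by rw [hk, h, pow_zero]))
  have hr5 : r = 5 := by
    rcases hprimes r hr ((dvd_pow_self r hk0).trans (hk ▸ Subgroup.card_subgroup_dvd_card N)) with rfl | rfl
    · exfalso
      exact hN1 (le_bot_iff.mp (hcore ▸ Fitting.le_pCore hNn hNp))
    · rfl
  subst hr5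
  have hN5 : Nat.card N = 5 := by
    have hle : 5 ^ k ∣ 2560 := (hk ▸ Subgroup.card_subgroup_dvd_card N : 5 ^ k ∣ Nat.card Q).trans hQ
    have : k = 1 := by
      by_contra hne
      have h2 : 5 ^ 2 ∣ 2560 := (pow_dvd_pow 5 (show 2 ≤ k by omega)).trans hle
      norm_num at h2
    rw [hk, this, pow_one]
  set C := Subgroup.centralizer (N : Set Q) with hC
  haveI hCn : C.Normal := inferInstance
  have hNC : N ≤ C := fun x hx y hy =>
    congrArg Subtype.val (mul_comm' (⟨y, hy⟩ : N) ⟨x, hx⟩)
  let T : Sylow 2 C := default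
  have hTn : (T : Subgroup C).Normal := by
    rw [← Subgroup.normalizer_eq_top_iff]
    apply Subgroup.eq_top_of_card_eq
    refine Nat.dvd_antisymm (Subgroup.card_subgroup_dvd_card _) ?_
    have hsub : N.subgroupOf C ≤ Subgroup.normalizer ((T : Subgroup C) : Set C) := by
      intro x hx
      rw [Subgroup.mem_normalizer_iff]
      intro h
      have : x * h * x⁻¹ = h := by
        have hc : x.1 * h.1 = h.1 * x.1 := h.2 x.1 hx
        refine Subtype.ext ?_
        simp only [Subgroup.coe_mul, Subgroup.coe_inv, hc, mul_inv_cancel_right]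
      rw [this]
    have d1 := Subgroup.card_dvd_of_le hsub
    rw [Nat.card_congr (Subgroup.subgroupOfEquivOfLe hNC).toEquiv, hN5] at d1
    have d2 := Subgroup.card_dvd_of_le (Subgroup.le_normalizer (H := (T : Subgroup C)))
    have hCd : Nat.card C ∣ 2560 := (Subgroup.card_subgroup_dvd_card C).trans hQ
    set m := Nat.card C with hm
    have hcop : Nat.Coprime 5 (Nat.card (T : Subgroup C)) := by
      obtain ⟨j, hj⟩ := IsPGroup.iff_card.mp T.2
      rw [hj]; exact Nat.Coprime.pow_right _ (by norm_num)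
    refine dvd_trans ?_ (hcop.mul_dvd_of_dvd_of_dvd d1 d2)
    obtain ⟨u, hu⟩ : Nat.card (T : Subgroup C) ∣ m := Subgroup.card_subgroup_dvd_card _
    rw [mul_comm 5, hu]
    refine Nat.mul_dvd_mul_left _ ?_
    have hidx : (T : Subgroup C).index = u := by
      have := Subgroup.card_mul_index (T : Subgroup C)
      rw [← hm, hu] at this
      exact Nat.eq_of_mul_eq_mul_left Nat.card_pos this
    have hu2 : ¬ 2 ∣ u := hidx ▸ T.not_dvd_index
    have hu' : u ∣ 2 ^ 9 * 5 := (Dvd.intro_left _ hu.symm).trans hCd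
    exact (((Nat.prime_two.coprime_iff_not_dvd).mpr hu2).symm.pow_right 9).dvd_of_dvd_mul_left hu'
  have hT1 : (T : Subgroup C) = ⊥ := by
    haveI := T.characteristic_of_normal hTn
    haveI : ((T : Subgroup C).map C.subtype).Normal := ConjAct.normal_of_characteristic_of_normal
    have hle := Fitting.le_pCore (p := 2) (inferInstance : ((T : Subgroup C).map C.subtype).Normal)
      (T.2.map _)
    rw [hcore, le_bot_iff, Subgroup.map_eq_bot_iff_of_injective _ C.subtype_injective] at hle
    exact hle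
  have hC5 : Nat.card C = 5 := by
    have h2 := T.not_dvd_index
    rw [hT1, Subgroup.index_bot] at h2
    have hCd : Nat.card C ∣ 2 ^ 9 * 5 := (Subgroup.card_subgroup_dvd_card C).trans hQ
    have h5 : Nat.card C ∣ 5 :=
      (((Nat.prime_two.coprime_iff_not_dvd).mpr h2).symm.pow_right 9).dvd_of_dvd_mul_left hCd
    refine Nat.dvd_antisymm h5 ?_
    rw [← hN5]; exact Subgroup.card_dvd_of_le hNC
  have hCN : C = N := (Subgroup.eq_of_le_of_card_ge hNC (by omega)).symm
  have hCker : (MulAut.conjNormal : Q →* MulAut N).ker = C := by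
    ext q
    rw [MonoidHom.mem_ker]
    constructor
    · intro h x hx
      have := congrArg Subtype.val (MulEquiv.congr_fun h ⟨x, hx⟩)
      rw [MulAut.conjNormal_apply, MulAut.one_apply] at this
      exact (mul_inv_eq_iff_eq_mul.mp this).symm
    · intro h
      refine MulEquiv.ext fun x => Subtype.ext ?_
      rw [MulAut.conjNormal_apply, MulAut.one_apply, ← h x.1 x.2, mul_inv_cancel_right]
  refine ⟨?_, fun _ y c hy1 hy5 hcy => ?_⟩
  · rw [← Subgroup.card_mul_index C, hC5, ← hCker, Subgroup.index_ker, show (20 : ℕ) = 5 * 4 from rfl]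
    refine Nat.mul_dvd_mul_left 5 ?_
    haveI : IsCyclic N := isCyclic_of_prime_card hN5
    refine (Subgroup.card_subgroup_dvd_card _).trans ?_
    rw [IsCyclic.card_mulAut, hN5, Nat.totient_prime (by norm_num)]
  · have hyN : y ∈ N := by
      by_contra hy
      have h1 : orderOf (QuotientGroup.mk' N y) = 5 := by
        refine orderOf_eq_prime (by rw [← map_pow, hy5, map_one]) ?_
        exact fun h => hy ((QuotientGroup.eq_one_iff y).mp h)
      have h2 : 5 ∣ Nat.card (Q ⧸ N) := h1 ▸ orderOf_dvd_natCard _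
      have h3 : 5 * 5 ∣ Nat.card Q := by
        rw [Subgroup.card_eq_card_quotient_mul_card_subgroup N, hN5]
        exact Nat.mul_dvd_mul_right h2 5
      have := h3.trans hQ
      norm_num at this
    have hcC : c ∈ C := by
      haveI : IsCyclic N := isCyclic_of_prime_card hN5
      intro x hx
      have hgen : Subgroup.zpowers y = N := Subgroup.eq_of_le_of_card_ge
        (Subgroup.zpowers_le.mpr hyN) (by
          rw [Nat.card_zpowers, hN5, orderOf_eq_prime hy5 hy1])
      obtain ⟨i, rfl⟩ := Subgroup.mem_zpowers_iff.mp (show x ∈ Subgroup.zpowers y by rw [hgen]; exact hx)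
      exact ((show Commute c y from hcy).zpow_right i).eq.symm
    have := pow_card_eq_one' (G := C) (x := ⟨c, hcC⟩)
    rw [hC5] at this
    exact congrArg Subtype.val this

set_option maxHeartbeats 2000000 in
theorem bound_four (hρ : Function.Injective ρ) (hG : ¬ 3 ∣ Nat.card G)
    (htrans : ∀ v w : V, v ≠ 0 → w ≠ 0 → ∃ g : G, ρ g v = w) (hns : ¬ Semilin ρ)
    (hn : Module.finrank (ZMod 3) V = 4) (S : Subgroup G) (v₀ : V) (hv₀ : v₀ ≠ 0)
    (hS : ∀ g, g ∈ S ↔ ρ g v₀ = v₀) :
    Nat.card (ConjClasses G) + Nat.card (ConjClasses S) < Nat.card V := by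
  classical
  haveI : Fact (Nat.Prime 3) := ⟨by norm_num⟩
  haveI : Fact (Nat.Prime 5) := ⟨by norm_num⟩
  haveI : Fact (Nat.Prime 2) := ⟨by norm_num⟩
  haveI : Module.Finite (ZMod 3) V := Module.Finite.of_finite
  obtain ⟨h2560, h80, hsmall⟩ := four_facts ρ hρ hG htrans hns hn
  have hVc : Nat.card V = 81 := by rw [card_eq_pow (p := 3) (V := V), hn]; rfl
  have hGbig : 80 ≤ Nat.card G := Nat.le_of_dvd Nat.card_pos h80
  have hprim : ∀ i, 1 ≤ i → i < Module.finrank (ZMod 3) V → ¬ 5 ∣ 3 ^ i - 1 := by
    rw [hn]; intro i hi hi4; interval_cases i <;> norm_num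
  have hcomm5 : ∀ y : G, orderOf y = 5 → ∀ a ∈ Subgroup.centralizer ({y} : Set G),
      ∀ b ∈ Subgroup.centralizer ({y} : Set G), a * b = b * a := fun y hy =>
    centralizer_commute ρ hρ (by rw [hn]; norm_num) hprim hy
  set R := Cfsg.pCore 2 G with hR
  haveI hRn : R.Normal := Fitting.pCore_normal 2
  have hRp : IsPGroup 2 R := Fitting.pCore_isPGroup 2
  obtain ⟨hQ20, hQ5⟩ := card_quotient_dvd (Q := G ⧸ R)
    ((Subgroup.card_quotient_dvd_card R).trans h2560) (le_bot_iff.mp ZJ.pCore_quotient_pCore_le_bot)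
  have hGQ : Nat.card G = Nat.card (G ⧸ R) * Nat.card R :=
    Subgroup.card_eq_card_quotient_mul_card_subgroup R
  have hR4 : 4 ≤ Nat.card R := by
    have := Nat.le_of_dvd (by norm_num) hQ20
    by_contra h
    have h' : Nat.card (G ⧸ R) * Nat.card R ≤ 20 * 3 := Nat.mul_le_mul this (by omega)
    omega
  -- the centre of the radical
  set Z₀ : Subgroup G := (Subgroup.center R).map R.subtype with hZ₀
  haveI : Z₀.Normal := ConjAct.normal_of_characteristic_of_normal
  have hZcard' : Nat.card Z₀ = Nat.card (Subgroup.center R) :=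
    Subgroup.card_map_of_injective (Subgroup.subtype_injective _)
  have hZle : Nat.card Z₀ ≤ 2 := hsmall Z₀ (by
    rintro _ ⟨x, hx, rfl⟩ _ ⟨y, hy, rfl⟩
    exact congrArg Subtype.val (Subgroup.mem_center_iff.mp hy x))
  haveI : Nontrivial R := Finite.one_lt_card_iff_nontrivial.mp (by omega)
  haveI := hRp.center_nontrivial
  have hZ2 : Nat.card (Subgroup.center R) = 2 := by
    have := Finite.one_lt_card (α := Subgroup.center R)
    omega
  obtain ⟨z, hz1, hzall⟩ : ∃ z : Subgroup.center R, z ≠ 1 ∧ ∀ x : Subgroup.center R, x ≠ 1 → x = z := by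
    rw [Nat.card_eq_two_iff' (1 : Subgroup.center R)] at hZ2
    obtain ⟨z, hz, hu⟩ := hZ2
    exact ⟨z, hz, hu⟩
  have hzc : ((z : R) : G) ∈ Subgroup.center G := by
    rw [Subgroup.mem_center_iff]
    intro g
    have hmem : g * ((z : R) : G) * g⁻¹ ∈ Z₀ := (inferInstance : Z₀.Normal).conj_mem _ ⟨z, z.2, rfl⟩ g
    obtain ⟨x, hx, hxe⟩ := hmem
    have hx1 : (⟨x, hx⟩ : Subgroup.center R) ≠ 1 := by
      intro h
      have : x = 1 := congrArg Subtype.val h
      rw [this, map_one] at hxe
      apply hz1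
      apply Subtype.ext
      apply Subtype.ext
      exact conj_eq_one_iff.mp hxe.symm
    have := congrArg Subtype.val (hzall _ hx1)
    subst this
    exact (eq_mul_inv_iff_mul_eq.mp hxe).symm
  have hcenR : ∀ x : R, x ∈ Subgroup.center R → (x : G) ∈ Subgroup.center G := fun x hx => by
    by_cases hx1 : (⟨x, hx⟩ : Subgroup.center R) = 1
    · rw [show x = 1 from congrArg Subtype.val hx1]; exact one_mem _
    · rw [show x = z from congrArg Subtype.val (hzall _ hx1)]; exact hzc
  -- the centraliser of the radical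
  have hCR : ∀ g : G, (∀ r ∈ R, r * g = g * r) → g ∈ R := by
    haveI : (Subgroup.centralizer (R : Set G)).Normal := inferInstance
    have h5 : ¬ 5 ∣ Nat.card (Subgroup.centralizer (R : Set G)) := fun h => by
      obtain ⟨y, hy⟩ := exists_prime_orderOf_dvd_card' 5 h
      rw [← Subgroup.orderOf_coe] at hy
      have hle : ∀ r ∈ R, r ∈ Subgroup.centralizer ({(y : G)} : Set G) := fun r hr =>
        Subgroup.mem_centralizer_singleton_iff.mpr (y.2 r hr)
      have := hsmall R fun a ha b hb => hcomm5 y hy a (hle a ha) b (hle b hb)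
      omega
    have hp : IsPGroup 2 (Subgroup.centralizer (R : Set G)) := by
      have hd : Nat.card (Subgroup.centralizer (R : Set G)) ∣ 2 ^ 9 :=
        ((Fact.out : Nat.Prime 5).coprime_iff_not_dvd.mpr h5).symm.dvd_of_dvd_mul_right
          ((Subgroup.card_subgroup_dvd_card _).trans h2560 : _ ∣ 2 ^ 9 * 5)
      obtain ⟨j, -, hj⟩ := (Nat.dvd_prime_pow Nat.prime_two).mp hd
      exact IsPGroup.of_card hj
    exact fun g hg => Fitting.le_pCore inferInstance hp (Subgroup.mem_centralizer_iff.mpr hg)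
  have hCRc : ∀ g : G, (∀ r ∈ R, r * g = g * r) → g ∈ Subgroup.center G := fun g hg =>
    hcenR ⟨g, hCR g hg⟩ (Subgroup.mem_center_iff.mpr fun r => Subtype.ext (hg r r.2))
  -- class two
  have hclass : commutator R ≤ Subgroup.center R := by
    set W := (Subgroup.center (R ⧸ Subgroup.center R)).comap (QuotientGroup.mk' (Subgroup.center R)) with hW
    haveI hWc : W.Characteristic := Subgroup.Characteristic.comap_quotient_mk Subgroup.centerCharacteristic
    haveI : (commutator R).Characteristic := inferInstance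
    set A := commutator R ⊓ W with hA
    haveI : A.Characteristic := by
      rw [Subgroup.characteristic_iff_comap_eq]
      intro φ
      rw [hA, Subgroup.comap_inf, Subgroup.characteristic_iff_comap_eq.mp inferInstance φ,
        Subgroup.characteristic_iff_comap_eq.mp hWc φ]
    haveI : (A.map R.subtype).Normal := ConjAct.normal_of_characteristic_of_normal
    have hWmem : ∀ w, w ∈ W → ∀ r : R, w * r * w⁻¹ * r⁻¹ ∈ Subgroup.center R := by
      intro w hw r
      rw [← QuotientGroup.eq_one_iff]
      have := Subgroup.mem_center_iff.mp (Subgroup.mem_comap.mp hw) (QuotientGroup.mk' _ r)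
      simp only [QuotientGroup.mk'_apply] at this
      rw [QuotientGroup.mk_mul, QuotientGroup.mk_mul, QuotientGroup.mk_mul, ← this,
        QuotientGroup.mk_inv, QuotientGroup.mk_inv, mul_inv_cancel_right, mul_inv_cancel]
    have hAab : ∀ x ∈ A, ∀ y ∈ A, x * y = y * x := by
      intro w hw u hu
      let φ : R →* Subgroup.center R := MonoidHom.mk' (fun r => ⟨w * r * w⁻¹ * r⁻¹, hWmem w hw.2 r⟩)
        fun r s => Subtype.ext (by
          have hc := Subgroup.mem_center_iff.mp (hWmem w hw.2 s) r
          show w * (r * s) * w⁻¹ * (r * s)⁻¹ = (w * r * w⁻¹ * r⁻¹) * (w * s * w⁻¹ * s⁻¹)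
          calc w * (r * s) * w⁻¹ * (r * s)⁻¹
              = w * r * w⁻¹ * ((w * s * w⁻¹ * s⁻¹) * r⁻¹) := by group
            _ = w * r * w⁻¹ * (r⁻¹ * (w * s * w⁻¹ * s⁻¹)) := by
                rw [Subgroup.mem_center_iff.mp (hWmem w hw.2 s) r⁻¹]
            _ = _ := by group)
      have hab : IsMulCommutative (Subgroup.center R) := inferInstance
      have := (show commutator R ≤ φ.ker from Subgroup.commutator_le.mpr fun a _ b _ => by
        rw [MonoidHom.mem_ker, map_commutatorElement, commutatorElement_eq_one_iff_mul_comm]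
        exact Subtype.ext (Subgroup.mem_center_iff.mp (φ b).2 (φ a).1)) hu.1
      have h1 : w * u * w⁻¹ * u⁻¹ = 1 := congrArg Subtype.val this
      rw [mul_inv_eq_one, mul_inv_eq_iff_eq_mul] at h1
      exact h1
    have hAle : A ≤ Subgroup.center R := by
      have hc := hsmall (A.map R.subtype) (by
        rintro _ ⟨x, hx, rfl⟩ _ ⟨y, hy, rfl⟩
        exact congrArg Subtype.val (hAab x hx y hy))
      rw [Subgroup.card_map_of_injective (Subgroup.subtype_injective _)] at hc
      intro a ha
      rw [Subgroup.mem_center_iff]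
      intro r
      by_cases ha1 : a = 1
      · rw [ha1, mul_one, one_mul]
      have hA2 : Nat.card A = 2 := by
        haveI : Nontrivial A := ⟨⟨a, ha⟩, 1, fun h => ha1 (congrArg Subtype.val h)⟩
        have := Finite.one_lt_card (α := A)
        omega
      obtain ⟨b, hb, hu⟩ := (Nat.card_eq_two_iff' (1 : A)).mp hA2
      have hconj : r * a * r⁻¹ ∈ A := (inferInstance : A.Normal).conj_mem a ha r
      have e1 : (⟨r * a * r⁻¹, hconj⟩ : A) = b := hu _ fun h => ha1 (conj_eq_one_iff.mp (congrArg Subtype.val h))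
      have e2 : (⟨a, ha⟩ : A) = b := hu _ fun h => ha1 (congrArg Subtype.val h)
      exact mul_inv_eq_iff_eq_mul.mp (congrArg Subtype.val (e1.trans e2.symm))
    by_contra hle
    set M := (commutator R).map (QuotientGroup.mk' (Subgroup.center R)) with hM
    haveI : M.Normal := Subgroup.Normal.map inferInstance _ (QuotientGroup.mk'_surjective _)
    have hMne : M ≠ ⊥ := fun h => hle (by
      rwa [hM, Subgroup.map_eq_bot_iff, QuotientGroup.ker_mk'] at h)
    haveI : Nontrivial M := (Subgroup.nontrivial_iff_ne_bot M).mpr hMne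
    obtain ⟨⟨m, hm⟩, hm1'⟩ := Subgroup.ne_bot_iff_exists_ne_one.mp
      (IsolatedMin.inf_center_ne_bot (hRp.to_quotient _) M hMne)
    have hm1 : m ≠ 1 := fun h => hm1' (Subtype.ext h)
    obtain ⟨w, hw, rfl⟩ := hm.1
    exact hm1 ((QuotientGroup.eq_one_iff w).mpr (hAle ⟨hw, hm.2⟩))
  have hcc : ∀ r x : R, r * x * r⁻¹ * x⁻¹ ∈ Subgroup.center R := fun r x => by
    apply hclass
    rw [← commutatorElement_def]
    exact Subgroup.commutator_mem_commutator (Subgroup.mem_top r) (Subgroup.mem_top x)
  -- the central involution is minus one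
  have hzneg : ∀ v : V, ρ ((z : R) : G) v = -v := by
    have hzne : ((z : R) : G) ≠ 1 := fun h => hz1 (Subtype.ext (Subtype.ext h))
    have hz2 : ((z : R) : G) * ((z : R) : G) = 1 := by
      have := pow_card_eq_one' (G := Subgroup.center R) (x := z)
      rw [hZ2, pow_two] at this
      exact congrArg (fun u : Subgroup.center R => ((u : R) : G)) this
    obtain ⟨w, hw⟩ : ∃ w, ρ ((z : R) : G) w ≠ w := by
      by_contra h
      push Not at h
      exact hzne (hρ (LinearEquiv.ext fun v => by rw [map_one]; exact h v))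
    set u := ρ ((z : R) : G) w - w with hu
    have hu0 : u ≠ 0 := sub_ne_zero.mpr hw
    have huz : ρ ((z : R) : G) u = -u := by
      rw [hu, map_sub, ← LinearEquiv.mul_apply, ← map_mul, hz2, map_one, neg_sub]
      rfl
    intro v
    by_cases hv : v = 0
    · rw [hv, map_zero, neg_zero]
    obtain ⟨g, rfl⟩ := htrans u v hu0 hv
    rw [← LinearEquiv.mul_apply, ← map_mul, ← Subgroup.mem_center_iff.mp hzc g, map_mul,
      LinearEquiv.mul_apply, huz, map_neg]
  -- the trace argument
  have htr : ∀ x : R, x ∉ Subgroup.center R → LinearMap.trace (ZMod 3) V (endHom ρ (x : G)) = 0 := by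
    intro x hx
    obtain ⟨r, hr⟩ : ∃ r : R, r * x * r⁻¹ * x⁻¹ ≠ 1 := by
      by_contra h
      push Not at h
      exact hx (Subgroup.mem_center_iff.mpr fun r => mul_inv_eq_iff_eq_mul.mp (mul_inv_eq_one.mp (h r)))
    have he : r * x * r⁻¹ = (z : R) * x := by
      have := congrArg Subtype.val (hzall ⟨_, hcc r x⟩ fun h => hr (congrArg Subtype.val h))
      exact mul_inv_eq_iff_eq_mul.mp this
    have h1 : LinearMap.trace (ZMod 3) V (endHom ρ ((r * x * r⁻¹ : R) : G)) =
        LinearMap.trace (ZMod 3) V (endHom ρ (x : G)) := by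
      rw [Subgroup.coe_mul, map_mul, LinearMap.trace_mul_comm, ← map_mul, Subgroup.coe_mul,
        Subgroup.coe_inv, inv_mul_cancel_left]
    have h2 : endHom ρ ((z * x : R) : G) = - endHom ρ (x : G) := LinearMap.ext fun v => by
      rw [Subgroup.coe_mul, map_mul, Module.End.mul_apply, LinearMap.neg_apply, endHom_apply,
        endHom_apply, hzneg]
    rw [he, h2, map_neg] at h1
    have h3 : (2 : ZMod 3) * LinearMap.trace (ZMod 3) V (endHom ρ (x : G)) = 0 := by
      rw [two_mul]; linear_combination -h1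
    exact (mul_eq_zero.mp h3).resolve_left (zmod_three_ne.1)
  have hR16 : Nat.card (R ⧸ Subgroup.center R) ≤ 16 := by
    haveI := Fintype.ofFinite (R ⧸ Subgroup.center R)
    let fam : R ⧸ Subgroup.center R → Module.End (ZMod 3) V := fun i => endHom ρ ((i.out : R) : G)
    have hind : LinearIndependent (ZMod 3) fam := by
      rw [Fintype.linearIndependent_iff]
      intro c hc j
      have h := congrArg (fun a => LinearMap.trace (ZMod 3) V (endHom ρ ((j.out : R) : G)⁻¹ * a)) hc
      simp only [Finset.mul_sum, map_sum, mul_smul_comm, map_smul, mul_zero, map_zero] at h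
      rw [Finset.sum_eq_single j ?_ (fun hj => absurd (Finset.mem_univ j) hj)] at h
      · simp only [fam] at h
        rw [← map_mul, inv_mul_cancel, map_one, LinearMap.trace_one, hn, smul_eq_mul] at h
        exact (mul_eq_zero.mp h).resolve_right (zmod_three_ne.2)
      · intro i _ hij
        simp only [fam]
        rw [← map_mul, ← Subgroup.coe_inv, ← Subgroup.coe_mul, htr _ ?_, smul_zero]
        intro hmem
        apply hij
        rw [← QuotientGroup.out_eq' i, ← QuotientGroup.out_eq' j]
        exact (QuotientGroup.eq.mpr hmem).symm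
    have h := hind.fintype_card_le_finrank
    rw [Module.finrank_linearMap, hn, ← Nat.card_eq_fintype_card] at h
    omega
  have hR32 : Nat.card R ≤ 32 := by
    rw [Subgroup.card_eq_card_quotient_mul_card_subgroup (Subgroup.center R), hZ2]
    omega
  -- elements of order five
  have hfix : ∀ y : G, orderOf y = 5 → ∀ x ∈ R, x * y = y * x → x ∈ Subgroup.center G := by
    intro y hy
    let D : Subgroup R := (Subgroup.centralizer ({y} : Set G)).subgroupOf R
    have hY : IsPGroup 5 (Subgroup.zpowers y) :=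
      IsPGroup.of_card (n := 1) (by rw [Nat.card_zpowers, hy, pow_one])
    letI : MulAction (Subgroup.zpowers y) R :=
      { smul := fun g x => MulAut.conjNormal (g : G) x
        one_smul := fun x => by show MulAut.conjNormal (1 : G) x = x; rw [map_one]; rfl
        mul_smul := fun g h x => by
          show MulAut.conjNormal ((g : G) * h) x = _
          rw [map_mul]; rfl }
    have hfx : ∀ x : R, x ∈ MulAction.fixedPoints (Subgroup.zpowers y) R ↔ x ∈ D := by
      intro x
      rw [Subgroup.mem_subgroupOf, Subgroup.mem_centralizer_singleton_iff]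
      constructor
      · intro h
        have := congrArg Subtype.val (h ⟨y, Subgroup.mem_zpowers y⟩)
        rw [show ((⟨y, Subgroup.mem_zpowers y⟩ : Subgroup.zpowers y) • x : R) =
          MulAut.conjNormal y x from rfl, MulAut.conjNormal_apply] at this
        exact (mul_inv_eq_iff_eq_mul.mp this).symm
      · rintro h ⟨g, hg⟩
        obtain ⟨i, rfl⟩ := Subgroup.mem_zpowers_iff.mp hg
        refine Subtype.ext ?_
        show ((MulAut.conjNormal (y ^ i) x : R) : G) = x
        rw [MulAut.conjNormal_apply, ← ((show Commute (x : G) y from h).zpow_right i).eq,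
          mul_inv_cancel_right]
    have hmod := hY.card_modEq_card_fixedPoints (α := R)
    rw [Nat.card_congr (Equiv.subtypeEquivRight hfx)] at hmod
    have hDne : Nat.card D < Nat.card R := by
      refine lt_of_le_of_ne (Nat.card_le_card_of_injective _ Subtype.val_injective) fun he => ?_
      have hDtop : D = ⊤ := Subgroup.eq_top_of_card_eq D he
      have hyR : y ∈ R := hCR y fun r hr => Subgroup.mem_centralizer_singleton_iff.mp
        (show (⟨r, hr⟩ : R) ∈ D from hDtop ▸ Subgroup.mem_top _)
      obtain ⟨j, hj⟩ := hRp.exists_orderOf_eq_pow ⟨y, hyR⟩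
      rw [← Subgroup.orderOf_coe, hy] at hj
      have : 5 ∣ 2 ^ j := hj ▸ dvd_rfl
      exact absurd ((Fact.out : Nat.Prime 5).dvd_of_dvd_pow this) (by norm_num)
    have hZD : Subgroup.center R ≤ D := fun x hx => by
      rw [Subgroup.mem_subgroupOf, Subgroup.mem_centralizer_singleton_iff]
      exact (Subgroup.mem_center_iff.mp (hcenR x hx) y).symm
    have hD2 : Nat.card D = 2 := by
      obtain ⟨a, ha⟩ := IsPGroup.iff_card.mp hRp
      obtain ⟨b, hb⟩ := IsPGroup.iff_card.mp (hRp.to_subgroup D)
      have hle := Subgroup.card_le_of_le hZD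
      rw [hZ2] at hle
      rw [ha] at hR32 hDne hmod
      rw [hb] at hle hDne hmod ⊢
      have ha5 : a ≤ 5 := (Nat.pow_le_pow_iff_right (show 1 < 2 by norm_num)).mp hR32
      have hba : b < a := (Nat.pow_lt_pow_iff_right (show 1 < 2 by norm_num)).mp hDne
      unfold Nat.ModEq at hmod
      interval_cases a <;> interval_cases b <;> omega
    have hDeq : Subgroup.center R = D := Subgroup.eq_of_le_of_card_ge hZD (by omega)
    intro x hx hxy
    refine hcenR ⟨x, hx⟩ ?_
    rw [hDeq, Subgroup.mem_subgroupOf, Subgroup.mem_centralizer_singleton_iff]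
    exact hxy
  -- centralisers of order five elements
  have hfive : ∀ y : G, orderOf y = 5 → Nat.card (Subgroup.centralizer ({y} : Set G)) ≤ 10 ∧
      ∀ g, g * y = y * g → g ^ 5 ∈ Subgroup.center G := by
    intro y hy
    have hyR : (y : G ⧸ R) ≠ 1 := fun h => by
      obtain ⟨j, hj⟩ := hRp.exists_orderOf_eq_pow ⟨y, (QuotientGroup.eq_one_iff y).mp h⟩
      rw [← Subgroup.orderOf_coe, hy] at hj
      have : 5 ∣ 2 ^ j := hj ▸ dvd_rfl
      exact absurd ((Fact.out : Nat.Prime 5).dvd_of_dvd_pow this) (by norm_num)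
    have hy5 : (y : G ⧸ R) ^ 5 = 1 := by
      rw [← QuotientGroup.mk_pow, ← hy, pow_orderOf_eq_one, QuotientGroup.mk_one]
    haveI : Nontrivial (G ⧸ R) := ⟨(y : G ⧸ R), 1, hyR⟩
    have hpow : ∀ g, g * y = y * g → g ^ 5 ∈ R := fun g hg => by
      rw [← QuotientGroup.eq_one_iff, QuotientGroup.mk_pow]
      exact hQ5 Finite.one_lt_card (y : G ⧸ R) (g : G ⧸ R) hyR hy5
        (by rw [← QuotientGroup.mk_mul, hg, QuotientGroup.mk_mul])
    refine ⟨?_, fun g hg => hfix y hy _ (hpow g hg) ((show Commute g y from hg).pow_left 5).eq⟩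
    rw [centralizer_singleton_card R y]
    refine (Nat.mul_le_mul (show _ ≤ 2 from ?_) (show _ ≤ 5 from ?_))
    · rw [← hZ2]
      refine Nat.card_le_card_of_injective (fun x => ⟨⟨x.1.1, x.2⟩, ?_⟩) ?_
      · rw [Subgroup.mem_center_iff]
        intro r
        exact Subtype.ext (Subgroup.mem_center_iff.mp
          (hfix y hy _ x.2 (Subgroup.mem_centralizer_singleton_iff.mp x.1.2)) r)
      · intro a b h
        exact Subtype.ext (Subtype.ext (congrArg (fun u : Subgroup.center R => ((u : R) : G)) h))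
    · set ψ := (QuotientGroup.mk' R).comp (Subgroup.centralizer ({y} : Set G)).subtype
      have h5 : ∀ c ∈ ψ.range, c ^ 5 = 1 := by
        rintro _ ⟨g, rfl⟩
        rw [← map_pow]
        exact (QuotientGroup.eq_one_iff _).mpr (hpow g.1 (Subgroup.mem_centralizer_singleton_iff.mp g.2))
      have hp5 : IsPGroup 5 ψ.range := fun c => ⟨1, Subtype.ext (by simpa using h5 c.1 c.2)⟩
      obtain ⟨j, hj⟩ := IsPGroup.iff_card.mp hp5
      have hd : 5 ^ j ∣ 20 := hj ▸ (Subgroup.card_subgroup_dvd_card ψ.range).trans hQ20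
      have : j ≤ 1 := by
        by_contra hc
        have := (pow_dvd_pow 5 (show 2 ≤ j by omega)).trans hd
        norm_num at this
      rw [hj]
      interval_cases j <;> norm_num
  -- all other centralisers
  have hB : ∀ g : G, g ∉ Subgroup.center G → Nat.card (Subgroup.centralizer ({g} : Set G)) ≤ 64 := by
    intro g hg
    by_cases h5 : 5 ∣ Nat.card (Subgroup.centralizer ({g} : Set G))
    · obtain ⟨y, hy⟩ := exists_prime_orderOf_dvd_card' 5 h5
      rw [← Subgroup.orderOf_coe] at hy
      have hgy : g * y = y * g := (Subgroup.mem_centralizer_singleton_iff.mp y.2).symm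
      have h5g : 5 ∣ orderOf g := by
        by_contra hc
        obtain ⟨m, hm⟩ := exists_pow_eq_self_of_coprime
          ((Fact.out : Nat.Prime 5).coprime_iff_not_dvd.mpr hc)
        exact hg (hm ▸ pow_mem ((hfive y hy).2 g hgy) m)
      obtain ⟨j, hj⟩ := h5g
      have hj0 : j ≠ 0 := fun h => by have := orderOf_pos g; rw [hj, h, mul_zero] at this; omega
      have hy' : orderOf (g ^ j) = 5 := by
        rw [orderOf_pow' _ hj0, hj, Nat.gcd_eq_right (dvd_mul_left j 5), Nat.mul_div_cancel]
        omega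
      refine (Subgroup.card_le_of_le fun c hc => ?_).trans ((hfive _ hy').1.trans (by norm_num))
      exact Subgroup.mem_centralizer_singleton_iff.mpr
        (Commute.pow_right (Subgroup.mem_centralizer_singleton_iff.mp hc) j).eq
    · set C := Subgroup.centralizer ({g} : Set G) with hC
      have hd : Nat.card C ∣ 2 ^ 9 :=
        ((Fact.out : Nat.Prime 5).coprime_iff_not_dvd.mpr h5).symm.dvd_of_dvd_mul_right
          ((Subgroup.card_subgroup_dvd_card _).trans h2560 : _ ∣ 2 ^ 9 * 5)
      rw [hC, centralizer_singleton_card R g, ← hC, show (64 : ℕ) = 16 * 4 from rfl]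
      refine Nat.mul_le_mul ?_ ?_
      · have he : Nat.card (R.subgroupOf C) = Nat.card (C.subgroupOf R) := Nat.card_congr
          { toFun := fun x => ⟨⟨x.1.1, x.2⟩, x.1.2⟩
            invFun := fun x => ⟨⟨x.1.1, x.2⟩, x.1.2⟩
            left_inv := fun _ => rfl
            right_inv := fun _ => rfl }
        have hne : C.subgroupOf R ≠ ⊤ := fun h => hg (hCRc g fun r hr =>
          Subgroup.mem_centralizer_singleton_iff.mp (show (⟨r, hr⟩ : R) ∈ C.subgroupOf R from
            h ▸ Subgroup.mem_top _))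
        have hi : 2 ≤ (C.subgroupOf R).index := by
          have h0 : (C.subgroupOf R).index ≠ 0 := Subgroup.index_ne_zero_of_finite
          have h1 : (C.subgroupOf R).index ≠ 1 := fun h => hne (Subgroup.index_eq_one.mp h)
          omega
        have := Subgroup.card_mul_index (C.subgroupOf R)
        have h2 := Nat.mul_le_mul_left (Nat.card (C.subgroupOf R)) hi
        omega
      · set ψ := (QuotientGroup.mk' R).comp C.subtype
        have h1 : Nat.card ψ.range ∣ 20 := (Subgroup.card_subgroup_dvd_card _).trans hQ20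
        have h2 : Nat.card ψ.range ∣ 2 ^ 9 := (Subgroup.card_range_dvd ψ).trans hd
        exact Nat.le_of_dvd (by norm_num) ((Nat.dvd_gcd h1 h2).trans (dvd_of_eq (by norm_num)))
  have hz : Nat.card (Subgroup.center G) ≤ 2 :=
    hsmall _ fun x _ y hy => Subgroup.mem_center_iff.mp hy x
  have hk := conjClasses_lt G (by norm_num) hB
  have hs : Nat.card (ConjClasses S) ≤ 8 := by
    refine (card_conjClasses_le S).trans ?_
    have h1 := card_stabilizer_mul ρ htrans S v₀ hv₀ hS
    rw [hVc] at h1
    have h2 : Nat.card (G ⧸ R) * Nat.card R ≤ 20 * 32 :=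
      Nat.mul_le_mul (Nat.le_of_dvd (by norm_num) hQ20) hR32
    omega
  rw [hVc]
  omega

end four

end CfsgLib.KGVTrans
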