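import Cfsg.Agent.Lib.KGVTrans.DegreeTwoClasses
import Cfsg.Agent.Lib.KGVTrans.Small
import Cfsg.Agent.Lib.TransLinear.Regular
import Cfsg.Agent.Lib.PerfectCompl.Nonsolvable
import Cfsg.Agent.Lib.ClassSize.NilpotentMultiset

/-!
# A lower bound for the class number of a transitive linear group of order prime to `p`

At least `p` classes, unless the group is cyclic of order `p - 1` on a line, or is `SL(2, 5)`
on the plane over the field with eleven elements.
-/

set_option autoImplicit false
set_option linter.unusedSectionVars false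
set_option linter.style.haveILetI false
open scoped Classical

namespace CfsgLib.KGVTrans

open Cfsg CfsgLib.TransLinear

/-- A group with at most two classes has at most two elements. -/
theorem card_le_two_of_classes (H : Type*) [Group H] [Finite H]
    (h : Nat.card (ConjClasses H) ≤ 2) : Nat.card H ≤ 2 := by
  by_contra hc
  obtain ⟨g, hg⟩ : ∃ g : H, g ≠ 1 := by
    by_contra hall
    push Not at hall
    haveI : Subsingleton H := ⟨fun a b => (hall a).trans (hall b).symm⟩
    rw [Nat.card_of_subsingleton (1 : H)] at hc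
    omega
  have hne : ConjClasses.mk g ≠ ConjClasses.mk 1 := fun e =>
    hg (isConj_one_left.mp (ConjClasses.mk_eq_mk_iff_isConj.mp e))
  haveI := Fintype.ofFinite (ConjClasses H)
  have hall : ∀ x : H, x ≠ 1 → ConjClasses.mk x = ConjClasses.mk g := by
    intro x hx
    by_contra hxg
    have hx1 : ConjClasses.mk x ≠ ConjClasses.mk 1 := fun e =>
      hx (isConj_one_left.mp (ConjClasses.mk_eq_mk_iff_isConj.mp e))
    have : ({ConjClasses.mk x, ConjClasses.mk g, ConjClasses.mk 1} : Finset (ConjClasses H)).card ≤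
        Fintype.card (ConjClasses H) := Finset.card_le_univ _
    rw [Finset.card_insert_of_notMem (by simp [hxg, hx1]),
      Finset.card_pair hne, ← Nat.card_eq_fintype_card] at this
    omega
  have hcar : (ConjClasses.mk g).carrier = {x : H | x ≠ 1} := by
    ext x
    rw [ConjClasses.mem_carrier_iff_mk_eq]
    exact ⟨fun e h1 => hne (e.symm.trans (h1 ▸ rfl)), hall x⟩
  have h1 := ClassSize.card_carrier g
  rw [hcar, Nat.card_coe_set_eq, show {x : H | x ≠ 1} = ({1} : Set H)ᶜ from rfl, Set.ncard_compl,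
    Set.ncard_singleton] at h1
  have h2 : Nat.card H - 1 ∣ Nat.card H := h1 ▸ Subgroup.index_dvd_card _
  have h3 : Nat.card H - 1 ∣ 1 := by
    have := Nat.dvd_sub h2 (dvd_refl (Nat.card H - 1))
    rwa [show Nat.card H - (Nat.card H - 1) = 1 by omega] at this
  have := Nat.le_of_dvd one_pos h3
  omega

theorem five_pow_bound : ∀ n : ℕ, 3 ≤ n → n ^ 2 ≤ 5 ^ (n - 1) := by
  intro n hn
  induction n, hn using Nat.le_induction with
  | base => norm_num
  | succ n hn ih =>
    have e : 5 ^ (n + 1 - 1) = 5 * 5 ^ (n - 1) := by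
      rw [← pow_succ', show n - 1 + 1 = n + 1 - 1 by omega]
    have h1 : 2 * n + 1 ≤ 4 * n ^ 2 := by nlinarith
    rw [e]
    nlinarith

theorem semilinear_arith {p n : ℕ} (hp : 5 ≤ p) (hn : 2 ≤ n) : (p - 1) * n ^ 2 < p ^ n - 1 := by
  obtain ⟨q, rfl⟩ := Nat.exists_eq_add_of_le hp
  rcases Nat.lt_or_ge n 3 with h | h
  · obtain rfl : n = 2 := by omega
    rw [show 5 + q - 1 = 4 + q by omega]
    have : (4 + q) * 2 ^ 2 + 2 ≤ (5 + q) ^ 2 := by nlinarith
    omega
  · have h1 := (five_pow_bound n h).trans (Nat.pow_le_pow_left (show 5 ≤ 5 + q by omega) (n - 1))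
    have h2 : (5 + q) ^ n = (5 + q) * (5 + q) ^ (n - 1) := by
      rw [← pow_succ', Nat.sub_add_cancel (by omega : 1 ≤ n)]
    rw [h2, show 5 + q - 1 = 4 + q by omega]
    have h3 : (4 + q) * n ^ 2 + 2 ≤ (5 + q) * (5 + q) ^ (n - 1) := by
      have : (4 + q) * n ^ 2 + n ^ 2 ≤ (5 + q) * (5 + q) ^ (n - 1) := by
        calc (4 + q) * n ^ 2 + n ^ 2 = (5 + q) * n ^ 2 := by ring
          _ ≤ _ := Nat.mul_le_mul_left _ h1
      have : 2 ≤ n ^ 2 := by nlinarith
      omega
    omega

variable {p : ℕ} [hp : Fact p.Prime] {V : Type*} [AddCommGroup V] [Module (ZMod p) V] [Finite V]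
  [Nontrivial V] {G : Type*} [Group G] [Finite G] (ρ : G →* (V ≃ₗ[ZMod p] V))

/-- The kernel of the field automorphisms of a semilinear group. -/
theorem semilinear_classes (hρ : Function.Injective ρ)
    (htrans : ∀ v w : V, v ≠ 0 → w ≠ 0 → ∃ g : G, ρ g v = w) (hsl' : Semilin ρ) :
    (5 ≤ p → 2 ≤ Module.finrank (ZMod p) V → p ≤ Nat.card (ConjClasses G)) ∧
    (Module.finrank (ZMod p) V = 1 →
      IsCyclic G ∧ Nat.card G = p - 1 ∧ Nat.card (ConjClasses G) = p - 1) := by
  obtain ⟨F, _, _, e, hsl⟩ := hsl'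
  obtain ⟨v₀, hv₀⟩ := exists_ne (0 : V)
  haveI : Fintype G := Fintype.ofFinite G
  haveI : Fintype F := Fintype.ofFinite F
  haveI : Nontrivial V := ⟨⟨v₀, 0, hv₀⟩⟩
  have hpF : ∀ x : F, p • x = 0 := fun x => by
    obtain ⟨v, rfl⟩ := e.surjective x
    rw [← map_nsmul, ← Nat.cast_smul_eq_nsmul (ZMod p), ZMod.natCast_self, zero_smul, map_zero]
  haveI : CharP F p := by
    refine CharP.congr (ringChar F) ?_
    refine ((Nat.prime_dvd_prime_iff_eq (CharP.char_is_prime F (ringChar F)) hp.out).mp ?_)
    rw [← ringChar.spec]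
    simpa using hpF 1
  letI : Algebra (ZMod p) F := ZMod.algebra F p
  haveI : Module.Finite (ZMod p) F := Module.Finite.of_finite
  set n := Module.finrank (ZMod p) F with hn
  have hq : Nat.card V = p ^ n := by
    rw [Nat.card_congr e.toEquiv, Module.natCard_eq_pow_finrank (K := ZMod p) (V := F), Nat.card_zmod]
  have hnpos : 0 < n := Module.finrank_pos
  choose α σ hσ using hsl
  have huniq : ∀ g (b : F) (τ : F ≃+* F), (∀ v, e (ρ g v) = b * τ (e v)) → α g = b ∧ σ g = τ := by
    intro g b τ h
    have h1 : α g = b := by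
      have := (hσ g (e.symm 1)).symm.trans (h (e.symm 1))
      simpa using this
    refine ⟨h1, RingEquiv.ext fun x => ?_⟩
    have hb : b ≠ 0 := fun hb => by
      have := h (e.symm 1)
      rw [hb, zero_mul, map_eq_zero_iff e e.injective, LinearEquiv.map_eq_zero_iff,
        map_eq_zero_iff e.symm e.symm.injective] at this
      exact one_ne_zero this
    have := (hσ g (e.symm x)).symm.trans (h (e.symm x))
    rw [h1, e.apply_symm_apply] at this
    exact mul_left_cancel₀ hb this
  have hα : ∀ g, α g ≠ 0 := fun g hb => by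
    have := hσ g (e.symm 1)
    rw [hb, zero_mul, map_eq_zero_iff e e.injective, LinearEquiv.map_eq_zero_iff,
      map_eq_zero_iff e.symm e.symm.injective] at this
    exact one_ne_zero this
  have hmul : ∀ g h, α (g * h) = α g * σ g (α h) ∧ σ (g * h) = (σ h).trans (σ g) := fun g h =>
    huniq _ _ _ fun v => by
      rw [map_mul, LinearEquiv.mul_apply, hσ g, hσ h, map_mul, RingEquiv.trans_apply, mul_assoc]
  have hone : α 1 = 1 ∧ σ 1 = RingEquiv.refl F := huniq _ _ _ fun v => by simp
  let alg : (F ≃+* F) → (F ≃ₐ[ZMod p] F) := fun τ => AlgEquiv.ofRingEquiv (f := τ) fun x => by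
    exact RingHom.congr_fun (Subsingleton.elim ((τ : F →+* F).comp (algebraMap (ZMod p) F)) (algebraMap (ZMod p) F)) x
  let φ : G →* (F ≃ₐ[ZMod p] F) :=
    { toFun := fun g => alg (σ g)
      map_one' := AlgEquiv.ext fun x => by show σ 1 x = x; rw [hone.2]; rfl
      map_mul' := fun g h => AlgEquiv.ext fun x => by show σ (g * h) x = σ g (σ h x); rw [(hmul g h).2]; rfl }
  set A := φ.ker with hA
  have hmemA : ∀ g, g ∈ A ↔ σ g = RingEquiv.refl F := fun g => by
    rw [hA, MonoidHom.mem_ker]
    exact ⟨fun h => RingEquiv.ext fun x => AlgEquiv.congr_fun h x,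
      fun h => AlgEquiv.ext fun x => by show σ g x = x; rw [h]; rfl⟩
  set d := Nat.card φ.range with hd
  set a := Nat.card A with ha
  have had : a * d = Nat.card G := by
    rw [hd, ← Subgroup.index_ker, ha, hA, Subgroup.card_mul_index]
  have hdn : d ∣ n := by
    rw [hn, ← IsGalois.card_aut_eq_finrank (ZMod p) F]
    exact Subgroup.card_subgroup_dvd_card _
  have hinjA : ∀ g h : G, g ∈ A → h ∈ A → α g = α h → g = h := fun g h hg hh he =>
    hρ (LinearEquiv.ext fun v => e.injective (by
      rw [hσ g, hσ h, he, (hmemA g).mp hg, (hmemA h).mp hh]))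
  have hcardF : Nat.card F = p ^ n := by rw [← hq, Nat.card_congr e.toEquiv]
  have haq : a ≤ p ^ n - 1 := by
    rw [← hcardF, ← Nat.card_units]
    exact Nat.card_le_card_of_injective (fun g : A => Units.mk0 (α g) (hα g)) fun g h he =>
      Subtype.ext (hinjA g h g.2 h.2 (congrArg Units.val he))
  have hdim : Module.finrank (ZMod p) V = n := by
    refine Nat.pow_right_injective hp.out.two_le ?_
    show p ^ _ = p ^ n
    rw [← hq, card_eq_pow (p := p) (V := V)]
  have hdvd : p ^ n - 1 ∣ a * d := by
    rw [had, ← hq]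
    exact TransLinear.card_sub_one_dvd htrans
  have hcomm : ∀ g h : G, g ∈ A → h ∈ A → g * h = h * g := fun g h hg hh =>
    hinjA _ _ (mul_mem hg hh) (mul_mem hh hg) (by
      rw [(hmul g h).1, (hmul h g).1, (hmemA g).mp hg, (hmemA h).mp hh]
      exact mul_comm _ _)
  refine ⟨fun hp5 hn2 => ?_, fun hn1 => ?_⟩
  · have hkd : a ≤ Nat.card (ConjClasses G) * d := by
      have h1 : a * a ≤ Nat.card (ConjClasses G) * Nat.card G := by
        rw [← sum_card_centralizer G]
        have h2 : ∑ g ∈ Finset.univ.filter (fun g : G => g ∈ A), a ≤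
            ∑ g ∈ Finset.univ.filter (fun g : G => g ∈ A),
              Nat.card (Subgroup.centralizer ({g} : Set G)) :=
          Finset.sum_le_sum fun g hg => Subgroup.card_le_of_le fun x hx =>
            Subgroup.mem_centralizer_singleton_iff.mpr (hcomm x g hx (Finset.mem_filter.mp hg).2)
        refine (le_trans (le_of_eq ?_) h2).trans
          (Finset.sum_le_sum_of_subset (Finset.subset_univ _))
        rw [Finset.sum_const, smul_eq_mul, ha, Nat.card_eq_fintype_card (α := A),
          Fintype.card_subtype]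
      rw [← had, ← mul_assoc, mul_right_comm, mul_comm (_ * d) a] at h1
      exact Nat.le_of_mul_le_mul_left h1 Nat.card_pos
    have hdle : d ≤ n := Nat.le_of_dvd hnpos hdn
    have hle : p ^ n - 1 ≤ a * d :=
      Nat.le_of_dvd (Nat.mul_pos Nat.card_pos Nat.card_pos) hdvd
    by_contra hk
    have h3 : p ^ n - 1 ≤ (p - 1) * n ^ 2 := by
      calc p ^ n - 1 ≤ a * d := hle
        _ ≤ Nat.card (ConjClasses G) * d * d := Nat.mul_le_mul_right _ hkd
        _ ≤ (p - 1) * n * n := Nat.mul_le_mul (Nat.mul_le_mul (by omega) hdle) hdle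
        _ = _ := by ring
    have := semilinear_arith hp5 (hdim ▸ hn2)
    omega
  · rw [hdim] at hn1
    have hd1 : d = 1 := Nat.dvd_one.mp (hn1 ▸ hdn)
    have hAt : A = ⊤ := Subgroup.eq_top_of_card_eq A (by rw [← had, hd1, mul_one])
    have hcard : Nat.card G = p - 1 := by
      refine le_antisymm ?_ (Nat.le_of_dvd Nat.card_pos ?_)
      · rw [← had, hd1, mul_one]
        rw [hn1, pow_one] at haq
        exact haq
      · rw [← had]
        rw [hn1, pow_one] at hdvd
        exact hdvd
    have hcyc : IsCyclic G := by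
      let ι : G →* F :=
        { toFun := α
          map_one' := hone.1
          map_mul' := fun g h => by
            rw [(hmul g h).1, (hmemA g).mp (hAt ▸ Subgroup.mem_top g), RingEquiv.refl_apply] }
      exact isCyclic_of_subgroup_isDomain ι fun g h he =>
        hinjA g h (hAt ▸ Subgroup.mem_top g) (hAt ▸ Subgroup.mem_top h) he
    refine ⟨hcyc, hcard, ?_⟩
    rw [← hcard]
    letI : CommGroup G := { (inferInstance : Group G) with
      mul_comm := fun g h => hcomm g h (hAt ▸ Subgroup.mem_top g) (hAt ▸ Subgroup.mem_top h) }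
    exact Nat.card_congr ConjClasses.mkEquiv.symm

/-- A regular group of order 120 on a plane over eleven elements is `SL(2, 5)`. -/
theorem iso_sl25_of_regular (hρ : Function.Injective ρ)
    (hreg : ∀ v : V, v ≠ 0 → ∀ g : G, ρ g v = v → g = 1) (hcard : Nat.card G = 120)
    (hab : ∀ (C : Subgroup G) [C.Normal], (∀ x ∈ C, ∀ y ∈ C, x * y = y * x) →
      C ≤ Subgroup.center G)
    (hz : Nat.card (Subgroup.center G) = 2)
    (hB : ∀ g : G, g ∉ Subgroup.center G → Nat.card (Subgroup.centralizer ({g} : Set G)) ≤ 10) :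
    Nonempty (G ≃* Matrix.SpecialLinearGroup (Fin 2) (ZMod 5)) := by
  haveI := Fintype.ofFinite G
  set Z := Subgroup.center G with hZ
  have hns : ¬ Group.IsSolvable G := by
    intro hsol
    obtain ⟨N, hN⟩ := hsol.solvable
    -- the last term of the derived series outside the centre
    have hex : ∃ i, derivedSeries G i ≤ Z := ⟨N, hN ▸ bot_le⟩
    have h0 : Nat.find hex ≠ 0 := fun h => by
      have h1 := Nat.find_spec hex
      rw [h, derivedSeries_zero] at h1
      have h2 := Subgroup.card_le_of_le h1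
      rw [Subgroup.card_top, hcard, hz] at h2
      omega
    obtain ⟨i, hi⟩ := Nat.exists_eq_succ_of_ne_zero h0
    set D := derivedSeries G i with hD
    haveI : D.Normal := derivedSeries_normal G i
    have hDZ : ¬ D ≤ Z := Nat.find_min hex (by omega)
    have hD' : ⁅D, D⁆ ≤ Z := by
      have h1 := Nat.find_spec hex
      rwa [hi, derivedSeries_succ] at h1
    have hzsq : ∀ z ∈ Z, z * z = 1 := fun z hz' => by
      have h1 : (⟨z, hz'⟩ : Z) ^ 2 = 1 := hz ▸ pow_card_eq_one'
      simpa [pow_two] using congrArg Subtype.val h1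
    -- squares are central in `D`
    haveI hC : ((Subgroup.center D).map D.subtype).Normal :=
      ConjAct.normal_of_characteristic_of_normal
    have hCZ : (Subgroup.center D).map D.subtype ≤ Z := hab _ (by
      rintro _ ⟨x, hx, rfl⟩ _ ⟨y, -, rfl⟩
      exact congrArg Subtype.val (Subgroup.mem_center_iff.mp hx y).symm)
    have hsq : ∀ x ∈ D, x * x ∈ Z := by
      intro x hx
      refine hCZ ⟨⟨x * x, mul_mem hx hx⟩, Subgroup.mem_center_iff.mpr fun y => Subtype.ext ?_, rfl⟩
      show (y : G) * (x * x) = x * x * y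
      set c := x * (y : G) * x⁻¹ * (y : G)⁻¹ with hc
      have hcZ : c ∈ Z := hD' (Subgroup.commutator_mem_commutator hx y.2)
      have h1 : x * y = c * (y * x) := by rw [hc]; group
      have hcx : x * c = c * x := Subgroup.mem_center_iff.mp hcZ x
      calc (y : G) * (x * x) = c * c * (y * x * x) := by rw [hzsq c hcZ, one_mul, mul_assoc]
        _ = c * (x * y) * x := by rw [h1]; group
        _ = x * (c * (y * x)) := by rw [← mul_assoc c x, ← hcx]; group
        _ = x * x * y := by rw [← h1, mul_assoc]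
    have hD2 : IsPGroup 2 D := fun x => ⟨2, Subtype.ext (by
      rw [SubmonoidClass.coe_pow, show (x : G) ^ 2 ^ 2 = x * x * (x * x) by rw [show (2:ℕ) ^ 2 = 2 * 2 by rfl, pow_mul, pow_two, pow_two],
        hzsq _ (hsq x x.2)]
      rfl)⟩
    obtain ⟨m, hm⟩ := IsPGroup.iff_card.mp hD2
    have hmd : 2 ^ m ∣ 120 := by rw [← hm, ← hcard]; exact Subgroup.card_subgroup_dvd_card D
    have hD8 : Nat.card D = 8 := by
      have hm3 : m ≤ 3 := by
        by_contra h
        have : 2 ^ 4 ∣ 120 := (pow_dvd_pow 2 (by omega)).trans hmd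
        norm_num at this
      rw [hm]
      rcases (show m = 3 ∨ m ≤ 2 by omega) with h | h
      · rw [h]; norm_num
      · exfalso
        haveI := Fact.mk Nat.prime_two
        refine hDZ (hab D fun x hx y hy => congrArg Subtype.val
          (?_ : (⟨x, hx⟩ : D) * ⟨y, hy⟩ = ⟨y, hy⟩ * ⟨x, hx⟩))
        rcases (show m = 0 ∨ m = 1 ∨ m = 2 by omega) with rfl | rfl | rfl
        · haveI : Subsingleton D := (Nat.card_eq_one_iff_unique.mp (by simpa using hm)).1
          exact Subsingleton.elim _ _
        · haveI : IsCyclic D := isCyclic_of_prime_card (p := 2) (by simpa using hm)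
          exact mul_comm' _ _
        · exact (IsPGroup.isMulCommutative_of_card_eq_prime_sq (p := 2) hm).is_comm.comm _ _
    -- an element of order five fixes at least three points of `D`
    haveI : Fact (Nat.Prime 5) := ⟨by norm_num⟩
    obtain ⟨g, hg⟩ := exists_prime_orderOf_dvd_card' (G := G) 5 (by rw [hcard]; norm_num)
    have hgZ : g ∉ Z := fun h => by
      have h1 : g * g = 1 := hzsq g h
      have h2 : orderOf g ∣ 2 := orderOf_dvd_of_pow_eq_one (by rw [pow_two, h1])
      rw [hg] at h2
      norm_num at h2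
    set C := Subgroup.centralizer ({g} : Set G) with hCdef
    let P := Subgroup.zpowers g
    letI act : MulAction P D := MulAction.compHom D ((MulAut.conjNormal : G →* MulAut D).comp P.subtype)
    have hP : IsPGroup 5 P := IsPGroup.of_card (n := 1) (by rw [Nat.card_zpowers, hg, pow_one])
    have hmod := hP.card_modEq_card_fixedPoints D
    have hfix : Nat.card (MulAction.fixedPoints P D) = Nat.card (C ⊓ D : Subgroup G) := by
      refine Nat.card_congr
        { toFun := fun x => ⟨(x.1 : G), Subgroup.mem_centralizer_singleton_iff.mpr ?_, x.1.2⟩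
          invFun := fun x => ⟨⟨x.1, x.2.2⟩, fun q => Subtype.ext ?_⟩
          left_inv := fun _ => rfl
          right_inv := fun _ => rfl }
      · have h1 := congrArg Subtype.val (x.2 ⟨g, Subgroup.mem_zpowers g⟩)
        change g * (x.1 : G) * g⁻¹ = (x.1 : G) at h1
        calc (x.1 : G) * g = g * (x.1 : G) * g⁻¹ * g := by rw [h1]
          _ = g * (x.1 : G) := by group
      · show (q : G) * x.1 * (q : G)⁻¹ = x.1
        obtain ⟨j, hj⟩ := Subgroup.mem_zpowers_iff.mp q.2
        have hc : Commute g x.1 := (Subgroup.mem_centralizer_singleton_iff.mp x.2.1).symm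
        rw [← hj, (hc.zpow_left j).eq, mul_inv_cancel_right]
    rw [hfix, hD8] at hmod
    have hCD : Nat.card (C ⊓ D : Subgroup G) ∣ 8 := hD8 ▸ Subgroup.card_dvd_of_le inf_le_right
    have h4 : 4 ∣ Nat.card (C ⊓ D : Subgroup G) := by
      rcases Nat.le_of_dvd (by norm_num) hCD with h
      obtain ⟨j, hj, hjeq⟩ := (Nat.dvd_prime_pow Nat.prime_two).mp (show _ ∣ 2 ^ 3 from hCD)
      rcases (show j = 0 ∨ j = 1 ∨ 2 ≤ j by omega) with rfl | rfl | hj2
      · rw [hjeq] at hmod; exact absurd hmod (by decide)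
      · rw [hjeq] at hmod; exact absurd hmod (by decide)
      · rw [hjeq]; exact pow_dvd_pow 2 hj2
    have h20 : 20 ∣ Nat.card C := Nat.Coprime.mul_dvd_of_dvd_of_dvd (m := 4) (n := 5) (by norm_num)
      (h4.trans (Subgroup.card_dvd_of_le inf_le_left))
      (hg ▸ by
        have : Subgroup.zpowers g ≤ C := by
          rw [Subgroup.zpowers_le, hCdef, Subgroup.mem_centralizer_singleton_iff]
        rw [← Nat.card_zpowers]
        exact Subgroup.card_dvd_of_le this)
    have := Nat.le_of_dvd Nat.card_pos h20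
    have : Nat.card C ≤ 10 := hB g hgZ
    omega
  obtain ⟨D, -, hD1, hperf⟩ := PerfectCompl.exists_perfect_core hns
  haveI : Nontrivial D := (Subgroup.nontrivial_iff_ne_bot D).mpr hD1
  haveI : Module.Finite (ZMod p) V := Module.Finite.of_finite
  let b := Module.finBasis (ZMod p) V
  have hfpf : FrobCompl.HasFpf D := by
    haveI : Nontrivial (Fin (Module.finrank (ZMod p) V) → ZMod p) := b.equivFun.toEquiv.nontrivial_congr.mp ‹_›
    let e' : V ≃+ (Fin (Module.finrank (ZMod p) V) → ZMod p) := b.equivFun.toAddEquiv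
    refine ⟨Fin (Module.finrank (ZMod p) V) → ZMod p, inferInstance, inferInstance, inferInstance,
      { toFun := fun g => (e'.toAddMonoidHom.comp ((ρ g).toAddEquiv.toAddMonoidHom.comp e'.symm.toAddMonoidHom))
        map_one' := AddMonoidHom.ext fun v => by
          show e' (ρ 1 (e'.symm v)) = v
          rw [map_one]
          exact e'.apply_symm_apply v
        map_mul' := fun g h => AddMonoidHom.ext fun v => by
          show e' (ρ (g * h : D) (e'.symm v)) = e' (ρ g (e'.symm (e' (ρ h (e'.symm v)))))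
          rw [e'.symm_apply_apply, Subgroup.coe_mul, map_mul]; rfl }, fun g hg v hv => ?_⟩
    by_contra hv0
    refine hg (Subtype.ext (hreg (e'.symm v) (fun h => hv0 (by rw [← e'.apply_symm_apply v, h, map_zero])) g ?_))
    exact e'.injective ((show e' (ρ g (e'.symm v)) = v from hv).trans (e'.apply_symm_apply v).symm)
  obtain ⟨e⟩ := PerfectCompl.iso_of_perfect_fpf hfpf hperf
  have hS : Nat.card (Matrix.SpecialLinearGroup (Fin 2) (ZMod 5)) = 120 := by
    haveI : Fact (Nat.Prime 5) := ⟨by norm_num⟩
    rw [CfsgLib.Classical.card_SL_two, ZMod.card]; norm_num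
  have hDtop : D = ⊤ := Subgroup.eq_top_of_card_eq D (by rw [Nat.card_congr e.toEquiv, hS, hcard])
  exact ⟨((MulEquiv.subgroupCongr hDtop).trans Subgroup.topEquiv).symm.trans e⟩

/-- **The lower bound.** -/
theorem classes_lower (hρ : Function.Injective ρ) (hG : ¬ p ∣ Nat.card G)
    (htrans : ∀ v w : V, v ≠ 0 → w ≠ 0 → ∃ g : G, ρ g v = w) :
    p ≤ Nat.card (ConjClasses G) ∨
      (Nat.card V = p ∧ IsCyclic G ∧ Nat.card G = p - 1 ∧ Nat.card (ConjClasses G) = p - 1) ∨
      (p = 11 ∧ Nat.card V = 121 ∧ Nat.card G = 120 ∧ Nat.card (ConjClasses G) = 9 ∧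
        Nonempty (G ≃* Matrix.SpecialLinearGroup (Fin 2) (ZMod 5))) := by
  rw [or_iff_not_imp_left, not_le]
  intro hk
  haveI := Fintype.ofFinite G
  have hV : Nat.card V = p ^ Module.finrank (ZMod p) V := card_eq_pow (p := p)
  have hn0 : 0 < Module.finrank (ZMod p) V := finrank_pos' (p := p)
  have hsub : Nat.card V - 1 ∣ Nat.card G := TransLinear.card_sub_one_dvd htrans
  rcases (show Module.finrank (ZMod p) V = 1 ∨ 2 ≤ Module.finrank (ZMod p) V by omega) with h1 | h2
  · left
    have hsl : Semilin ρ := by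
      rcases structure_cases ρ hρ hG htrans with h | ⟨-, h⟩ | ⟨-, h⟩
      · exact h
      all_goals omega
    exact ⟨by rw [hV, h1, pow_one], (semilinear_classes ρ hρ htrans hsl).2 h1⟩
  have hVp : p ^ 2 ≤ Nat.card V := hV ▸ Nat.pow_le_pow_right hp.out.pos h2
  have hbig : p ^ 2 - 1 ≤ Nat.card G :=
    (Nat.sub_le_sub_right hVp 1).trans (Nat.le_of_dvd Nat.card_pos hsub)
  have hp5 : 5 ≤ p := by
    by_contra h
    have h2' : Nat.card (ConjClasses G) ≤ 2 := by
      have : p ≠ 4 := fun e => by have := hp.out; rw [e] at this; norm_num at this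
      omega
    have h3 := card_le_two_of_classes G h2'
    have : 2 ^ 2 ≤ p ^ 2 := Nat.pow_le_pow_left hp.out.two_le 2
    omega
  have hns : ¬ Semilin ρ := fun h => by
    have := (semilinear_classes ρ hρ htrans h).1 hp5 h2
    omega
  have hn : Module.finrank (ZMod p) V = 2 := by
    rcases structure_cases ρ hρ hG htrans with h | ⟨-, h⟩ | ⟨h, -⟩
    · exact absurd h hns
    · exact h
    · omega
  right
  have hab : ∀ (C : Subgroup G) [C.Normal], (∀ x ∈ C, ∀ y ∈ C, x * y = y * x) →
      C ≤ Subgroup.center G ∧ Nat.card C ∣ p - 1 := by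
    intro C _ hC
    obtain ⟨d, t, hd, ht, hdt, -, -, hCd, f, hf⟩ := small_abelian ρ hρ htrans hns C hC
    rw [hn] at hdt
    have : d * 2 ≤ d * t := Nat.mul_le_mul_left d ht
    obtain rfl : d = 1 := by omega
    rw [pow_one] at hCd
    refine ⟨fun x hx => Subgroup.mem_center_iff.mpr fun g => ?_, hCd⟩
    have hg : g ∈ Subgroup.centralizer (C : Set G) := hf ▸ (Subsingleton.elim _ _ : f g = 1)
    exact (hg x hx).symm
  have hV2 : Nat.card V = p ^ 2 := by rw [hV, hn]
  have hp25 : 25 ≤ p ^ 2 := by nlinarith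
  obtain ⟨χ, ⟨m, σ, hσ⟩, hfaith, hdeg⟩ := exists_char ρ hρ hG hn
  obtain rfl : m = 2 := by
    rw [← hσ, Cfsg.charDegree, Representation.char_one] at hdeg
    simpa using hdeg
  have hinj : Function.Injective σ := by
    intro x y h
    have h1 : σ (x * y⁻¹) = 1 := by rw [map_mul, h, ← map_mul, mul_inv_cancel, map_one]
    refine mul_inv_eq_one.mp (hfaith _ ?_)
    rw [← hσ, Representation.character, Representation.character, h1, map_one σ]
  have hncomm : ¬ ∀ x y : G, x * y = y * x := fun h => by
    have h1 := (hab ⊤ fun x _ y _ => h x y).2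
    rw [Subgroup.card_top] at h1
    have := Nat.le_of_dvd (by omega) h1
    have : 5 * p ≤ p ^ 2 := by nlinarith
    omega
  have hline : ∀ L : Submodule ℂ (Fin 2 → ℂ), Module.finrank ℂ L = 1 →
      ∃ g, ¬ L.map (σ g) ≤ L := fun L hL => by
    by_contra h
    push Not at h
    exact hncomm fun x y => commute_of_line σ hinj L hL (h x) (h y)
  have hprim : ¬ ∃ H : Subgroup G, H.Normal ∧ H.index ≤ 2 ∧ ∀ x ∈ H, ∀ y ∈ H, x * y = y * x := by
    rintro ⟨H, hHn, hHi, hH⟩
    haveI := hHn
    have h1 := Nat.le_of_dvd (by omega) (hab H hH).2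
    have h3 : Nat.card G ≤ (p - 1) * 2 := by
      rw [← Subgroup.card_mul_index H]; exact Nat.mul_le_mul h1 hHi
    have : 5 * p ≤ p ^ 2 := by nlinarith
    omega
  obtain ⟨c, hc, hcn, hck, hB⟩ := classes_primitive σ hinj hline hprim
  have hz : Nat.card (Subgroup.center G) ∣ p - 1 :=
    (hab (Subgroup.center G) fun x _ y hy => Subgroup.mem_center_iff.mp hy x).2
  have hzpos : 0 < Nat.card (Subgroup.center G) := Nat.card_pos
  have hzle := Nat.le_of_dvd (by omega) hz
  have hidx := Subgroup.index_mul_card (Subgroup.center G)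
  have hdvd : p ^ 2 - 1 ∣ Nat.card G := hV2 ▸ hsub
  obtain ⟨v₀, hv₀⟩ := exists_ne (0 : V)
  let S : Subgroup G :=
    { carrier := {g | ρ g v₀ = v₀}
      one_mem' := by simp
      mul_mem' := fun {a b} ha hb => by
        show ρ (a * b) v₀ = v₀
        rw [map_mul, LinearEquiv.mul_apply, hb, ha]
      inv_mem' := fun {a} ha => by
        show ρ a⁻¹ v₀ = v₀
        conv_lhs => rw [← show ρ a v₀ = v₀ from ha]
        exact inv_apply_apply ρ a v₀ }
  have hregular : Nat.card G = p ^ 2 - 1 → ∀ v : V, v ≠ 0 → ∀ g : G, ρ g v = v → g = 1 := by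
    intro hcard v hv g hgv
    have h1 := card_stabilizer_mul ρ htrans S v₀ hv₀ fun _ => Iff.rfl
    rw [hV2, hcard] at h1
    have hS1 : Nat.card S = 1 := Nat.eq_of_mul_eq_mul_left (show 0 < p ^ 2 - 1 by omega) (by rw [h1, mul_one])
    obtain ⟨x, hx⟩ := htrans v v₀ hv hv₀
    have hmem : x * g * x⁻¹ ∈ S := by
      show ρ (x * g * x⁻¹) v₀ = v₀
      rw [← hx, map_mul, map_mul, LinearEquiv.mul_apply, LinearEquiv.mul_apply, inv_apply_apply, hgv]
    rw [Subgroup.eq_bot_of_card_eq S hS1, Subgroup.mem_bot] at hmem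
    exact conj_eq_one_iff.mp hmem
  rcases hc with rfl | rfl | rfl
  · -- twelve
    exfalso
    have hn12 : (Subgroup.center G).index = 12 := by omega
    rw [hn12] at hidx
    have : 5 * p ≤ p ^ 2 := by nlinarith
    omega
  · have hn24 : (Subgroup.center G).index = 24 := by omega
    rw [hn24] at hidx
    have h3 : p = 5 := by
      by_contra h3
      have : 6 * p ≤ p ^ 2 := by
        rw [pow_two]
        exact Nat.mul_le_mul_right p (by omega)
      omega
    subst h3
    exfalso
    have hz1 : Nat.card (Subgroup.center G) = 1 := by omega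
    have hcard : Nat.card G = 5 ^ 2 - 1 := by rw [← hidx, hz1]; norm_num
    have hreg := hregular hcard
    haveI := Fact.mk Nat.prime_two
    obtain ⟨t, ht⟩ := exists_prime_orderOf_dvd_card' (G := G) 2 (by rw [hcard]; norm_num)
    have htc : t ∈ Subgroup.center G := TransLinear.involution_central hρ hreg ht
    rw [Subgroup.eq_bot_of_card_eq _ hz1, Subgroup.mem_bot] at htc
    rw [htc, orderOf_one] at ht
    omega
  · have hn60 : (Subgroup.center G).index = 60 := by omega
    rw [hn60] at hidx
    have hp12 : p ≤ 13 := by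
      by_contra h3
      have : 14 * p ≤ p ^ 2 := by
        rw [pow_two]
        exact Nat.mul_le_mul_right p (by omega)
      omega
    have hp11 : p = 11 := by
      have hpr := hp.out
      rw [← hidx] at hdvd hG
      interval_cases p
      all_goals
        first
        | rfl
        | (exfalso; norm_num at hpr; done)
        | exact absurd (Dvd.dvd.mul_right (show 5 ∣ 60 from ⟨12, rfl⟩) _) hG
        | (exfalso
           have h9 : Nat.card (Subgroup.center G) ≤ 2 := by omega
           interval_cases hzc : Nat.card (Subgroup.center G) <;> norm_num at hdvd)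
    subst hp11
    have hz2 : Nat.card (Subgroup.center G) = 2 := by
      have h9 : Nat.card (Subgroup.center G) ≤ 2 := by omega
      rw [← hidx] at hdvd
      interval_cases hzc : Nat.card (Subgroup.center G)
      · norm_num at hdvd
      · rfl
    have hcard : Nat.card G = 120 := by rw [← hidx, hz2]
    refine ⟨rfl, by rw [hV2]; norm_num, hcard, by omega, ?_⟩
    exact iso_sl25_of_regular ρ hρ (hregular (by rw [hcard]; norm_num)) hcard
      (fun C _ hC => (hab C hC).1) hz2 fun g hg => (hB g hg).trans (by rw [hz2])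

end CfsgLib.KGVTrans
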