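import Cfsg.Agent.Lib.KGVTrans.Degree2
import Cfsg.Agent.Lib.KGVTrans.Semilinear

/-!
# Primitive linear groups of degree two: the exact number of classes
-/

set_option autoImplicit false
set_option linter.unusedSectionVars false
set_option linter.style.haveILetI false
open Module Pointwise
open scoped Classical

namespace CfsgLib.KGVTrans

universe u

local notation "V" => (Fin 2 → ℂ)

variable {G : Type u} [Group G] [Finite G] (ρ : Representation ℂ G V)

/-- Elements fixing a common line commute. -/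
theorem commute_of_line (hinj : Function.Injective ρ) (L : Submodule ℂ V) (hL : finrank ℂ L = 1)
    {x y : G} (hx : L.map (ρ x) ≤ L) (hy : L.map (ρ y) ≤ L) : x * y = y * x := by
  obtain ⟨⟨w, hw⟩, hw0, hs⟩ := finrank_eq_one_iff'.mp hL
  have hw0' : w ≠ 0 := fun h => hw0 (Subtype.ext h)
  have hex : ∀ g : G, L.map (ρ g) ≤ L → ∃ a : ℂ, ρ g w = a • w := fun g hg => by
    obtain ⟨a, ha⟩ := hs ⟨ρ g w, hg ⟨w, hw, rfl⟩⟩
    exact ⟨a, (congrArg Subtype.val ha).symm⟩
  obtain ⟨a, ha⟩ := hex x hx
  obtain ⟨b, hb⟩ := hex y hy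
  set c := x * y * x⁻¹ * y⁻¹ with hc
  have hinv : ∀ (g : G) (r : ℂ), ρ g w = r • w → r • ρ g⁻¹ w = w := fun g r h => by
    rw [← map_smul, ← h, ← Module.End.mul_apply, ← map_mul, inv_mul_cancel, map_one]; rfl
  have hcw : ρ c w = w := by
    have e : ρ (x * y) w = ρ (y * x) w := by
      rw [map_mul, map_mul, Module.End.mul_apply, Module.End.mul_apply, hb, ha, map_smul, map_smul,
        ha, hb, smul_smul, smul_smul, mul_comm]
    have e2 : ρ ((y * x) * (y * x)⁻¹) w = w := by rw [mul_inv_cancel, map_one]; rfl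
    obtain ⟨r, hr⟩ : ∃ r : ℂ, ρ (y * x)⁻¹ w = r • w := by
      have hab : (a * b) • ρ (y * x)⁻¹ w = w := hinv (y * x) (a * b) (by
        rw [map_mul, Module.End.mul_apply, ha, map_smul, hb, smul_smul])
      refine ⟨(a * b)⁻¹, ?_⟩
      have hne : a * b ≠ 0 := fun h0 => hw0' (by rw [← hab, h0, zero_smul])
      calc ρ (y * x)⁻¹ w = (a * b)⁻¹ • ((a * b) • ρ (y * x)⁻¹ w) := by
            rw [smul_smul, inv_mul_cancel₀ hne, one_smul]
        _ = _ := by rw [hab]
    calc ρ c w = ρ ((x * y) * (y * x)⁻¹) w := by rw [hc]; congr 2; group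
      _ = ρ ((y * x) * (y * x)⁻¹) w := by
          rw [map_mul, Module.End.mul_apply, hr, map_smul, e, map_mul ρ (y * x) (y * x)⁻¹,
            Module.End.mul_apply, hr, map_smul]
      _ = w := e2
  -- the matrix of the commutator
  let f : G →* Matrix (Fin 2) (Fin 2) ℂ :=
    (LinearMap.toMatrixAlgEquiv' : (V →ₗ[ℂ] V) ≃ₐ[ℂ] Matrix (Fin 2) (Fin 2) ℂ).toMonoidHom.comp ρ
  have hfap : ∀ (g : G) (v : V), (f g).mulVec v = ρ g v := fun g v =>
    LinearMap.toMatrix'_mulVec (ρ g) v
  have hdet : (f c).det = 1 := by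
    show Matrix.detMonoidHom (f c) = 1
    rw [← MonoidHom.comp_apply]
    set D := (Matrix.detMonoidHom : Matrix (Fin 2) (Fin 2) ℂ →* ℂ).comp f
    have h1 : D x * D x⁻¹ = 1 := by rw [← map_mul, mul_inv_cancel, map_one]
    have h2 : D y * D y⁻¹ = 1 := by rw [← map_mul, mul_inv_cancel, map_one]
    rw [hc, map_mul, map_mul, map_mul, show D x * D y * D x⁻¹ * D y⁻¹ = (D x * D x⁻¹) * (D y * D y⁻¹) by
      ring, h1, h2, one_mul]
  set N := f c - 1 with hN
  have hNw : N.mulVec w = 0 := by
    rw [hN, Matrix.sub_mulVec, Matrix.one_mulVec, hfap, hcw, sub_self]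
  have hNd : N.det = 0 := Matrix.exists_mulVec_eq_zero_iff.mp ⟨w, hw0', hNw⟩
  have hsq : N * N = 0 := by
    have h1 : f c = N + 1 := by rw [hN, sub_add_cancel]
    rw [h1, Matrix.det_fin_two] at hdet
    rw [Matrix.det_fin_two] at hNd
    simp only [Matrix.add_apply, Matrix.one_apply_eq, ne_eq, zero_ne_one, not_false_eq_true,
      Matrix.one_apply_ne, one_ne_zero, add_zero] at hdet
    have htr : N 1 1 = - N 0 0 := by linear_combination hdet - hNd
    ext i j
    fin_cases i <;> fin_cases j <;> simp [Matrix.mul_apply, Fin.sum_univ_two, htr] <;>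
      first | ring1 | linear_combination -hNd + N 0 0 * htr | linear_combination N 0 0 * htr - hNd
  have hpow : ∀ k : ℕ, f (c ^ k) = 1 + (k : ℂ) • N := fun k => by
    induction k with
    | zero => simp
    | succ k ih =>
      rw [pow_succ, map_mul, ih, show f c = 1 + N by rw [hN]; abel, add_mul, one_mul, smul_mul_assoc,
        mul_add, mul_one, hsq, add_zero]
      push_cast
      rw [add_smul, one_smul]; abel
  have h0 := hpow (orderOf c)
  rw [pow_orderOf_eq_one, map_one, eq_comm, add_eq_left, smul_eq_zero] at h0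
  have hN0 : N = 0 := h0.resolve_left fun h => (orderOf_pos c).ne' (Nat.cast_eq_zero.mp h)
  have hfc : f c = f 1 := by rw [map_one, ← sub_eq_zero]; exact hN0
  have hc1 : c = 1 := hinj (LinearMap.ext fun v => by rw [← hfap, ← hfap, hfc])
  calc x * y = c * (y * x) := by rw [hc]; group
    _ = y * x := by rw [hc1, one_mul]

/-- The orbit equation, with its parameters. -/
theorem orbit_data {ι : Type*} [Fintype ι] (n : ℕ) (o k : ι → ℕ) (hn : 1 < n)
    (hok : ∀ i, o i * k i = n) (hk : ∀ i, 2 ≤ k i) (ho : ∀ i, 3 ≤ o i)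
    (hsum : ∑ i, (n - o i) = 2 * (n - 1)) :
    ∃ c, (c = 3 ∨ c = 4 ∨ c = 5) ∧ n * (6 - c) = 12 * c ∧ ∑ i, (k i - 1) = c + 2 ∧ ∀ i, k i ≤ 5 := by
  have hle : ∀ i, 2 * o i ≤ n := fun i => by nlinarith [hok i, hk i]
  have hup : Fintype.card ι * n ≤ 4 * (n - 1) := by
    have h : ∑ _i : ι, n ≤ ∑ i, 2 * (n - o i) :=
      Finset.sum_le_sum fun i _ => by have := hle i; omega
    rw [Finset.sum_const, Finset.card_univ, smul_eq_mul, ← Finset.mul_sum, hsum] at h
    omega
  have hlow : 2 * (n - 1) ≤ Fintype.card ι * (n - 3) := by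
    have h : ∑ i, (n - o i) ≤ ∑ _i : ι, (n - 3) :=
      Finset.sum_le_sum fun i _ => by have := ho i; omega
    rw [Finset.sum_const, Finset.card_univ, smul_eq_mul, hsum] at h
    exact h
  have hr : Fintype.card ι = 3 := by
    rcases Nat.lt_or_ge (Fintype.card ι) 3 with h | h
    · have : Fintype.card ι * (n - 3) ≤ 2 * (n - 3) := Nat.mul_le_mul_right _ (by omega)
      omega
    · rcases Nat.eq_or_lt_of_le h with h | h
      · exact h.symm
      · have : 4 * n ≤ Fintype.card ι * n := Nat.mul_le_mul_right _ h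
        omega
  let e : Fin 3 ≃ ι := (Fintype.equivFinOfCardEq hr).symm
  rw [← e.sum_comp, Fin.sum_univ_three] at hsum
  simp only [← e.sum_comp (fun i => k i - 1), Fin.sum_univ_three]
  have key : ∀ x y z a b c : ℕ, x * a = n → y * b = n → z * c = n → 2 ≤ a → a ≤ b → b ≤ c →
      3 ≤ x → 3 ≤ y → 3 ≤ z → x + y + z = n + 2 →
      ∃ c', (c' = 3 ∨ c' = 4 ∨ c' = 5) ∧ n * (6 - c') = 12 * c' ∧ (a - 1) + (b - 1) + (c - 1) = c' + 2 ∧
        a ≤ 5 ∧ b ≤ 5 ∧ c ≤ 5 := by
    intro x y z a b c hx hy hz ha hab hbc x3 y3 z3 hs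
    have hxy : y ≤ x := by
      by_contra h
      have : (x + 1) * a ≤ y * b := Nat.mul_le_mul (by omega) hab
      rw [add_mul] at this
      omega
    have hyz : z ≤ y := by
      by_contra h
      have : (y + 1) * b ≤ z * c := Nat.mul_le_mul (by omega) hbc
      rw [add_mul] at this
      omega
    have ha2 : a = 2 := by
      by_contra h
      have : x * 3 ≤ x * a := Nat.mul_le_mul_left _ (by omega)
      omega
    subst ha2
    have hb3 : b = 3 := by
      by_contra h
      rcases Nat.lt_or_ge b 3 with h' | h'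
      · obtain rfl : b = 2 := by omega
        omega
      · have : y * 4 ≤ y * b := Nat.mul_le_mul_left _ (by omega)
        omega
    subst hb3
    have h6 : c < 6 := by
      by_contra h
      have : z * 6 ≤ z * c := Nat.mul_le_mul_left _ (not_lt.mp h)
      omega
    refine ⟨c, by omega, ?_, by omega, by omega, by omega, by omega⟩
    interval_cases c <;> omega
  have hs' : o (e 0) + o (e 1) + o (e 2) = n + 2 := by
    have := hle (e 0); have := hle (e 1); have := hle (e 2)
    omega
  have p0 := hok (e 0); have p1 := hok (e 1); have p2 := hok (e 2)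
  have q0 := hk (e 0); have q1 := hk (e 1); have q2 := hk (e 2)
  have r0 := ho (e 0); have r1 := ho (e 1); have r2 := ho (e 2)
  have hall : k (e 0) ≤ 5 → k (e 1) ≤ 5 → k (e 2) ≤ 5 → ∀ i, k i ≤ 5 := fun h0 h1 h2 i => by
    obtain ⟨j, rfl⟩ := e.surjective i
    fin_cases j <;> assumption
  rcases le_total (k (e 0)) (k (e 1)) with h01 | h01 <;> rcases le_total (k (e 1)) (k (e 2)) with h12 | h12
  · obtain ⟨c, h1, h2, h3, a, b, d⟩ := key _ _ _ _ _ _ p0 p1 p2 q0 h01 h12 r0 r1 r2 (by omega)
    exact ⟨c, h1, h2, by omega, hall a b d⟩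
  · rcases le_total (k (e 0)) (k (e 2)) with h02 | h02
    · obtain ⟨c, h1, h2, h3, a, b, d⟩ := key _ _ _ _ _ _ p0 p2 p1 q0 h02 h12 r0 r2 r1 (by omega)
      exact ⟨c, h1, h2, by omega, hall a d b⟩
    · obtain ⟨c, h1, h2, h3, a, b, d⟩ := key _ _ _ _ _ _ p2 p0 p1 q2 h02 h01 r2 r0 r1 (by omega)
      exact ⟨c, h1, h2, by omega, hall b d a⟩
  · rcases le_total (k (e 0)) (k (e 2)) with h02 | h02
    · obtain ⟨c, h1, h2, h3, a, b, d⟩ := key _ _ _ _ _ _ p1 p0 p2 q1 h01 h02 r1 r0 r2 (by omega)
      exact ⟨c, h1, h2, by omega, hall b a d⟩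
    · obtain ⟨c, h1, h2, h3, a, b, d⟩ := key _ _ _ _ _ _ p1 p2 p0 q1 h12 h02 r1 r2 r0 (by omega)
      exact ⟨c, h1, h2, by omega, hall d a b⟩
  · obtain ⟨c, h1, h2, h3, a, b, d⟩ := key _ _ _ _ _ _ p2 p1 p0 q2 h12 h01 r2 r1 r0 (by omega)
    exact ⟨c, h1, h2, by omega, hall d b a⟩

/-- The classes of a primitive group of degree two. -/
theorem classes_primitive [Fintype G] (hinj : Function.Injective ρ)
    (hline : ∀ L : Submodule ℂ V, finrank ℂ L = 1 → ∃ g, ¬ L.map (ρ g) ≤ L)
    (hprim : ¬ ∃ H : Subgroup G, H.Normal ∧ H.index ≤ 2 ∧ ∀ x ∈ H, ∀ y ∈ H, x * y = y * x) :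
    ∃ c, (c = 3 ∨ c = 4 ∨ c = 5) ∧ (Subgroup.center G).index * (6 - c) = 12 * c ∧
      2 * Nat.card (ConjClasses G) = Nat.card (Subgroup.center G) * (c + 4) ∧
      ∀ g : G, g ∉ Subgroup.center G →
        Nat.card (Subgroup.centralizer ({g} : Set G)) ≤ 5 * Nat.card (Subgroup.center G) := by
  letI : MulAction G Line := lineAction ρ
  have hfix : ∀ (g : G) (L : Line), g • L = L ↔ L.1.map (ρ g) = L.1 := fun g L =>
    ⟨fun h => congrArg Subtype.val h, fun h => Subtype.ext h⟩
  set Z := Subgroup.center G with hZ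
  have hns : ∀ g : G, g ∉ Z → ¬ ∃ c : ℂ, ∀ v, ρ g v = c • v := fun g hg h =>
    hg ((scalar_iff_center ρ hline hinj g).mp h)
  have hZfix : ∀ g ∈ Z, ∀ L : Line, g • L = L := by
    intro g hg L
    obtain ⟨c, hc⟩ := (scalar_iff_center ρ hline hinj g).mpr hg
    rw [hfix, ← smul_le_iff]
    rintro _ ⟨v, hv, rfl⟩
    rw [hc]
    exact L.1.smul_mem c hv
  -- the special lines
  have hpair : ∀ g : G, g ∉ Z → ∃ L₁ L₂ : Line, L₁ ≠ L₂ ∧ ∀ L : Line, g • L = L ↔ L = L₁ ∨ L = L₂ := by
    intro g hg
    obtain ⟨L₁, L₂, hne, h1, h2, s1, s2, -, hall⟩ := two_lines ρ g (hns g hg)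
    refine ⟨⟨L₁, h1⟩, ⟨L₂, h2⟩, fun e => hne (congrArg Subtype.val e), fun L => ⟨fun hL => ?_, ?_⟩⟩
    · exact (hall L.1 L.2 ((hfix g L).mp hL).le).imp (fun e => Subtype.ext e) (fun e => Subtype.ext e)
    · rintro (rfl | rfl)
      · exact (hfix g _).mpr ((smul_le_iff ρ g _).mp s1)
      · exact (hfix g _).mpr ((smul_le_iff ρ g _).mp s2)
  obtain ⟨g₀, hg₀⟩ : ∃ g : G, g ∉ Z := by
    by_contra hall
    push Not at hall
    obtain ⟨g, hg⟩ := hline (ℂ ∙ (Pi.single 0 1 : Fin 2 → ℂ))
      (finrank_span_singleton (by simp))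
    apply hg
    obtain ⟨c, hc⟩ := (scalar_iff_center ρ hline hinj g).mpr (hall g)
    rintro _ ⟨v, hv, rfl⟩
    rw [hc]
    exact Submodule.smul_mem _ c hv
  let Ω : Set Line := {L | ∃ g : G, g ∉ Z ∧ g • L = L}
  have hΩ : Ω.Finite := by
    have : Ω = ⋃ g ∈ {g : G | g ∉ Z}, {L : Line | g • L = L} := by
      ext L; simp [Ω]
    rw [this]
    refine Set.Finite.biUnion (Set.toFinite _) fun g hg => ?_
    obtain ⟨L₁, L₂, -, h⟩ := hpair g hg
    exact ((Set.finite_singleton L₂).insert L₁).subset fun L hL => (h L).mp hL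
  haveI : Fintype Ω := hΩ.fintype
  let hact : MulAction G Ω :=
    { smul := fun g L => ⟨g • L.1, by
        obtain ⟨h, hh, hL⟩ := L.2
        refine ⟨g * h * g⁻¹, fun hm => hh ?_, ?_⟩
        · have := (inferInstance : Z.Normal).conj_mem _ hm g⁻¹
          simpa [mul_assoc] using this
        · rw [smul_smul, inv_mul_cancel_right, mul_smul, hL]⟩
      one_smul := fun L => Subtype.ext (one_smul G L.1)
      mul_smul := fun g h L => Subtype.ext (mul_smul g h L.1) }
  have hfixΩ : ∀ (g : G) (L : Ω), g • L = L ↔ g • L.1 = L.1 := fun g L =>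
    ⟨fun h => congrArg Subtype.val h, fun h => Subtype.ext h⟩
  have hst : ∀ L : Ω, Z ≤ MulAction.stabilizer G L := fun L g hg => (hfixΩ g L).mpr (hZfix g hg L.1)
  -- double counting
  have hdc : ∑ L : Ω, ((Nat.card (MulAction.stabilizer G L)) - Nat.card Z) =
      2 * (Nat.card G - Nat.card Z) := by
    have h1 : ∀ L : Ω, Nat.card (MulAction.stabilizer G L) - Nat.card Z =
        (Finset.univ.filter (fun g : G => g ∉ Z ∧ g • L = L)).card := by
      intro L
      rw [Nat.card_eq_fintype_card, Nat.card_eq_fintype_card, Fintype.card_subtype, Fintype.card_subtype,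
        ← Finset.card_sdiff_of_subset (fun g hg => by
          simp only [Finset.mem_filter, Finset.mem_univ, true_and] at hg ⊢
          exact hst L hg)]
      congr 1
      ext g
      simp [MulAction.mem_stabilizer_iff, and_comm]
    simp_rw [h1, Finset.card_filter]
    rw [Finset.sum_comm]
    have h2 : ∀ g : G, (∑ L : Ω, if g ∉ Z ∧ g • L = L then 1 else 0) = if g ∈ Z then 0 else 2 := by
      intro g
      by_cases hg : g ∈ Z
      · simp [hg]
      · simp only [hg, not_false_eq_true, true_and, if_false]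
        rw [← Finset.card_filter]
        obtain ⟨L₁, L₂, hne, h⟩ := hpair g hg
        rw [Finset.card_eq_two]
        refine ⟨⟨L₁, g, hg, (h L₁).mpr (Or.inl rfl)⟩, ⟨L₂, g, hg, (h L₂).mpr (Or.inr rfl)⟩,
          fun e => hne (congrArg Subtype.val e), ?_⟩
        ext L
        simp [hfixΩ, h, Subtype.ext_iff]
    simp_rw [h2]
    rw [Finset.sum_ite, Finset.sum_const_zero, zero_add, Finset.sum_const, smul_eq_mul, mul_comm]
    congr 1
    have := Finset.card_filter_add_card_filter_not (s := Finset.univ) (fun g : G => g ∈ Z)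
    rw [Finset.card_univ, ← Nat.card_eq_fintype_card] at this
    rw [Nat.card_eq_fintype_card (α := Z), Fintype.card_subtype]
    omega
  -- orbits
  let π : Ω → MulAction.orbitRel.Quotient G Ω := Quotient.mk _
  have hz0 : 0 < Nat.card Z := Nat.card_pos
  have hnG : Z.index * Nat.card Z = Nat.card G := Z.index_mul_card
  have horb : ∀ i : MulAction.orbitRel.Quotient G Ω, ∃ o k : ℕ, o * k = Z.index ∧ 2 ≤ k ∧ 3 ≤ o ∧
      (∀ M ∈ Finset.univ.filter (fun L => π L = i), Nat.card (MulAction.stabilizer G M) = Nat.card Z * k) ∧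
      (Finset.univ.filter (fun L => π L = i)).card = o ∧
      ∑ L ∈ Finset.univ.filter (fun L => π L = i), (Nat.card (MulAction.stabilizer G L) - Nat.card Z) =
        (Z.index - o) * Nat.card Z := by
    intro i
    obtain ⟨L, rfl⟩ := Quotient.exists_rep i
    set O := MulAction.orbit G L with hO
    have hfil : (Finset.univ.filter (fun M => π M = Quotient.mk _ L)) = O.toFinset := by
      ext M
      simp [π, O, Quotient.eq, MulAction.orbitRel_apply]
    obtain ⟨k, hk⟩ := Subgroup.card_dvd_of_le (hst L)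
    have hos : Nat.card O * Nat.card (MulAction.stabilizer G L) = Nat.card G := by
      rw [← Nat.card_prod]
      exact Nat.card_congr (MulAction.orbitProdStabilizerEquivGroup G L)
    have hok : Nat.card O * k = Z.index := by
      refine Nat.eq_of_mul_eq_mul_right hz0 ?_
      rw [hnG, ← hos, hk]; ring
    have hk2 : 2 ≤ k := by
      obtain ⟨g, hg, hL⟩ := L.2
      by_contra h
      apply hg
      have hle : Nat.card (MulAction.stabilizer G L) ≤ Nat.card Z := by
        rw [hk]
        calc Nat.card Z * k ≤ Nat.card Z * 1 := Nat.mul_le_mul_left _ (by omega)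
          _ = _ := mul_one _
      rw [Subgroup.eq_of_le_of_card_ge (hst L) hle]
      exact (hfixΩ g L).mpr hL
    have hcst : ∀ M : Ω, M ∈ Finset.univ.filter (fun L' => π L' = Quotient.mk _ L) →
        Nat.card (MulAction.stabilizer G M) = Nat.card Z * k := fun M hM => by
      rw [← hk]
      exact Nat.card_congr (MulAction.stabilizerEquivStabilizerOfOrbitRel
        (Quotient.exact (Finset.mem_filter.mp hM).2)).toEquiv
    refine ⟨Nat.card O, k, hok, hk2, ?_, hcst, ?_, ?_⟩
    · by_contra h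
      have hpos : 0 < Nat.card O := by
        have : Nonempty O := ⟨⟨L, MulAction.mem_orbit_self L⟩⟩
        exact Nat.card_pos
      obtain ⟨g, hg⟩ := hline L.1.1 L.1.2
      have hgL : g • L ≠ L := fun e => hg ((hfix g L.1).mp ((hfixΩ g L).mp e)).le
      have hO2 : O = {L, g • L} := by
        refine (Set.eq_of_subset_of_ncard_le ?_ ?_ (Set.toFinite _)).symm
        · rintro x (h | h)
          · rw [h]; exact MulAction.mem_orbit_self L
          · rw [h]; exact MulAction.mem_orbit L g
        · rw [Set.ncard_pair hgL.symm, ← Nat.card_coe_set_eq]; omega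
      have hmem : ∀ (x : G) (M : Ω), M ∈ O → x • M ∈ O := fun x M hM => by
        rw [hO, ← MulAction.orbit_eq_iff.mpr hM]
        exact MulAction.mem_orbit M x
      have v : ∀ (x : G) (M M' : Ω), x • M = M' → M.1.1.map (ρ x) = M'.1.1 :=
        fun x M M' e => congrArg (fun T : Ω => T.1.1) e
      have hpairs : ∀ x : G, (x • L = L ∧ x • (g • L) = g • L) ∨ (x • L = g • L ∧ x • (g • L) = L) := fun x => by
        have e1 := hmem x L (MulAction.mem_orbit_self L)
        have e2 := hmem x (g • L) (MulAction.mem_orbit L g)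
        rw [hO2] at e1 e2
        rcases e1 with e1 | e1 <;> rcases e2 with e2 | e2
        · exact absurd (MulAction.injective x (e1.trans e2.symm)) hgL.symm
        · exact Or.inl ⟨e1, e2⟩
        · exact Or.inr ⟨e1, e2⟩
        · exact absurd (MulAction.injective x (e1.trans e2.symm)) hgL.symm
      have hidx : (MulAction.stabilizer G L).index ≤ 2 := by
        rw [MulAction.index_stabilizer, ← hO, ← Nat.card_coe_set_eq]
        omega
      have hnor : (MulAction.stabilizer G L).Normal := by
        refine ⟨fun a ha x => ?_⟩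
        rw [MulAction.mem_stabilizer_iff] at ha ⊢
        have hag : a • (g • L) = g • L := ((hpairs a).resolve_right fun h => hgL (ha.symm.trans h.1).symm).2
        rw [mul_smul, mul_smul]
        rcases hpairs x⁻¹ with h | h <;> rw [h.1]
        · rw [ha, ← h.1, smul_inv_smul, h.1]
        · rw [hag, ← h.1, smul_inv_smul]
      refine hprim ⟨MulAction.stabilizer G L, hnor, hidx, fun a ha b hb => ?_⟩
      rw [MulAction.mem_stabilizer_iff] at ha hb
      exact commute_of_two_lines ρ hinj L.1.1 (g • L).1.1 L.1.2 (g • L).1.2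
        (fun e => hgL (Subtype.ext (Subtype.ext e.symm))) (v a _ _ ha)
        (v a _ _ ((hpairs a).resolve_right fun h => hgL (ha.symm.trans h.1).symm).2) (v b _ _ hb)
        (v b _ _ ((hpairs b).resolve_right fun h => hgL (hb.symm.trans h.1).symm).2)
    · rw [hfil, Set.toFinset_card, ← Nat.card_eq_fintype_card]
    · rw [hfil]
      rw [Finset.sum_congr rfl (g := fun _ => Nat.card (MulAction.stabilizer G L) - Nat.card Z)]
      · rw [Finset.sum_const, smul_eq_mul, Set.toFinset_card, ← Nat.card_eq_fintype_card, Nat.mul_sub,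
          hos, ← hnG, Nat.sub_mul]
      · intro M hM
        rw [Set.mem_toFinset] at hM
        obtain ⟨x, rfl⟩ := hM
        congr 1
        exact Nat.card_congr (MulAction.stabilizerEquivStabilizerOfOrbitRel
          (show (MulAction.orbitRel G Ω) (x • L) L from ⟨x, rfl⟩)).toEquiv
  choose o k hok hk ho hst' hcard hsum using horb
  obtain ⟨c, hc, hn, hsum', hk5⟩ := orbit_data Z.index o k (by
      have h1 : Z.index ≠ 1 := fun h => hg₀ (Subgroup.index_eq_one.mp h ▸ Subgroup.mem_top g₀)
      have := Z.index_ne_zero_of_finite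
      omega) hok hk ho (by
      rw [← Finset.sum_fiberwise Finset.univ π] at hdc
      simp_rw [hsum] at hdc
      refine Nat.eq_of_mul_eq_mul_right hz0 ?_
      rw [Finset.sum_mul, hdc, mul_assoc, Nat.sub_mul, one_mul, hnG])
  -- the centraliser of an element is the stabiliser of each of its lines
  have hCeq : ∀ (g : G) (L : Ω), g ∉ Z → g • L = L →
      Subgroup.centralizer ({g} : Set G) = MulAction.stabilizer G L := by
    intro g L hg hL
    have hL' : L.1.1.map (ρ g) = L.1.1 := (hfix g L.1).mp ((hfixΩ g L).mp hL)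
    refine le_antisymm (fun x hx => ?_) fun x hx => ?_
    · rw [Subgroup.mem_centralizer_singleton_iff] at hx
      obtain ⟨⟨w, hw⟩, hw0, hs⟩ := finrank_eq_one_iff'.mp L.1.2
      obtain ⟨a, ha⟩ := hs ⟨ρ g w, hL'.le ⟨w, hw, rfl⟩⟩
      obtain ⟨L₁, L₂, hne, h1, h2, s1, s2, -, hall⟩ := two_lines ρ g (hns g hg)
      refine (hfixΩ x L).mpr ((hfix x _).mpr ((smul_le_iff ρ x L.1.1).mp ?_))
      -- the eigenspace of the line is the line
      have hwe : w ∈ Module.End.eigenspace (ρ g) a := Module.End.mem_eigenspace_iff.mpr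
        (congrArg Subtype.val ha).symm
      have hLe : L.1.1 ≤ Module.End.eigenspace (ρ g) a := by
        intro v hv
        obtain ⟨r, hr⟩ := hs ⟨v, hv⟩
        rw [← show r • w = v from congrArg Subtype.val hr]
        exact Submodule.smul_mem _ r hwe
      have hEq : L.1.1 = Module.End.eigenspace (ρ g) a := by
        refine Submodule.eq_of_le_of_finrank_le hLe ?_
        rw [L.1.2]
        by_contra h2'
        have htop : Module.End.eigenspace (ρ g) a = ⊤ := Submodule.eq_top_of_finrank_eq (by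
          have := Submodule.finrank_le (Module.End.eigenspace (ρ g) a)
          simp only [Module.finrank_fin_fun] at this ⊢
          omega)
        exact hns g hg ⟨a, fun v => Module.End.mem_eigenspace_iff.mp (htop ▸ Submodule.mem_top)⟩
      rintro _ ⟨v, hv, rfl⟩
      rw [hEq] at hv ⊢
      rw [SetLike.mem_coe, Module.End.mem_eigenspace_iff] at hv
      rw [Module.End.mem_eigenspace_iff, ← Module.End.mul_apply, ← map_mul, ← hx, map_mul,
        Module.End.mul_apply, hv, map_smul]
    · rw [Subgroup.mem_centralizer_singleton_iff]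
      exact commute_of_line ρ hinj L.1.1 L.1.2 ((hfix x L.1).mp ((hfixΩ x L).mp hx)).le hL'.le
  refine ⟨c, hc, hn, ?_, fun g hg => ?_⟩
  swap
  · obtain ⟨L₁, L₂, hne, hL⟩ := hpair g hg
    set L : Ω := ⟨L₁, g, hg, (hL L₁).mpr (Or.inl rfl)⟩
    rw [hCeq g L hg ((hfixΩ g L).mpr ((hL L₁).mpr (Or.inl rfl))),
      hst' (π L) L (by simp), mul_comm]
    exact Nat.mul_le_mul_right _ (hk5 _)
  -- twice the sum over the non-central elements
  have hstab : ∀ L : Ω, ∑ g ∈ Finset.univ.filter (fun g : G => g ∉ Z ∧ g • L = L),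
      Nat.card (Subgroup.centralizer ({g} : Set G)) =
      (Nat.card (MulAction.stabilizer G L) - Nat.card Z) * Nat.card (MulAction.stabilizer G L) := by
    intro L
    rw [Finset.sum_congr rfl (g := fun _ => Nat.card (MulAction.stabilizer G L)) (fun g hg => by
      rw [Finset.mem_filter] at hg
      rw [hCeq g L hg.2.1 hg.2.2]), Finset.sum_const, smul_eq_mul]
    congr 1
    rw [Nat.card_eq_fintype_card, Nat.card_eq_fintype_card, Fintype.card_subtype, Fintype.card_subtype,
      ← Finset.card_sdiff_of_subset (fun g hg => by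
        simp only [Finset.mem_filter, Finset.mem_univ, true_and] at hg ⊢
        exact hst L hg)]
    congr 1
    ext g
    simp [MulAction.mem_stabilizer_iff, and_comm]
  have htwo : ∀ g : G, (∑ L : Ω, if g ∉ Z ∧ g • L = L then Nat.card (Subgroup.centralizer ({g} : Set G)) else 0) =
      if g ∈ Z then 0 else 2 * Nat.card (Subgroup.centralizer ({g} : Set G)) := by
    intro g
    by_cases hg : g ∈ Z
    · simp [hg]
    · simp only [hg, not_false_eq_true, true_and, if_false]
      rw [← Finset.sum_filter, Finset.sum_const, smul_eq_mul]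
      congr 1
      obtain ⟨L₁, L₂, hne, h⟩ := hpair g hg
      rw [Finset.card_eq_two]
      refine ⟨⟨L₁, g, hg, (h L₁).mpr (Or.inl rfl)⟩, ⟨L₂, g, hg, (h L₂).mpr (Or.inr rfl)⟩,
        fun e => hne (congrArg Subtype.val e), ?_⟩
      ext L
      simp [hfixΩ, h, Subtype.ext_iff]
  have hbig : ∑ L : Ω, (Nat.card (MulAction.stabilizer G L) - Nat.card Z) * Nat.card (MulAction.stabilizer G L) =
      2 * ∑ g ∈ Finset.univ.filter (fun g : G => g ∉ Z), Nat.card (Subgroup.centralizer ({g} : Set G)) := by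
    simp_rw [← hstab, Finset.sum_filter]
    rw [Finset.sum_comm]
    simp_rw [htwo]
    rw [Finset.mul_sum]
    refine Finset.sum_congr rfl fun g _ => ?_
    by_cases hg : g ∈ Z <;> simp [hg]
  have hfib : ∑ L : Ω, (Nat.card (MulAction.stabilizer G L) - Nat.card Z) * Nat.card (MulAction.stabilizer G L) =
      Z.index * Nat.card Z * Nat.card Z * (c + 2) := by
    rw [← Finset.sum_fiberwise Finset.univ π, ← hsum', Finset.mul_sum]
    refine Finset.sum_congr rfl fun i _ => ?_
    rw [Finset.sum_congr rfl (g := fun _ => (Nat.card Z * k i - Nat.card Z) * (Nat.card Z * k i))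
      (fun M hM => by rw [hst' i M hM]), Finset.sum_const, smul_eq_mul, hcard, ← hok i]
    obtain ⟨j, hj⟩ := Nat.exists_eq_add_of_le (show 1 ≤ k i by have := hk i; omega)
    rw [hj, Nat.add_sub_cancel_left, mul_add, mul_one, Nat.add_sub_cancel_left]
    ring
  have hclass := sum_card_centralizer G
  rw [← Finset.sum_filter_add_sum_filter_not Finset.univ (fun g => g ∈ Z)] at hclass
  have hcen : ∑ g ∈ Finset.univ.filter (fun g : G => g ∈ Z), Nat.card (Subgroup.centralizer ({g} : Set G)) =
      Nat.card Z * Nat.card G := by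
    rw [Finset.sum_congr rfl (g := fun _ => Nat.card G) (fun g hg => by
      rw [Finset.mem_filter] at hg
      rw [show Subgroup.centralizer ({g} : Set G) = ⊤ from top_le_iff.mp fun x _ =>
        Subgroup.mem_centralizer_singleton_iff.mpr (Subgroup.mem_center_iff.mp hg.2 x), Subgroup.card_top]),
      Finset.sum_const, smul_eq_mul, Nat.card_eq_fintype_card (α := Z), Fintype.card_subtype]
  refine Nat.eq_of_mul_eq_mul_right (Nat.card_pos (α := G)) ?_
  have hkey := hbig.symm.trans hfib
  rw [hcen] at hclass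
  calc 2 * Nat.card (ConjClasses G) * Nat.card G
      = 2 * (Nat.card (ConjClasses G) * Nat.card G) := mul_assoc _ _ _
    _ = 2 * (Nat.card Z * Nat.card G) +
          2 * ∑ g ∈ Finset.univ.filter (fun g : G => ¬ g ∈ Z), Nat.card (Subgroup.centralizer ({g} : Set G)) := by
        rw [← hclass, mul_add]
    _ = _ := by rw [hkey, ← hnG]; ring

end CfsgLib.KGVTrans
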