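import Cfsg.Agent.Lib.KGVTrans.TwoClassesP
import Cfsg.Agent.Lib.Blocks.Inflate
import Cfsg.Agent.Lib.Char.Table
import Cfsg.Agent.Lib.Coprime.Generation
import Cfsg.Agent.Lib.Classical.Transvection

/-!
# Two further classes above the exceptional group

If `G / O_{11'}(G)` is `121.SL(2,5)` and `O_{11'}(G)` is not trivial, there are at least eleven
classes of `11`-regular elements.
-/

set_option autoImplicit false
set_option linter.unusedSectionVars false
open scoped Classical CfsgLib.Char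

namespace CfsgLib.KGVTrans

open Cfsg

theorem card_regClass_of_coprime {p : ℕ} [hp : Fact p.Prime] (K : Type*) [Group K] [Finite K]
    (h : ¬ p ∣ Nat.card K) : Nat.card (RegClass p K) = Nat.card (ConjClasses K) :=
  Nat.card_congr (Equiv.subtypeUnivEquiv fun c => by
    obtain ⟨g, rfl⟩ := ConjClasses.mk_surjective c
    exact ⟨g, rfl, fun hd => h (hd.trans (orderOf_dvd_natCard g))⟩)

theorem sl25_perfect : commutator (Matrix.SpecialLinearGroup (Fin 2) (ZMod 5)) = ⊤ := by
  have h2 : (2 : ZMod 5) ≠ 0 ∧ (2 : ZMod 5) ^ 2 ≠ 1 := by decide +kernel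
  haveI : Fact (Nat.Prime 5) := ⟨by norm_num⟩
  exact Classical.commutator_SL_eq_top (Or.inr ⟨2, h2.1, h2.2⟩)

theorem square_cases : ∀ m ∈ Nat.divisors 120, Nat.sqrt (120 * m) * Nat.sqrt (120 * m) = 120 * m →
    m = 30 ∨ m = 120 := by
  decide +kernel

/-- A group with a transitively permuted normal subgroup over `SL(2, 5)` has further classes. -/
theorem no_single_class {K H : Type*} [Group K] [Finite K] [Group H] [Finite H] (π : K →* H)
    (hπ : Function.Surjective π) (hH : Nat.card H = 120) (hk : Nat.card (ConjClasses H) = 9)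
    (hiso : Nonempty (H ≃* Matrix.SpecialLinearGroup (Fin 2) (ZMod 5)))
    (hne : π.ker ≠ ⊥) (h11 : ¬ 11 ∣ Nat.card π.ker)
    (habel : ∀ a ∈ π.ker, ∀ b ∈ π.ker, a * b = b * a)
    (hconj : ∀ a ∈ π.ker, ∀ b ∈ π.ker, a ≠ 1 → b ≠ 1 → IsConj a b) :
    11 ≤ Nat.card (ConjClasses K) := by
  haveI := Fintype.ofFinite K
  by_contra hlt
  set N := π.ker with hN
  obtain ⟨o, ho, ho1⟩ := (Subgroup.bot_or_exists_ne_one N).resolve_left hne
  have hq : 2 ≤ Nat.card N := by
    haveI : Nontrivial N := (Subgroup.nontrivial_iff_ne_bot N).mpr hne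
    exact Finite.one_lt_card
  have hidx : N.index = 120 := by
    rw [hN, Subgroup.index_ker, MonoidHom.range_eq_top.mpr hπ, Subgroup.card_top, hH]
  have hcarK : Nat.card K = Nat.card N * 120 := by rw [← hidx, Subgroup.card_mul_index]
  -- the orbit of `o`
  have hclass : Nat.card N - 1 = (Subgroup.centralizer ({o} : Set K)).index := by
    rw [← ClassSize.card_carrier o, Nat.card_coe_set_eq]
    have : (ConjClasses.mk o).carrier = (N : Set K) \ {1} := by
      ext x
      rw [ConjClasses.mem_carrier_iff_mk_eq, ConjClasses.mk_eq_mk_iff_isConj, Set.mem_diff,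
        Set.mem_singleton_iff]
      constructor
      · intro h
        obtain ⟨g, hg⟩ := isConj_iff.mp h.symm
        refine ⟨hg ▸ (inferInstance : N.Normal).conj_mem o ho g, fun h1 => ho1 ?_⟩
        rw [h1] at hg
        exact conj_eq_one_iff.mp hg
      · exact fun h => (hconj o ho x h.1 ho1 h.2).symm
    rw [this, Set.ncard_diff (by simp), Set.ncard_singleton, ← Nat.card_coe_set_eq, SetLike.coe_sort_coe]
  have hdvd : Nat.card N - 1 ∣ 120 := by
    rw [hclass, ← hidx]
    exact Subgroup.index_dvd_of_le fun x hx => Subgroup.mem_centralizer_singleton_iff.mpr (habel x hx o ho)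
  -- the characters
  let inc := Blocks.inflate π hπ
  set S : Finset (IrrCharacter K) := Finset.univ.image inc
  have hS : S.card = 9 := by
    rw [Finset.card_image_of_injective _ (Blocks.inflate_injective π hπ), Finset.card_univ,
      ← Nat.card_eq_fintype_card, Char.card_irr_eq_card_conjClasses, hk]
  have hsum : ∑ χ ∈ S, (χ : K → ℂ) 1 ^ 2 = 120 := by
    rw [Finset.sum_image fun a _ b _ h => Blocks.inflate_injective π hπ h]
    have h1 := Char.sum_sq_degree (G := H)
    rw [hH] at h1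
    refine (Eq.trans ?_ h1).trans (by norm_num)
    refine Finset.sum_congr rfl fun η _ => ?_
    show ((η : H → ℂ) (π 1)) ^ 2 = _
    rw [map_one]
  have hcompl : Sᶜ.card ≤ 1 := by
    rw [Finset.card_compl, hS, ← Nat.card_eq_fintype_card, Char.card_irr_eq_card_conjClasses]
    omega
  have hall : ∑ χ ∈ Sᶜ, (χ : K → ℂ) 1 ^ 2 = ((120 * (Nat.card N - 1) : ℕ) : ℂ) := by
    have h1 := Char.sum_sq_degree (G := K)
    rw [← Finset.sum_add_sum_compl S, hsum, hcarK] at h1
    rw [Nat.mul_sub, mul_one, Nat.cast_sub (Nat.le_mul_of_pos_right 120 (by omega))]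
    push_cast at h1 ⊢
    linear_combination h1
  obtain ⟨d, hd⟩ : ∃ d : ℕ, d * d = 120 * (Nat.card N - 1) := by
    rcases (show Sᶜ.card = 0 ∨ Sᶜ.card = 1 by omega) with h | h
    · rw [Finset.card_eq_zero.mp h, Finset.sum_empty] at hall
      have := Nat.cast_injective (R := ℂ) (a₁ := 0) (a₂ := 120 * (Nat.card N - 1)) (by simpa using hall)
      omega
    · obtain ⟨χ, hχ⟩ := Finset.card_eq_one.mp h
      rw [hχ, Finset.sum_singleton] at hall
      obtain ⟨d, -, hd⟩ := Char.exists_nat_degree_irr χ.2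
      rw [hd, pow_two] at hall
      exact ⟨d, by exact_mod_cast hall⟩
  rcases square_cases _ (Nat.mem_divisors.mpr ⟨hdvd, by norm_num⟩)
    (by rw [← hd, Nat.sqrt_eq]) with h | h
  swap
  · exact h11 ⟨11, by omega⟩
  -- a normal subgroup of order 31 is centralized by a perfect group
  have h31 : Nat.card N = 31 := by omega
  haveI : Fact (Nat.Prime 31) := ⟨by norm_num⟩
  haveI : IsCyclic N := isCyclic_of_prime_card h31
  letI : CommGroup N := IsCyclic.commGroup
  haveI : IsMulCommutative (MulAut N) := ⟨⟨fun a b => by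
    refine MulEquiv.ext fun x => ?_
    obtain ⟨g, hg⟩ := IsCyclic.exists_generator (α := N)
    obtain ⟨m, hm⟩ := Subgroup.mem_zpowers_iff.mp (hg (a g))
    obtain ⟨n, hn⟩ := Subgroup.mem_zpowers_iff.mp (hg (b g))
    obtain ⟨k, rfl⟩ := Subgroup.mem_zpowers_iff.mp (hg x)
    simp only [MulAut.mul_apply, map_zpow, ← hm, ← hn, ← zpow_mul]
    rw [mul_comm m n]⟩⟩
  have hcK : commutator K ≤ (MulAut.conjNormal (H := N)).ker := by
    rw [commutator_def, Subgroup.commutator_le]
    intro a _ b _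
    rw [MonoidHom.mem_ker, map_commutatorElement, commutatorElement_eq_one_iff_mul_comm]
    exact mul_comm' _ _
  have hperf : commutator H = ⊤ := by
    obtain ⟨e⟩ := hiso
    apply Subgroup.map_injective (f := e.toMonoidHom) e.injective
    rw [commutator_def, Subgroup.map_commutator, Subgroup.map_top_of_surjective _ e.surjective]
    exact sl25_perfect
  have hcen : ∀ x : K, x * o = o * x := by
    intro x
    have h1 : π x ∈ (commutator K).map π := by
      rw [commutator_def, Subgroup.map_commutator, Subgroup.map_top_of_surjective _ hπ, ← commutator_def,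
        hperf]
      trivial
    obtain ⟨c, hc, hcx⟩ := h1
    have hu : c⁻¹ * x ∈ N := by rw [hN, MonoidHom.mem_ker, map_mul, map_inv, hcx, inv_mul_cancel]
    have h2 := congrArg Subtype.val (DFunLike.congr_fun (MonoidHom.mem_ker.mp (hcK hc)) ⟨o, ho⟩)
    rw [MulAut.conjNormal_apply] at h2
    change c * o * c⁻¹ = o at h2
    have h3 := habel _ hu o ho
    calc x * o = c * ((c⁻¹ * x) * o) := by group
      _ = c * o * c⁻¹ * x := by rw [h3]; group
      _ = o * x := by rw [h2]
  have htop : Subgroup.centralizer ({o} : Set K) = ⊤ :=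
    eq_top_iff.mpr fun x _ => Subgroup.mem_centralizer_singleton_iff.mpr (hcen x)
  rw [htop, Subgroup.index_top] at hclass
  omega

variable {G Q : Type*} [Group G] [Finite G] [Group Q] [Finite Q]

/-- The count of eleven. -/
theorem eleven_le [hp : Fact (Nat.Prime 11)] (f : G →* Q) (hf : Function.Surjective f)
    (hker : f.ker ≠ ⊥) (hker11 : ¬ 11 ∣ Nat.card f.ker) (D : TwoClassData 11 Q)
    (hV : Nat.card D.V = 121) (hH : Nat.card D.H = 120) (hk : Nat.card (ConjClasses D.H) = 9)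
    (hiso : Nonempty (D.H ≃* Matrix.SpecialLinearGroup (Fin 2) (ZMod 5)))
    (hconj : ∀ x y : G, x ≠ 1 → y ≠ 1 → (∃ k : ℕ, orderOf x = 11 ^ k) →
      (∃ k : ℕ, orderOf y = 11 ^ k) → IsConj x y) :
    11 ≤ Nat.card (RegClass 11 G) := by
  haveI := D.normal
  by_contra hlt
  set O := f.ker with hO
  have hreg : ∀ u ∈ O, ¬ 11 ∣ orderOf u := fun u hu hd =>
    hker11 ((Subgroup.orderOf_coe (⟨u, hu⟩ : O) ▸ hd).trans (orderOf_dvd_natCard _))
  -- one class in the kernel
  have hone : ∀ a ∈ O, ∀ b ∈ O, a ≠ 1 → b ≠ 1 → IsConj a b := by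
    intro a ha b hb ha1 hb1
    by_contra hab
    have h := regClass_add_le (p := 11) f hf ![a, b] (fun i => by fin_cases i <;> assumption)
      (fun i => by fin_cases i <;> assumption) (fun i => by fin_cases i <;> exact hreg _ (by assumption))
      fun i j h => by
        fin_cases i <;> fin_cases j <;> first | rfl | exact absurd h hab | exact absurd h.symm hab
    have := D.card_classes_le
    omega
  -- so it is abelian
  haveI : Nontrivial O := (Subgroup.nontrivial_iff_ne_bot O).mpr hker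
  obtain ⟨r, hr, hrd⟩ := Nat.exists_prime_and_dvd (Finite.one_lt_card (α := O)).ne'
  haveI := Fact.mk hr
  obtain ⟨o₀, ho₀⟩ := exists_prime_orderOf_dvd_card' r hrd
  have ho₀1 : (o₀ : G) ≠ 1 := fun h => hr.ne_one (by rw [← ho₀, ← Subgroup.orderOf_coe, h, orderOf_one])
  have hOr : IsPGroup r O := fun u => by
    rcases eq_or_ne (u : G) 1 with h | h
    · exact ⟨0, Subtype.ext (by simpa using h)⟩
    · obtain ⟨g, hg⟩ := isConj_iff.mp (hone _ o₀.2 _ u.2 ho₀1 h)
      refine ⟨1, Subtype.ext ?_⟩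
      rw [pow_one, SubmonoidClass.coe_pow, ← hg, conj_pow, ← ho₀, ← Subgroup.orderOf_coe,
        pow_orderOf_eq_one, mul_one, mul_inv_cancel]
      rfl
  have habel : ∀ a ∈ O, ∀ b ∈ O, a * b = b * a := by
    haveI : Nontrivial (Subgroup.center O) := hOr.center_nontrivial
    obtain ⟨c, hc⟩ := exists_ne (1 : Subgroup.center O)
    have hc1 : ((c : O) : G) ≠ 1 := fun h => hc (Subtype.ext (Subtype.ext h))
    intro a ha b hb
    rcases eq_or_ne a 1 with rfl | ha1
    · rw [one_mul, mul_one]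
    obtain ⟨g, hg⟩ := isConj_iff.mp (hone _ (c : O).2 a ha hc1 ha1)
    have hb' : g⁻¹ * b * g ∈ O := by simpa using (inferInstance : O.Normal).conj_mem b hb g⁻¹
    have h1 : (g⁻¹ * b * g) * ((c : O) : G) = ((c : O) : G) * (g⁻¹ * b * g) :=
      congrArg Subtype.val (Subgroup.mem_center_iff.mp c.2 ⟨_, hb'⟩)
    rw [← hg]
    calc g * ((c : O) : G) * g⁻¹ * b = g * (((c : O) : G) * (g⁻¹ * b * g)) * g⁻¹ := by group
      _ = b * (g * ((c : O) : G) * g⁻¹) := by rw [← h1]; group
  -- the Sylow subgroup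
  have hcardG : Nat.card G = Nat.card O * (121 * 120) := by
    rw [← hV, ← hH, D.compl.card_mul]
    rw [← O.card_mul_index, hO, Subgroup.index_ker, MonoidHom.range_eq_top.mpr hf, Subgroup.card_top]
  obtain ⟨P⟩ : Nonempty (Sylow 11 G) := inferInstance
  have hP : Nat.card P = 11 ^ 2 := by
    rw [P.card_eq_multiplicity, hcardG, Nat.factorization_mul Nat.card_pos.ne' (by norm_num),
      Finsupp.add_apply, Nat.factorization_eq_zero_of_not_dvd hker11, zero_add,
      show 121 * 120 = 11 ^ 2 * 120 by norm_num, Nat.factorization_mul (by norm_num) (by norm_num),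
      Finsupp.add_apply, Nat.Prime.factorization_pow hp.out, Finsupp.single_eq_same,
      Nat.factorization_eq_zero_of_not_dvd (by norm_num : ¬ 11 ∣ 120)]
  have hPk : ∀ x ∈ (P : Subgroup G), ∃ k, orderOf x = 11 ^ k := fun x hx => by
    obtain ⟨k, hk⟩ := IsPGroup.iff_orderOf.mp P.2 ⟨x, hx⟩
    exact ⟨k, by rw [← hk, ← Subgroup.orderOf_coe]⟩
  have himg : ∀ x : G, (∃ k, orderOf x = 11 ^ k) → f x ∈ D.V := fun x ⟨k, hk⟩ => by
    refine (D.mem_iff _).mpr ?_
    obtain ⟨i, -, hi⟩ := (Nat.dvd_prime_pow hp.out).mp (hk ▸ orderOf_map_dvd f x)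
    exact ⟨i, hi⟩
  have hPO : ∀ x ∈ (P : Subgroup G), x ∈ O → x = 1 := fun x hx hxO => by
    obtain ⟨k, hk⟩ := hPk x hx
    rcases k.eq_zero_or_pos with rfl | hk0
    · rw [pow_zero, orderOf_eq_one_iff] at hk; exact hk
    · exact absurd (hk ▸ dvd_pow_self 11 hk0.ne') (hreg x hxO)
  have hW : ∀ g : G, f g ∈ D.V → ∃ u ∈ O, ∃ x ∈ (P : Subgroup G), g = u * x := by
    intro g hg
    let T : ↥(P : Subgroup G) → D.V := fun x => ⟨f x, himg _ (hPk x x.2)⟩
    have hT : Function.Bijective T := by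
      rw [Nat.bijective_iff_injective_and_card]
      refine ⟨fun a b h => ?_, by rw [hP, hV]; norm_num⟩
      have h' : f a = f b := congrArg Subtype.val h
      refine Subtype.ext (mul_inv_eq_one.mp (hPO _ (mul_mem a.2 (inv_mem b.2)) ?_))
      rw [hO, MonoidHom.mem_ker, map_mul, map_inv, h', mul_inv_cancel]
    obtain ⟨x, hx⟩ := hT.2 ⟨f g, hg⟩
    refine ⟨g * (x : G)⁻¹, ?_, x, x.2, by group⟩
    rw [hO, MonoidHom.mem_ker, map_mul, map_inv, show f x = f g from congrArg Subtype.val hx, mul_inv_cancel]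
  by_cases hcent : ∀ x ∈ (P : Subgroup G), ∀ u ∈ O, x * u = u * x
  · -- the Sylow subgroup is normal
    have hPn : (P : Subgroup G).Normal := ⟨fun x hx g => by
      obtain ⟨k, hk⟩ := hPk x hx
      have hk' : orderOf (g * x * g⁻¹) = 11 ^ k := by rw [← hk]; exact (MulEquiv.orderOf_eq (MulAut.conj g) x)
      obtain ⟨u, hu, y, hy, he⟩ := hW _ (himg _ ⟨k, hk'⟩)
      obtain ⟨j, hj⟩ := hPk y hy
      have h1 : u ^ (11 ^ (k + j)) = 1 := by
        have e1 : (g * x * g⁻¹) ^ (11 ^ (k + j)) = 1 := by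
          rw [pow_add, pow_mul, ← hk', pow_orderOf_eq_one, one_pow]
        rw [he, (show Commute u y from (hcent y hy u hu).symm).mul_pow, pow_add 11, mul_comm (11 ^ k),
          pow_mul y, ← hj, pow_orderOf_eq_one, one_pow, mul_one, hj, mul_comm (11 ^ j), ← pow_add] at e1
        exact e1
      obtain ⟨i, -, hi⟩ := (Nat.dvd_prime_pow hp.out).mp (orderOf_dvd_of_pow_eq_one h1)
      have hu1 : u = 1 := by
        rcases i.eq_zero_or_pos with rfl | hi0
        · rw [pow_zero, orderOf_eq_one_iff] at hi; exact hi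
        · exact absurd (hi ▸ dvd_pow_self 11 hi0.ne') (hreg u hu)
      rwa [he, hu1, one_mul]⟩
    haveI := hPn
    let e := (D.compl.symm).QuotientMulEquiv
    let ψ : G →* D.H := e.toMonoidHom.comp ((QuotientGroup.mk' D.V).comp f)
    have hψ : Function.Surjective ψ :=
      e.surjective.comp ((QuotientGroup.mk'_surjective D.V).comp hf)
    have hψker : ∀ g, g ∈ ψ.ker ↔ f g ∈ D.V := fun g => by
      show e (QuotientGroup.mk' D.V (f g)) = 1 ↔ _
      rw [map_eq_one_iff e e.injective]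
      exact QuotientGroup.eq_one_iff _
    let π : G ⧸ (P : Subgroup G) →* D.H :=
      QuotientGroup.lift _ ψ fun x hx => (hψker x).mpr (himg x (hPk x hx))
    have hπ : Function.Surjective π := fun h => by
      obtain ⟨g, rfl⟩ := hψ h
      exact ⟨(g : G ⧸ (P : Subgroup G)), rfl⟩
    have hπker : π.ker = O.map (QuotientGroup.mk' (P : Subgroup G)) := by
      ext z
      obtain ⟨g, rfl⟩ := QuotientGroup.mk'_surjective (P : Subgroup G) z
      show ψ g = 1 ↔ _
      constructor
      · intro h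
        obtain ⟨u, hu, x, hx, rfl⟩ := hW g ((hψker g).mp h)
        exact ⟨u, hu, by rw [map_mul, QuotientGroup.mk'_apply _ x, (QuotientGroup.eq_one_iff x).mpr hx, mul_one]⟩
      · rintro ⟨u, hu, hug⟩
        rw [QuotientGroup.mk'_apply, QuotientGroup.mk'_apply, QuotientGroup.eq] at hug
        refine (hψker g).mpr ?_
        have h1 := himg _ (hPk _ hug)
        rw [map_mul, map_inv, MonoidHom.mem_ker.mp hu, inv_one, one_mul] at h1
        exact h1
    have hinjO : ∀ u ∈ O, (QuotientGroup.mk' (P : Subgroup G)) u = 1 → u = 1 := fun u hu h =>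
      hPO u ((QuotientGroup.eq_one_iff u).mp h) hu
    have hcardker : Nat.card π.ker = Nat.card O := by
      rw [hπker]
      refine Nat.card_congr (Equiv.ofBijective
        (fun u : O => (⟨QuotientGroup.mk' _ (u : G), Subgroup.mem_map_of_mem _ u.2⟩ :
          O.map (QuotientGroup.mk' (P : Subgroup G)))) ⟨fun a b h => ?_, ?_⟩).symm
      · have h' : QuotientGroup.mk' (P : Subgroup G) (a : G) = QuotientGroup.mk' (P : Subgroup G) (b : G) :=
          congrArg Subtype.val h
        refine Subtype.ext (mul_inv_eq_one.mp (hinjO _ (mul_mem a.2 (inv_mem b.2)) ?_))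
        rw [map_mul, map_inv, h', mul_inv_cancel]
      · rintro ⟨_, u, hu, rfl⟩
        exact ⟨⟨u, hu⟩, rfl⟩
    have h := no_single_class π hπ hH hk hiso (fun h => by
        rw [h, Subgroup.card_bot] at hcardker
        exact (Finite.one_lt_card (α := O)).ne hcardker)
      (hcardker ▸ hker11)
      (by
        rw [hπker]
        rintro _ ⟨a, ha, rfl⟩ _ ⟨b, hb, rfl⟩
        rw [← map_mul, ← map_mul, habel a ha b hb])
      (by
        rw [hπker]
        rintro _ ⟨a, ha, rfl⟩ _ ⟨b, hb, rfl⟩ ha1 hb1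
        exact MonoidHom.map_isConj _ (hone a ha b hb (fun e => ha1 (by rw [e, map_one]))
          (fun e => hb1 (by rw [e, map_one]))))
    have h11 : ¬ 11 ∣ Nat.card (G ⧸ (P : Subgroup G)) := P.not_dvd_index
    have := regClass_le (p := 11) (QuotientGroup.mk' (P : Subgroup G)) (QuotientGroup.mk'_surjective _)
    rw [card_regClass_of_coprime _ h11] at this
    omega
  · -- a faithful action of the Sylow subgroup is impossible
    haveI hPc : IsMulCommutative (P : Subgroup G) :=
      IsPGroup.isMulCommutative_of_card_eq_prime_sq (p := 11) hP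
    obtain ⟨x₁, hx₁⟩ := exists_prime_orderOf_dvd_card' (G := G) 11
      (by rw [hcardG]; exact Dvd.dvd.mul_left (by norm_num) _)
    have hexp : ∀ x ∈ (P : Subgroup G), x ^ 11 = 1 := fun x hx => by
      rcases eq_or_ne x 1 with rfl | h
      · exact one_pow _
      obtain ⟨g, hg⟩ := isConj_iff.mp (hconj x₁ x (fun h' => by rw [h', orderOf_one] at hx₁; omega) h
        ⟨1, by rw [hx₁, pow_one]⟩ (hPk x hx))
      rw [← hg, conj_pow, ← hx₁, pow_orderOf_eq_one, mul_one, mul_inv_cancel]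
    have hPnc : ¬ IsCyclic (P : Subgroup G) := fun hc => by
      obtain ⟨g, hg⟩ := hc.exists_generator
      have h1 := orderOf_eq_card_of_forall_mem_zpowers hg
      have h2 : orderOf g ∣ 11 := orderOf_dvd_of_pow_eq_one (Subtype.ext (by
        rw [SubmonoidClass.coe_pow, hexp g g.2]; rfl))
      rw [h1, hP] at h2
      norm_num at h2
    -- two independent elements generate
    have hgen : ∀ c : G, ∀ a ∈ (P : Subgroup G), ∀ b ∈ (P : Subgroup G), a ≠ 1 →
        b ∉ Subgroup.zpowers a → Commute a c → Commute b c →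
        ∀ x ∈ (P : Subgroup G), Commute x c := by
      intro c a ha b hb ha1 hba hac hbc x hx
      set C := (P : Subgroup G) ⊓ Subgroup.centralizer ({c} : Set G)
      have haC : Subgroup.zpowers a < C := by
        refine lt_of_le_of_ne (Subgroup.zpowers_le.mpr ⟨ha, Subgroup.mem_centralizer_singleton_iff.mpr hac⟩)
          fun e => hba (e ▸ (⟨hb, Subgroup.mem_centralizer_singleton_iff.mpr hbc⟩ : b ∈ C))
      have h11 : Nat.card (Subgroup.zpowers a) = 11 := by
        rw [Nat.card_zpowers, orderOf_eq_prime (hexp a ha) ha1]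
      obtain ⟨i, hi, hCi⟩ := (Nat.dvd_prime_pow hp.out).mp
        (hP ▸ Subgroup.card_dvd_of_le (inf_le_left : C ≤ (P : Subgroup G)))
      have hgt : 11 < Nat.card C := by
        by_contra h
        exact haC.ne (Subgroup.eq_of_le_of_card_ge haC.le (by omega))
      have hC : C = (P : Subgroup G) := by
        refine Subgroup.eq_of_le_of_card_ge inf_le_left ?_
        rw [hP]
        rw [hCi] at hgt ⊢
        interval_cases i <;> norm_num at hgt <;> norm_num
      exact Subgroup.mem_centralizer_singleton_iff.mp (hC.ge hx).2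
    have hnoP : ∀ u ∈ O, (∀ x ∈ (P : Subgroup G), Commute x u) → u = 1 := by
      intro u hu hcom
      by_contra hu1
      refine hcent fun x hx w hw => ?_
      rcases eq_or_ne w 1 with rfl | hw1
      · rw [one_mul, mul_one]
      obtain ⟨g, hg⟩ := isConj_iff.mp (hone u hu w hw hu1 hw1)
      obtain ⟨k, hk⟩ := hPk x hx
      obtain ⟨v, hv, y, hy, he⟩ := hW (g⁻¹ * x * g) (himg _ ⟨k, by
        rw [← hk]; simpa using MulEquiv.orderOf_eq (MulAut.conj g⁻¹) x⟩)
      have hc : Commute (g⁻¹ * x * g) u := he ▸ Commute.mul_left (habel v hv u hu) (hcom y hy)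
      rw [← hg]
      calc x * (g * u * g⁻¹) = g * ((g⁻¹ * x * g) * u) * g⁻¹ := by group
        _ = g * u * g⁻¹ * x := by rw [hc.eq]; group
    obtain ⟨a₁, ha₁, ha₁1, o₁, ho₁, ho₁1, hcom₁⟩ : ∃ a ∈ (P : Subgroup G), a ≠ 1 ∧
        ∃ o ∈ O, o ≠ 1 ∧ Commute a o := by
      by_contra hno
      push Not at hno
      refine hker (le_bot_iff.mp (Coprime.le_of_centralizer_le hPnc ?_ ?_ fun a ha ha1 u hu => ?_))
      · rw [Subgroup.normalizer_eq_top]; exact le_top
      · rw [hP]
        exact Nat.Coprime.pow_left 2 (hp.out.coprime_iff_not_dvd.mpr hker11)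
      · rw [Subgroup.mem_bot]
        by_contra hu1
        exact hno a ha ha1 u hu.1 hu1 (Subgroup.mem_centralizer_singleton_iff.mp hu.2).symm
    have hsome : ∀ w ∈ O, w ≠ 1 → ∃ x ∈ (P : Subgroup G), x ≠ 1 ∧ Commute x w := by
      intro w hw hw1
      obtain ⟨g, hg⟩ := isConj_iff.mp (hone o₁ ho₁ w hw ho₁1 hw1)
      obtain ⟨k, hk⟩ := hPk a₁ ha₁
      obtain ⟨v, hv, x, hx, he⟩ := hW (g * a₁ * g⁻¹) (himg _ ⟨k, by
        rw [← hk]; exact MulEquiv.orderOf_eq (MulAut.conj g) a₁⟩)
      have hgc : Commute (g * a₁ * g⁻¹) w := hg ▸ hcom₁.map (MulAut.conj g).toMonoidHom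
      refine ⟨x, hx, fun hx1 => ?_, ?_⟩
      · rw [hx1, mul_one] at he
        have hd : 11 ∣ orderOf v := by
          rw [← he, show orderOf (g * a₁ * g⁻¹) = orderOf a₁ from MulEquiv.orderOf_eq (MulAut.conj g) a₁,
            orderOf_eq_prime (hexp a₁ ha₁) ha₁1]
        exact hreg v hv hd
      · have hvw : Commute v w := habel v hv w hw
        have hx' : x = v⁻¹ * (g * a₁ * g⁻¹) := by rw [he, inv_mul_cancel_left]
        exact hx' ▸ hvw.inv_left.mul_left hgc
    obtain ⟨a₂, ha₂, ha₂z⟩ : ∃ a ∈ (P : Subgroup G), a ∉ Subgroup.zpowers a₁ := by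
      by_contra hno
      push Not at hno
      have := Subgroup.card_le_of_le (show (P : Subgroup G) ≤ Subgroup.zpowers a₁ from hno)
      rw [hP, Nat.card_zpowers, orderOf_eq_prime (hexp a₁ ha₁) ha₁1] at this
      norm_num at this
    have ha₂1 : a₂ ≠ 1 := fun h => ha₂z (h ▸ one_mem _)
    obtain ⟨g, hg⟩ := isConj_iff.mp (hconj a₁ a₂ ha₁1 ha₂1 (hPk a₁ ha₁) (hPk a₂ ha₂))
    set o₂ := g * o₁ * g⁻¹
    have ho₂ : o₂ ∈ O := (inferInstance : O.Normal).conj_mem o₁ ho₁ g
    have hcom₂ : Commute a₂ o₂ := hg ▸ hcom₁.map (MulAut.conj g).toMonoidHom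
    have ho₂1 : o₂ ≠ 1 := fun h => ho₁1 (conj_eq_one_iff.mp h)
    have hprod : o₁ * o₂ ≠ 1 := fun h => ho₁1 (hnoP o₁ ho₁ (hgen o₁ a₁ ha₁ a₂ ha₂ ha₁1 ha₂z hcom₁ (by
      rw [eq_inv_of_mul_eq_one_left h]
      exact hcom₂.inv_right)))
    obtain ⟨x, hx, hx1, hxc⟩ := hsome _ (mul_mem ho₁ ho₂) hprod
    have hPcomm : ∀ a ∈ (P : Subgroup G), Commute a x := fun a ha =>
      congrArg Subtype.val (mul_comm' (⟨a, ha⟩ : (P : Subgroup G)) ⟨x, hx⟩)
    have h1 : Commute a₁ (x * o₁ * x⁻¹) :=
      ((hPcomm a₁ ha₁).mul_right hcom₁).mul_right (hPcomm a₁ ha₁).inv_right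
    have h2 : Commute a₂ (x * o₂ * x⁻¹) :=
      ((hPcomm a₂ ha₂).mul_right hcom₂).mul_right (hPcomm a₂ ha₂).inv_right
    have he : o₁⁻¹ * (x * o₁ * x⁻¹) = o₂ * (x * o₂ * x⁻¹)⁻¹ := by
      have h3 : x * o₁ * x⁻¹ * (x * o₂ * x⁻¹) = o₁ * o₂ := by
        calc x * o₁ * x⁻¹ * (x * o₂ * x⁻¹) = x * (o₁ * o₂) * x⁻¹ := by group
          _ = o₁ * o₂ := by rw [hxc.eq, mul_inv_cancel_right]
      rw [show x * o₁ * x⁻¹ = o₁ * o₂ * (x * o₂ * x⁻¹)⁻¹ by rw [← h3, mul_inv_cancel_right]]
      group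
    have hc : o₁⁻¹ * (x * o₁ * x⁻¹) = 1 := by
      refine hnoP _ (mul_mem (inv_mem ho₁) ((inferInstance : O.Normal).conj_mem o₁ ho₁ x))
        (hgen _ a₁ ha₁ a₂ ha₂ ha₁1 ha₂z (hcom₁.inv_right.mul_right h1) ?_)
      rw [he]
      exact hcom₂.mul_right h2.inv_right
    have hxo₁ : Commute x o₁ := mul_inv_eq_iff_eq_mul.mp (inv_mul_eq_one.mp hc).symm
    have hxo₂ : Commute x o₂ := by
      rw [hc] at he
      exact (mul_inv_eq_iff_eq_mul.mp (mul_inv_eq_one.mp he.symm).symm)
    by_cases hxz : x ∈ Subgroup.zpowers a₁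
    · refine ho₂1 (hnoP o₂ ho₂ (hgen o₂ x hx a₂ ha₂ hx1 (fun h => ha₂z ?_) hxo₂ hcom₂))
      exact Subgroup.zpowers_le.mpr hxz h
    · exact ho₁1 (hnoP o₁ ho₁ (hgen o₁ a₁ ha₁ x hx ha₁1 hxz hcom₁ hxo₁))

end CfsgLib.KGVTrans
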