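import Cfsg.Agent.Lib.Blocks.Decomp.Surjective
import Cfsg.Agent.Lib.Char.OddDegreeSum

/-!
# Lifting a representation of order prime to the characteristic

A faithful matrix representation over a finite field of characteristic `p` of a group of order
prime to `p` gives a faithful complex character of the same degree.
-/

set_option autoImplicit false
set_option linter.unusedSectionVars false
set_option linter.style.haveILetI false

namespace CfsgLib.KGVTrans

open Cfsg CfsgLib.GrpRing CfsgLib.Blocks CfsgLib.Blocks.Decomp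
open scoped CfsgLib.Char

variable {G : Type*} [Group G] [Fintype G] {p n : ℕ}

theorem eq_one_of_re {z : ℂ} (hz : ‖z‖ = 1) (hre : z.re = 1) : z = 1 := by
  have h1 : z.re * z.re + z.im * z.im = 1 := by
    rw [← Complex.normSq_apply, Complex.normSq_eq_norm_sq, hz]; norm_num
  rw [hre] at h1
  exact Complex.ext hre (by have := mul_self_eq_zero.mp (show z.im * z.im = 0 by linarith); simpa using this)

/-- **Lifting.** -/
theorem exists_faithful_char [hp : Fact p.Prime] {F : Type*} [Field F] [Finite F] [CharP F p]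
    (ρ : G →* Matrix (Fin n) (Fin n) F) (hinj : Function.Injective ρ) (hG : ¬ p ∣ Nat.card G) :
    ∃ χ : G → ℂ, IsCharacter G χ ∧ (∀ g : G, χ g = χ 1 → g = 1) ∧ charDegree χ = n := by
  classical
  obtain ⟨M, hM⟩ := Blocks.exists_isPModular hp.out
  haveI := Blocks.isPrime_of_isPModular hM
  haveI : CharP (ResField M) p := charP_resField hM
  obtain ⟨T⟩ := nonempty_simples M G
  letI : Algebra (ZMod p) F := ZMod.algebra F p
  letI : Algebra (ZMod p) (ResField M) := ZMod.algebra (ResField M) p
  haveI : Module.Finite (ZMod p) F := Module.Finite.of_finite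
  let e : F →ₐ[ZMod p] ResField M := IsAlgClosed.lift
  let ρ' : G →* Matrix (Fin n) (Fin n) (ResField M) :=
    (e.toRingHom.mapMatrix : Matrix (Fin n) (Fin n) F →+* _).toMonoidHom.comp ρ
  have hinj' : Function.Injective ρ' := fun a b h => hinj (by
    ext i j
    exact e.toRingHom.injective (congrFun (congrFun h i) j))
  let π₀ : KG M G →ₐ[ResField M] Π _ : Unit, Matrix (Fin n) (Fin n) (ResField M) :=
    Pi.algHom _ _ fun _ => MonoidAlgebra.lift (ResField M) (Matrix (Fin n) (Fin n) (ResField M)) G ρ'
  have hπ : ∀ g, π₀ (dlt (ResField M) g) () = ρ' g := fun g => by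
    show MonoidAlgebra.lift (ResField M) _ G ρ' (dlt (ResField M) g) = _
    rw [MonoidAlgebra.lift_single, one_smul]
  let f : KG M G → ℕ := fun i => rk π₀ () i
  have h0 : f 0 = 0 := rk_zero π₀ ()
  have hadd : ∀ i i', IsIdempotentElem i → IsIdempotentElem i' → i * i' = 0 → i' * i = 0 →
      f (i + i') = f i + f i' := fun i i' hi hi' h h' => rk_add π₀ hi hi' h h'
  have hequiv : ∀ i i', IsIdempotentElem i → IsIdempotentElem i' → Corner.Equiv' i i' → f i = f i' :=
    fun i i' hi hi' h => rk_equiv π₀ hi hi' h
  obtain ⟨ψ, hψ⟩ := exists_unit_row T hM hG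
  set η : G → ℂ := ∑ b, ((f (T.j b) : ℕ) : ℂ) • (ψ b : G → ℂ) with hη
  have hchar : IsCharacter G η := Char.isCharacter_sum _ _ fun b _ =>
    Char.isCharacter_natCast_smul (Char.isCharacter_of_isIrr (ψ b).2) _
  have hclass : IsClassFunction G η := Char.isClassFunction_of_isGeneralized
    (Char.isGeneralized_sum _ _ fun b _ => by
      have := Char.isGeneralized_intCast_smul (Char.isGeneralized_of_isIrr (ψ b).2) (f (T.j b) : ℤ)
      simpa using this)
  have hdec : ∀ c, T.dec η c = (f (T.j c) : ℂ) := fun c => by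
    rw [Simples.dec, show η = fun g => ∑ b, ((f (T.j b) : ℕ) : ℂ) * (ψ b : G → ℂ) g by
      funext g; simp [hη, Finset.sum_apply], chiSum_sum_fun]
    rw [Finset.sum_eq_single c]
    · show _ * T.dec (ψ c : G → ℂ) c = _
      rw [dec_eq, hψ, if_pos rfl]; simp
    · intro b _ hb
      show _ * T.dec (ψ b : G → ℂ) c = _
      rw [dec_eq, hψ, if_neg hb]; simp
    · simp
  have hreg : ∀ y : G, IsPRegular p y := fun y h => hG (h.trans (orderOf_dvd_natCard y))
  have hval : ∀ y : G, η y = ∑ k ∈ Finset.range (orderOf y),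
      ((zRoot M (orderOf y) : locRing M) : ℂ) ^ k * (f (red (eig M y k)) : ℂ) := fun y => by
    rw [value_eq T hM hclass (hreg y)]
    simp only [hdec, Simples.brauer, Finset.sum_mul]
    rw [Finset.sum_comm]
    refine Finset.sum_congr rfl fun k hk => ?_
    rw [additive_eq T.π T.surj T.nil f h0 hadd hequiv (j := T.j) (fun b => ⟨T.prim b, T.j_ne b⟩)
      ((isIdempotentElem_eig hM (hreg y) (Finset.mem_range.mp hk)).map red), Nat.cast_sum,
      Finset.mul_sum]
    exact Finset.sum_congr rfl fun b _ => by rw [smul_eq_mul]; push_cast; ring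
  have hfone : f 1 = n := by
    show Matrix.rank (π₀ 1 ()) = n
    rw [map_one, Pi.one_apply, Matrix.rank_one, Fintype.card_fin]
  have hsumT : ∀ y : G, ∑ k ∈ Finset.range (orderOf y), eig M y k = 1 := fun y =>
    sum_fid (zRoot_spec (orderOf_pos y)) (orderOf_pos y) (cInv_spec hM (hreg y))
  have hidem : ∀ (y : G), ∀ k ∈ Finset.range (orderOf y), IsIdempotentElem (red (eig M y k)) :=
    fun y k hk => (isIdempotentElem_eig hM (hreg y) (Finset.mem_range.mp hk)).map red
  have hrank : ∀ y : G, ∑ k ∈ Finset.range (orderOf y), f (red (eig M y k)) = n := fun y => by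
    suffices h : ∀ t ⊆ Finset.range (orderOf y),
        ∑ k ∈ t, f (red (eig M y k)) = f (∑ k ∈ t, red (eig M y k)) ∧
          IsIdempotentElem (∑ k ∈ t, red (eig M y k)) by
      rw [(h _ subset_rfl).1, ← map_sum, hsumT, map_one, hfone]
    intro t
    induction t using Finset.induction with
    | empty => exact fun _ => ⟨by simp [h0], by simpa using IsIdempotentElem.zero⟩
    | insert a t hat ih =>
      intro hsub
      rw [Finset.insert_subset_iff] at hsub
      obtain ⟨ih1, ih2⟩ := ih hsub.2
      have horth : ∀ b ∈ t, red (eig M y a) * red (eig M y b) = 0 ∧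
          red (eig M y b) * red (eig M y a) = 0 := fun b hb => by
        have hba : b ≠ a := fun h => hat (h ▸ hb)
        have ha' := Finset.mem_range.mp hsub.1
        have hb' := Finset.mem_range.mp (hsub.2 hb)
        constructor <;> rw [← map_mul, eig, eig, fid_mul (zRoot_spec (orderOf_pos y)) (orderOf_pos y)
          (dlt_pow_orderOf y) (cInv_spec hM (hreg y)) (by assumption) (by assumption)]
        · rw [if_neg hba.symm, map_zero]
        · rw [if_neg hba, map_zero]
      have z1 : red (eig M y a) * ∑ k ∈ t, red (eig M y k) = 0 := by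
        rw [Finset.mul_sum, Finset.sum_eq_zero fun b hb => (horth b hb).1]
      have z2 : (∑ k ∈ t, red (eig M y k)) * red (eig M y a) = 0 := by
        rw [Finset.sum_mul, Finset.sum_eq_zero fun b hb => (horth b hb).2]
      rw [Finset.sum_insert hat, Finset.sum_insert hat]
      refine ⟨by rw [hadd _ _ (hidem y a hsub.1) ih2 z1 z2, ih1], ?_⟩
      rw [IsIdempotentElem, mul_add, add_mul, add_mul, z1, z2, add_zero, zero_add,
        (hidem y a hsub.1).eq, ih2.eq]
  have hone : η 1 = n := by
    have h := hrank 1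
    rw [orderOf_one, Finset.sum_range_one] at h
    rw [hval, orderOf_one, Finset.sum_range_one, pow_zero, one_mul, h]
  refine ⟨η, hchar, fun y hy => hinj' ?_, Char.Extraspecial.charDegree_eq hone⟩
  set o := orderOf y with ho
  set z : ℂ := ((zRoot M o : locRing M) : ℂ) with hz
  have hzp : IsPrimitiveRoot z o :=
    (zRoot_spec (M := M) (orderOf_pos y)).map_of_injective (f := (locRing M).subtype) Subtype.val_injective
  have hzn : ∀ k, ‖z ^ k‖ = 1 := fun k => by
    rw [norm_pow, hzp.norm'_eq_one (orderOf_pos y).ne', one_pow]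
  have hzero : ∀ k ∈ Finset.range o, k ≠ 0 → f (red (eig M y k)) = 0 := by
    intro k hk hk0
    have he : ∑ j ∈ Finset.range o, (1 - (z ^ j).re) * (f (red (eig M y j)) : ℝ) = 0 := by
      have h1 := congrArg Complex.re (hval y)
      rw [hy, hone, Complex.re_sum] at h1
      simp only [Complex.natCast_re, Complex.re_mul_ofReal, Complex.mul_re, Complex.natCast_im,
        mul_zero, sub_zero] at h1
      rw [← hrank y] at h1
      simp only [sub_mul, one_mul, Finset.sum_sub_distrib, hz, ho] at h1 ⊢
      push_cast at h1 ⊢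
      linarith [h1]
    have h2 := (Finset.sum_eq_zero_iff_of_nonneg fun j _ => mul_nonneg
      (sub_nonneg.mpr ((Complex.re_le_norm _).trans (hzn j).le)) (Nat.cast_nonneg _)).mp he k hk
    rcases mul_eq_zero.mp h2 with h | h
    · have h1 : z ^ k = 1 := eq_one_of_re (hzn k) (by linarith)
      exact absurd (Nat.eq_zero_of_dvd_of_lt ((hzp.pow_eq_one_iff_dvd k).mp h1)
        (Finset.mem_range.mp hk)) hk0
    · exact_mod_cast h
  have hπ0 : ∀ k ∈ Finset.range o, k ≠ 0 → π₀ (red (eig M y k)) () = 0 := fun k hk hk0 =>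
    rank_eq_zero (hzero k hk hk0)
  have h0mem : 0 ∈ Finset.range o := Finset.mem_range.mpr (orderOf_pos y)
  have e0 : π₀ (red (eig M y 0)) () = 1 := by
    have h := congrArg (fun a => π₀ a ()) ((congrArg red (hsumT y)).trans (map_one red))
    simp only [map_sum, Finset.sum_apply, map_one, Pi.one_apply] at h
    rwa [Finset.sum_eq_single 0 (fun k hk hk0 => hπ0 k hk hk0) (fun h' => absurd h0mem h')] at h
  rw [map_one, ← hπ y, ← red_dlt, ← sum_eig hM (hreg y), map_sum, map_sum, Finset.sum_apply]
  simp only [red_smul, map_smul, Pi.smul_apply]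
  rw [Finset.sum_eq_single 0 (fun k hk hk0 => by rw [hπ0 k hk hk0, smul_zero])
    (fun h' => absurd h0mem h'), e0, pow_zero]
  simp [res_one]

end CfsgLib.KGVTrans
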