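import Cfsg.Agent.S3360
import Cfsg.Agent.S0205
import Cfsg.Agent.S4485
import Cfsg.Agent.S4503
import Cfsg.Agent.S4504
import Cfsg.Agent.S0899
import Cfsg.Agent.Lib.TransLinear.Field
import Cfsg.Agent.Lib.NumberTheory.PrimitivePart
import Cfsg.Agent.Lib.KGVTrans.Lift
import Cfsg.Agent.Lib.Chev.GTwoThree.PSLThirteen

/-!
# Transitive linear groups of order prime to the characteristic

Such a group is semilinear unless the dimension is two, or it is four over three elements.
-/

set_option autoImplicit false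
set_option linter.unusedSectionVars false
set_option linter.style.haveILetI false

namespace CfsgLib.KGVTrans

open Cfsg CfsgLib.TransLinear CfsgLib.NumberTheory

variable {p : ℕ} [hp : Fact p.Prime] {V : Type*} [AddCommGroup V] [Module (ZMod p) V] [Finite V]
  {G : Type*} [Group G] [Finite G] (ρ : G →* (V ≃ₗ[ZMod p] V))

/-- The action is by semilinear maps of a field. -/
def Semilin : Prop :=
  ∃ (F : Type) (_ : Field F) (_ : Fintype F) (e : V ≃+ F),
    ∀ g : G, ∃ (a : F) (σ : F ≃+* F), ∀ v : V, e (ρ g v) = a * σ (e v)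

theorem factorization_exact {ℓ m : ℕ} (hℓ : ℓ.Prime) (h : ℓ ∣ m) (h2 : ¬ ℓ ^ 2 ∣ m) :
    m.factorization ℓ = 1 := by
  have hm : m ≠ 0 := fun e => h2 (e ▸ dvd_zero _)
  have a1 := (hℓ.pow_dvd_iff_le_factorization hm).mp (by rwa [pow_one] : ℓ ^ 1 ∣ m)
  have a2 := fun e => h2 ((hℓ.pow_dvd_iff_le_factorization hm).mpr e)
  by_contra hne
  exact a2 (by omega)

theorem card_eq_pow : Nat.card V = p ^ Module.finrank (ZMod p) V := by
  haveI : Module.Finite (ZMod p) V := Module.Finite.of_finite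
  rw [Module.natCard_eq_pow_finrank (K := ZMod p) (V := V), Nat.card_zmod]

theorem finrank_pos' [Nontrivial V] : 0 < Module.finrank (ZMod p) V := by
  haveI : Module.Finite (ZMod p) V := Module.Finite.of_finite
  exact Module.finrank_pos

theorem pow_finrank_sub_one_dvd [Nontrivial V]
    (htrans : ∀ v w : V, v ≠ 0 → w ≠ 0 → ∃ g : G, ρ g v = w) :
    p ^ Module.finrank (ZMod p) V - 1 ∣ Nat.card G := by
  rw [← card_eq_pow (p := p)]; exact card_sub_one_dvd htrans

/-- A faithful complex character of degree the dimension. -/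
theorem exists_char (hρ : Function.Injective ρ) (hG : ¬ p ∣ Nat.card G) {n : ℕ}
    (hn : Module.finrank (ZMod p) V = n) :
    ∃ χ : G → ℂ, IsCharacter G χ ∧ (∀ g : G, χ g = χ 1 → g = 1) ∧ charDegree χ = n := by
  haveI : Module.Finite (ZMod p) V := Module.Finite.of_finite
  haveI := Fintype.ofFinite G
  let b := Module.finBasisOfFinrankEq (ZMod p) V hn
  let L : G →* Matrix (Fin n) (Fin n) (ZMod p) :=
    (LinearMap.toMatrixAlgEquiv b).toMonoidHom.comp (endHom ρ)
  refine exists_faithful_char L (fun x y h => hρ (LinearEquiv.ext fun v => ?_)) hG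
  have h' : endHom ρ x = endHom ρ y := (LinearMap.toMatrixAlgEquiv b).injective h
  exact LinearMap.congr_fun h' v

theorem semilin_of_abelian_one [Nontrivial V] (hρ : Function.Injective ρ)
    (htrans : ∀ v w : V, v ≠ 0 → w ≠ 0 → ∃ g : G, ρ g v = w) (C : Subgroup G) [C.Normal]
    (hC : ∀ x ∈ C, ∀ y ∈ C, x * y = y * x) {ℓ : ℕ}
    (hℓC : ℓ ∣ Nat.card C)
    (hprim : ∀ i, 1 ≤ i → i < Module.finrank (ZMod p) V → ¬ ℓ ∣ p ^ i - 1) : Semilin ρ := by
  obtain ⟨d, t, hd, ht, hV, -, hCd, -, hone⟩ := exists_field_data ρ hρ htrans C hC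
  rw [card_eq_pow (p := p)] at hV
  have hn : Module.finrank (ZMod p) V = d * t := Nat.pow_right_injective hp.out.two_le hV
  refine (hone ?_).1
  by_contra ht1
  refine hprim d hd ?_ (hℓC.trans hCd)
  rw [hn]
  exact lt_mul_of_one_lt_right hd (by omega)

set_option synthInstance.maxHeartbeats 200000 in
set_option maxHeartbeats 1000000 in
/-- The centraliser of a normal abelian subgroup whose field has half the dimension. -/
theorem centralizer_char [Nontrivial V] (hρ : Function.Injective ρ) (hG : ¬ p ∣ Nat.card G)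
    (htrans : ∀ v w : V, v ≠ 0 → w ≠ 0 → ∃ g : G, ρ g v = w) (C : Subgroup G) [C.Normal]
    (hC : ∀ x ∈ C, ∀ y ∈ C, x * y = y * x) {d : ℕ} (hA : Nat.card (algOf ρ C) = p ^ d)
    (hV : Nat.card V = p ^ (d * 2)) :
    ∃ χ : Subgroup.centralizer (C : Set G) → ℂ, IsCharacter _ χ ∧
      (∀ g, χ g = χ 1 → g = 1) ∧ charDegree χ = 2 := by
  classical
  haveI : Finite (Module.End (ZMod p) V) := Finite.of_injective _ DFunLike.coe_injective
  let A := algOf ρ C
  letI iA : CommRing A := { (inferInstance : Ring A) with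
    mul_comm := fun a b => Subtype.ext (algOf_comm ρ hC a.2 b.2) }
  haveI : Nontrivial A := ⟨⟨0, 1, fun h => by
    obtain ⟨v, hv⟩ := exists_ne (0 : V)
    exact hv (LinearMap.congr_fun (congrArg Subtype.val h) v).symm⟩⟩
  haveI : NoZeroDivisors A := ⟨fun {a b} h => by
    by_contra hne
    push Not at hne
    obtain ⟨v, hv⟩ : ∃ v, b.1 v ≠ 0 := by
      by_contra h'
      push Not at h'
      exact hne.2 (Subtype.ext (LinearMap.ext fun v => by rw [h' v]; rfl))
    exact hne.1 (Subtype.ext (eq_zero_of_apply_eq_zero ρ hC htrans a.2 hv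
      (LinearMap.congr_fun (congrArg Subtype.val h) v)))⟩
  haveI : IsDomain A := NoZeroDivisors.to_isDomain A
  letI : Field A := (Finite.isDomain_to_isField A).toField
  haveI : Module.Finite A V := Module.Finite.of_finite
  haveI : CharP A p := charP_of_injective_algebraMap (algebraMap (ZMod p) A).injective p
  haveI : Fintype (Subgroup.centralizer (C : Set G)) := Fintype.ofFinite _
  have hrank : Module.finrank A V = 2 := by
    have h1 : p ^ (d * 2) = p ^ (d * Module.finrank A V) := by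
      rw [← hV, Module.natCard_eq_pow_finrank (K := A) (V := V), hA, ← pow_mul]
    have h2 := Nat.pow_right_injective hp.out.two_le h1
    rcases Nat.eq_zero_or_pos d with rfl | hd
    · exact absurd hV (by simpa using (Finite.one_lt_card (α := V)).ne')
    · exact (Nat.eq_of_mul_eq_mul_left hd h2).symm
  let b := Module.finBasisOfFinrankEq A V hrank
  have hcomm : ∀ g ∈ Subgroup.centralizer (C : Set G), ∀ a ∈ algOf ρ C,
      endHom ρ g * a = a * endHom ρ g := by
    intro g hg a ha
    rw [Subgroup.mem_centralizer_iff] at hg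
    induction ha using Algebra.adjoin_induction with
    | mem x hx =>
      obtain ⟨x, hx, rfl⟩ := hx
      rw [← map_mul, ← hg x hx, map_mul]
    | algebraMap r => exact (Algebra.commutes r _).symm
    | add u v _ _ hu hv => rw [mul_add, add_mul, hu, hv]
    | mul u v _ _ hu hv => rw [← mul_assoc, hu, mul_assoc, hv, ← mul_assoc]
  let E : Subgroup.centralizer (C : Set G) →* Module.End A V :=
    { toFun := fun g =>
        { toFun := fun v => ρ g.1 v
          map_add' := fun x y => map_add _ x y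
          map_smul' := fun a v => LinearMap.congr_fun (hcomm g.1 g.2 a.1 a.2) v }
      map_one' := LinearMap.ext fun v => by show ρ 1 v = v; rw [map_one]; rfl
      map_mul' := fun g h => LinearMap.ext fun v => by
        show ρ (g.1 * h.1) v = ρ g.1 (ρ h.1 v)
        rw [map_mul]; rfl }
  let L : Subgroup.centralizer (C : Set G) →* Matrix (Fin 2) (Fin 2) A :=
    (LinearMap.toMatrixAlgEquiv b).toMonoidHom.comp E
  refine exists_faithful_char (p := p) L (fun x y h => Subtype.ext (hρ (LinearEquiv.ext fun v => ?_)))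
    fun h => hG (h.trans (Subgroup.card_subgroup_dvd_card _))
  have h' : E x = E y := (LinearMap.toMatrixAlgEquiv b).injective h
  exact LinearMap.congr_fun h' v

section primitive

variable {ℓ : ℕ} [hℓ : Fact ℓ.Prime]

/-- An element of primitive prime order has no invariant subspace and an abelian centraliser. -/
theorem centralizer_commute (hρ : Function.Injective ρ)
    (hdvd : ℓ ∣ p ^ Module.finrank (ZMod p) V - 1)
    (hprim : ∀ i, 1 ≤ i → i < Module.finrank (ZMod p) V → ¬ ℓ ∣ p ^ i - 1)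
    {y : G} (hy : orderOf y = ℓ) :
    ∀ a ∈ Subgroup.centralizer ({y} : Set G), ∀ b ∈ Subgroup.centralizer ({y} : Set G),
      a * b = b * a := by
  classical
  haveI : Module.Finite (ZMod p) V := Module.Finite.of_finite
  set n := Module.finrank (ZMod p) V with hn
  set Y := Subgroup.zpowers y with hY
  letI : MulAction Y V :=
    { smul := fun g v => ρ g.1 v
      one_smul := fun v => by show ρ 1 v = v; rw [map_one]; rfl
      mul_smul := fun g h v => by show ρ (g.1 * h.1) v = ρ g.1 (ρ h.1 v); rw [map_mul]; rfl }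
  have hYp : IsPGroup ℓ Y := IsPGroup.of_card (n := 1) (by rw [hY, Nat.card_zpowers, hy, pow_one])
  let Fx : Submodule (ZMod p) V := LinearMap.eqLocus (endHom ρ y) LinearMap.id
  have hfix : ∀ v : V, v ∈ MulAction.fixedPoints Y V ↔ v ∈ Fx := by
    intro v
    constructor
    · intro h; exact h ⟨y, Subgroup.mem_zpowers y⟩
    · intro h g
      obtain ⟨g, hg⟩ := g
      show ρ g v = v
      let St : Subgroup G :=
        { carrier := {g | ρ g v = v}
          one_mem' := by simp
          mul_mem' := fun {a b} ha hb => by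
            simp only [Set.mem_setOf_eq] at ha hb ⊢
            rw [map_mul, LinearEquiv.mul_apply, hb, ha]
          inv_mem' := fun {a} ha => by
            simp only [Set.mem_setOf_eq] at ha ⊢
            conv_lhs => rw [← ha]
            rw [inv_apply_apply] }
      exact (Subgroup.zpowers_le.mpr (show y ∈ St from h)) hg
  have hone : 1 ≤ p ^ n := Nat.one_le_pow _ _ hp.out.pos
  have hfx0 : Fx = ⊥ := by
    have h := hYp.card_modEq_card_fixedPoints (α := V)
    rw [card_eq_pow (p := p), Nat.card_congr (Equiv.subtypeEquivRight hfix), card_eq_pow (p := p) (V := Fx), ← hn] at h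
    rcases eq_or_lt_of_le (Submodule.finrank_le Fx) with he | hlt
    · exfalso
      have htop : Fx = ⊤ := Submodule.eq_top_of_finrank_eq he
      have : y = 1 := hρ (LinearEquiv.ext fun v => by
        have : v ∈ Fx := htop ▸ Submodule.mem_top
        rw [map_one]; exact this)
      rw [this, orderOf_one] at hy
      exact hℓ.out.ne_one hy.symm
    · by_contra hne
      have hr : 1 ≤ Module.finrank (ZMod p) Fx :=
        Nat.one_le_iff_ne_zero.mpr fun h0 => hne (Submodule.finrank_eq_zero.mp h0)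
      refine hprim _ hr hlt ?_
      have h1 : p ^ n ≡ 1 [MOD ℓ] := ((Nat.modEq_iff_dvd' hone).mpr hdvd).symm
      exact (Nat.modEq_iff_dvd' (Nat.one_le_pow _ _ hp.out.pos)).mp (h1.symm.trans h)
  -- invariant subspaces
  have hinv : ∀ W : Submodule (ZMod p) V, (∀ w ∈ W, ρ y w ∈ W) → W ≠ ⊤ → W = ⊥ := by
    intro W hW hWtop
    by_contra hne
    let W' : SubMulAction Y V :=
      { carrier := W
        smul_mem' := fun g w hw => by
          obtain ⟨g, hg⟩ := g
          show ρ g w ∈ W
          let St : Submonoid G :=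
            { carrier := {g | ∀ w ∈ W, ρ g w ∈ W}
              one_mem' := fun w hw => by rw [map_one]; exact hw
              mul_mem' := fun {a b} ha hb w hw => by
                rw [map_mul, LinearEquiv.mul_apply]; exact ha _ (hb w hw) }
          rw [← mem_powers_iff_mem_zpowers] at hg
          exact (Submonoid.powers_le.mpr (show y ∈ St from hW)) hg w hw }
    have h := hYp.card_modEq_card_fixedPoints (α := W')
    have hfw : Nat.card (MulAction.fixedPoints Y W') = 1 := by
      rw [Nat.card_eq_one_iff_unique]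
      refine ⟨⟨fun a b => ?_⟩, ⟨⟨⟨0, W.zero_mem⟩, fun g => Subtype.ext (map_zero (ρ g.1))⟩⟩⟩
      have hz : ∀ a : MulAction.fixedPoints Y W', (a.1.1 : V) = 0 := fun a => by
        have : a.1.1 ∈ Fx := (hfix _).mp fun g => congrArg Subtype.val (a.2 g)
        rw [hfx0] at this
        exact this
      exact Subtype.ext (Subtype.ext ((hz a).trans (hz b).symm))
    rw [hfw, show Nat.card W' = Nat.card W from rfl, card_eq_pow (p := p) (V := W)] at h
    refine hprim _ (Nat.one_le_iff_ne_zero.mpr fun h0 => hne (Submodule.finrank_eq_zero.mp h0))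
      (lt_of_le_of_ne (Submodule.finrank_le W) fun he => hWtop (Submodule.eq_top_of_finrank_eq he))
      ((Nat.modEq_iff_dvd' (Nat.one_le_pow _ _ hp.out.pos)).mp h.symm)
  -- the commutant
  haveI : Finite (Module.End (ZMod p) V) := Finite.of_injective _ DFunLike.coe_injective
  let A := Subalgebra.centralizer (ZMod p) ({endHom ρ y} : Set (Module.End (ZMod p) V))
  have hA : ∀ a : A, ∀ v, ρ y (a.1 v) = a.1 (ρ y v) := fun a v =>
    LinearMap.congr_fun ((Subalgebra.mem_centralizer_iff _).mp a.2 _ rfl) v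
  haveI : NoZeroDivisors A := ⟨fun {a b} h => by
    by_contra hne
    push Not at hne
    have hker : a.1.ker = ⊥ := by
      refine hinv _ (fun w hw => ?_) fun htop => hne.1 (Subtype.ext (LinearMap.ker_eq_top.mp htop))
      rw [LinearMap.mem_ker] at hw ⊢
      rw [← hA, hw, map_zero]
    refine hne.2 (Subtype.ext (LinearMap.ext fun v => ?_))
    have : b.1 v ∈ a.1.ker := LinearMap.mem_ker.mpr (LinearMap.congr_fun (congrArg Subtype.val h) v)
    rw [hker] at this
    exact this⟩
  intro a ha b hb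
  rcases subsingleton_or_nontrivial V with hsub | hnt
  · exact hρ (LinearEquiv.ext fun v => Subsingleton.elim _ _)
  haveI : Nontrivial A := ⟨⟨0, 1, fun h => by
    obtain ⟨v, hv⟩ := exists_ne (0 : V)
    exact hv (LinearMap.congr_fun (congrArg Subtype.val h) v).symm⟩⟩
  haveI : IsDomain A := NoZeroDivisors.to_isDomain A
  have hmem : ∀ a ∈ Subgroup.centralizer ({y} : Set G), endHom ρ a ∈ A := fun a ha => by
    refine (Subalgebra.mem_centralizer_iff _).mpr fun g hg => ?_
    rw [Set.mem_singleton_iff.mp hg, ← map_mul, ← map_mul]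
    exact congrArg _ ((Subgroup.mem_centralizer_singleton_iff.mp ha).symm)
  have h := congrArg Subtype.val
    ((Finite.isDomain_to_isField A).mul_comm ⟨_, hmem a ha⟩ ⟨_, hmem b hb⟩)
  refine hρ (LinearEquiv.ext fun v => ?_)
  have h' := LinearMap.congr_fun h v
  rw [map_mul, map_mul, LinearEquiv.mul_apply, LinearEquiv.mul_apply]
  exact h'

theorem le_of_prim (hdvd : ℓ ∣ p ^ Module.finrank (ZMod p) V - 1)
    (hprim : ∀ i, 1 ≤ i → i < Module.finrank (ZMod p) V → ¬ ℓ ∣ p ^ i - 1)
    (hn : 0 < Module.finrank (ZMod p) V) :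
    Module.finrank (ZMod p) V ∣ ℓ - 1 ∧ ℓ ≠ p := by
  set n := Module.finrank (ZMod p) V
  have hne : ℓ ≠ p := by
    rintro rfl
    have h1 : ℓ ∣ ℓ ^ n := dvd_pow_self _ hn.ne'
    have h2 := Nat.dvd_sub h1 hdvd
    rw [Nat.sub_sub_self (Nat.one_le_pow _ _ hℓ.out.pos)] at h2
    exact hℓ.out.ne_one (Nat.dvd_one.mp h2)
  have hp0 : (p : ZMod ℓ) ≠ 0 := by
    rw [Ne, ZMod.natCast_eq_zero_iff]
    exact fun h => hne ((Nat.prime_dvd_prime_iff_eq hℓ.out hp.out).mp h)
  have hord : orderOf (p : ZMod ℓ) = n := by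
    refine (orderOf_eq_iff hn).mpr ⟨(dvd_pow_sub_one_iff hp.out.pos).mp hdvd,
      fun i hi hi0 h => hprim i hi0 hi ((dvd_pow_sub_one_iff hp.out.pos).mpr h)⟩
  exact ⟨hord ▸ ZMod.orderOf_dvd_card_sub_one hp0, hne⟩

/-- A primitive prime divides the order once and is `n + 1` or `2n + 1`, unless semilinear. -/
theorem semilin_or_prim [Nontrivial V] (hρ : Function.Injective ρ) (hG : ¬ p ∣ Nat.card G)
    (htrans : ∀ v w : V, v ≠ 0 → w ≠ 0 → ∃ g : G, ρ g v = w)
    (hdvd : ℓ ∣ p ^ Module.finrank (ZMod p) V - 1)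
    (hprim : ∀ i, 1 ≤ i → i < Module.finrank (ZMod p) V → ¬ ℓ ∣ p ^ i - 1) :
    Semilin ρ ∨ (¬ ℓ ^ 2 ∣ Nat.card G ∧
      (ℓ = Module.finrank (ZMod p) V + 1 ∨ ℓ = 2 * Module.finrank (ZMod p) V + 1)) := by
  classical
  set n := Module.finrank (ZMod p) V with hn
  have hn0 : 0 < n := finrank_pos' (p := p)
  obtain ⟨hdiv, -⟩ := le_of_prim (V := V) hdvd hprim hn0
  obtain ⟨j, hj⟩ := hdiv
  replace hj : ℓ - 1 = n * j := hj
  have hℓ2 := hℓ.out.two_le
  have hj1 : 1 ≤ j := Nat.one_le_iff_ne_zero.mpr fun h => by rw [h, mul_zero] at hj; omega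
  have hnℓ : n + 1 ≤ ℓ := by
    have : n ≤ n * j := Nat.le_mul_of_pos_right n hj1
    omega
  have hℓG : ℓ ∣ Nat.card G := hdvd.trans (pow_finrank_sub_one_dvd ρ htrans)
  obtain ⟨χ, hχ, hfaith, hdeg⟩ := exists_char ρ hρ hG hn.symm
  by_cases hsq : ℓ ^ 2 ∣ Nat.card G
  · left
    let P : Sylow ℓ G := default
    have hab : ∀ a ∈ (P : Subgroup G), ∀ b ∈ (P : Subgroup G), a * b = b * a := by
      have hPℓ : ℓ ∣ Nat.card P := (dvd_pow_self ℓ two_ne_zero).trans (P.pow_dvd_card_of_pow_dvd_card hsq)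
      haveI : Nontrivial P := Finite.one_lt_card_iff_nontrivial.mp
        (lt_of_lt_of_le hℓ.out.one_lt (Nat.le_of_dvd Nat.card_pos hPℓ))
      haveI := P.2.center_nontrivial
      have hZ : ℓ ∣ Nat.card (Subgroup.center P) := by
        obtain ⟨k, hk⟩ := IsPGroup.iff_card.mp (P.2.to_subgroup (Subgroup.center P))
        rw [hk]
        refine dvd_pow_self ℓ fun hk0 => ?_
        have := Finite.one_lt_card (α := Subgroup.center P)
        rw [hk, hk0, pow_zero] at this
        omega
      obtain ⟨z, hz⟩ := exists_prime_orderOf_dvd_card' ℓ hZ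
      have hzo : orderOf ((z : P) : G) = ℓ := by rw [Subgroup.orderOf_coe, Subgroup.orderOf_coe, hz]
      have hle : ∀ a ∈ (P : Subgroup G), a ∈ Subgroup.centralizer ({((z : P) : G)} : Set G) :=
        fun a ha => Subgroup.mem_centralizer_singleton_iff.mpr
          (congrArg Subtype.val (Subgroup.mem_center_iff.mp z.2 ⟨a, ha⟩))
      exact fun a ha b hb => centralizer_commute ρ hρ hdvd hprim hzo a (hle a ha) b (hle b hb)
    have hstar : ∀ x ∈ (P : Subgroup G), x ≠ 1 →
        Subgroup.centralizer ({x} : Set G) = Subgroup.centralizer ((P : Subgroup G) : Set G) := by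
      intro x hx hx1
      refine le_antisymm ?_ (Subgroup.centralizer_le (Set.singleton_subset_iff.mpr hx))
      obtain ⟨k, hk⟩ := P.2.exists_orderOf_eq_pow ⟨x, hx⟩
      rw [← Subgroup.orderOf_coe] at hk
      have hk0 : k ≠ 0 := fun h0 => by
        rw [h0, pow_zero] at hk; exact hx1 (orderOf_eq_one_iff.mp hk)
      obtain ⟨k, rfl⟩ := Nat.exists_eq_succ_of_ne_zero hk0
      have hy : orderOf (x ^ ℓ ^ k) = ℓ := by
        rw [orderOf_pow' _ (pow_ne_zero _ hℓ.out.ne_zero), hk,
          Nat.gcd_eq_right (pow_dvd_pow ℓ k.le_succ), pow_succ, Nat.mul_div_cancel_left]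
        exact pow_pos hℓ.out.pos _
      intro a ha
      rw [Subgroup.mem_centralizer_iff]
      intro b hb
      have hc : ∀ c, c * x = x * c → c ∈ Subgroup.centralizer ({x ^ ℓ ^ k} : Set G) := fun c hc =>
        Subgroup.mem_centralizer_singleton_iff.mpr (Commute.pow_right hc _).eq
      exact (centralizer_commute ρ hρ hdvd hprim hy a (hc a (Subgroup.mem_centralizer_singleton_iff.mp ha))
        b (hc b (hab b hb x hx))).symm
    obtain ⟨k, hk⟩ := IsPGroup.iff_card.mp P.2
    have h2k : ℓ ^ 2 ∣ Nat.card P := P.pow_dvd_card_of_pow_dvd_card hsq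
    have hnorm := Cfsg.Agent.S4485.result ℓ hℓ.out hℓG P hstar k hk χ hχ hfaith (by
      rw [hdeg, ← hk]
      have h1 := Nat.le_of_dvd Nat.card_pos h2k
      nlinarith)
    haveI := hnorm
    exact semilin_of_abelian_one ρ hρ htrans (P : Subgroup G) hab
      ((dvd_pow_self ℓ two_ne_zero).trans h2k) hprim
  · by_cases hbig : 2 * n + 1 < ℓ
    · left
      obtain ⟨H, hHn, hH⟩ : ∃ H : Subgroup G, H.Normal ∧ Nat.card H = ℓ := by
        by_contra h
        push Not at h
        have := Cfsg.Agent.S4503.result ℓ hℓ.out hℓG hsq h χ hχ hfaith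
        omega
      haveI := hHn
      haveI : IsCyclic H := isCyclic_of_prime_card hH
      exact semilin_of_abelian_one ρ hρ htrans H (fun x hx y hy =>
        congrArg Subtype.val (mul_comm' (⟨x, hx⟩ : H) ⟨y, hy⟩)) (hH ▸ dvd_rfl) hprim
    · refine Or.inr ⟨hsq, ?_⟩
      rcases Nat.lt_or_ge j 2 with h | h
      · have : j = 1 := by omega
        rw [this, mul_one] at hj
        omega
      · have h2 : n * 2 ≤ n * j := Nat.mul_le_mul_left n h
        omega

end primitive

section numeric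

/-- Trial division. -/
def isPrimeB (m : ℕ) : Bool := 2 ≤ m && (List.range' 2 (m - 2)).all fun i => m % i != 0

theorem isPrimeB_of_prime {m : ℕ} (h : m.Prime) : isPrimeB m = true := by
  simp only [isPrimeB, Bool.and_eq_true, decide_eq_true_eq, List.all_eq_true, bne_iff_ne]
  refine ⟨h.two_le, fun i hi he => ?_⟩
  rw [List.mem_range'_1] at hi
  rcases h.eq_one_or_self_of_dvd i (Nat.dvd_of_mod_eq_zero he) with h1 | h1 <;> omega

/-- `p` has order exactly `n` modulo `m`. -/
def ordB (p m n : ℕ) : Bool :=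
  p ^ n % m == 1 && (List.range' 1 (n - 1)).all fun i => p ^ i % m != 1

/-- The test of one dimension. -/
def dimOK (n : ℕ) : Bool :=
  !(isPrimeB (n + 1) && isPrimeB (2 * n + 1)) ||
    (decide (4 * n * (n + 1) * (2 * n + 1) < 48 ^ n.totient) &&
      (List.range' 3 45).all fun p =>
        !(isPrimeB p && decide (p ^ n.totient ≤ 4 * n * (n + 1) * (2 * n + 1)) &&
          ordB p (n + 1) n && ordB p (2 * n + 1) n) || (p == 17 && n == 6) || (p == 3 && n == 18))

theorem dim_checks : ((List.range' 3 99).all dimOK) = true := by decide +kernel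

theorem pair_cases {p n : ℕ} (hp : p.Prime) (hp2 : p ≠ 2) (hn : 3 ≤ n) (h1 : (n + 1).Prime)
    (h2 : (2 * n + 1).Prime) (o1 : n + 1 ∣ p ^ n - 1)
    (o1' : ∀ i, 1 ≤ i → i < n → ¬ n + 1 ∣ p ^ i - 1) (o2 : 2 * n + 1 ∣ p ^ n - 1)
    (o2' : ∀ i, 1 ≤ i → i < n → ¬ 2 * n + 1 ∣ p ^ i - 1)
    (hb : p ^ n.totient ≤ 4 * n * (n + 1) * (2 * n + 1)) : (p = 17 ∧ n = 6) ∨ (p = 3 ∧ n = 18) := by
  have hp3 : 3 ≤ p := by have := hp.two_le; omega
  have hn101 : n ≤ 101 := by
    by_contra hc
    push Not at hc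
    have hc3 := PrimitivePart.cube_le_totient (show 0 < n by omega)
    have hphi : n.totient ≤ 16 := by
      by_contra hk
      push Not at hk
      have h384 : ∀ k, 17 ≤ k → 384 * k ^ 4 < 3 ^ k := fun k hk => by
        induction k, hk using Nat.le_induction with
        | base => norm_num
        | succ k hk ih =>
          have h4 : (k + 1) ^ 4 ≤ 3 * k ^ 4 := by
            have e : (k + 1) ^ 4 = k ^ 4 + 4 * k ^ 3 + 6 * k ^ 2 + 4 * k + 1 := by ring
            have a1 : 17 * k ^ 3 ≤ k ^ 4 := by rw [pow_succ k 3, mul_comm _ k]; exact Nat.mul_le_mul_right _ hk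
            have a2 : 17 * k ^ 2 ≤ k ^ 3 := by rw [pow_succ k 2, mul_comm _ k]; exact Nat.mul_le_mul_right _ hk
            have a3 : 17 * k ≤ k ^ 2 := by rw [pow_two]; exact Nat.mul_le_mul_right _ hk
            omega
          rw [pow_succ 3]; omega
      have := h384 _ hk
      have h5 : 4 * n * (n + 1) * (2 * n + 1) ≤ 24 * n ^ 3 := by
        calc 4 * n * (n + 1) * (2 * n + 1) ≤ 4 * n * (2 * n) * (3 * n) :=
              Nat.mul_le_mul (Nat.mul_le_mul_left _ (by omega)) (by omega)
          _ = _ := by ring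
      have h6 := (Nat.pow_le_pow_left hp3 n.totient).trans hb
      omega
    have h1' : n.totient ^ 4 ≤ 16 ^ 4 := Nat.pow_le_pow_left hphi 4
    have h2' : 102 ^ 3 ≤ n ^ 3 := Nat.pow_le_pow_left hc 3
    norm_num at h1' h2'
    omega
  have hmod : ∀ m, 2 ≤ m → ∀ i, (m ∣ p ^ i - 1 ↔ p ^ i % m = 1) := fun m hm i => by
    rw [← Nat.modEq_iff_dvd' (Nat.one_le_pow _ _ hp.pos), Nat.ModEq, Nat.one_mod_eq_one.mpr (by omega),
      eq_comm]
  have hd := List.all_eq_true.1 dim_checks n (List.mem_range'_1.2 ⟨hn, by omega⟩)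
  simp only [dimOK, isPrimeB_of_prime h1, isPrimeB_of_prime h2, Bool.and_self, Bool.not_true,
    Bool.false_or, Bool.and_eq_true, decide_eq_true_eq, List.all_eq_true] at hd
  have hp47 : p < 48 := by
    by_contra hc
    push Not at hc
    have := (Nat.pow_le_pow_left hc n.totient).trans hb
    omega
  have h := hd.2 p (List.mem_range'_1.2 ⟨hp3, by omega⟩)
  have e1 : ordB p (n + 1) n = true := by
    simp only [ordB, Bool.and_eq_true, beq_iff_eq, List.all_eq_true, bne_iff_ne]
    exact ⟨(hmod _ (by omega) _).mp o1, fun i hi h =>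
      o1' i (List.mem_range'_1.1 hi).1 (by have := (List.mem_range'_1.1 hi).2; omega)
        ((hmod _ (by omega) _).mpr h)⟩
  have e2 : ordB p (2 * n + 1) n = true := by
    simp only [ordB, Bool.and_eq_true, beq_iff_eq, List.all_eq_true, bne_iff_ne]
    exact ⟨(hmod _ (by omega) _).mp o2, fun i hi h =>
      o2' i (List.mem_range'_1.1 hi).1 (by have := (List.mem_range'_1.1 hi).2; omega)
        ((hmod _ (by omega) _).mpr h)⟩
  simpa [isPrimeB_of_prime hp, e1, e2, decide_eq_true hb] using h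

end numeric

theorem three_dvd_psl [Fact (Nat.Prime 13)] :
    3 ∣ Nat.card (Matrix.ProjectiveSpecialLinearGroup (Fin 2) (ZMod 13)) := by
  rw [GTwoThree.card_psl_thirteen (ZMod.card 13)]; norm_num

/-- The four leftover pairs. -/
theorem semilin_special [Nontrivial V] (hρ : Function.Injective ρ) (hG : ¬ p ∣ Nat.card G)
    (htrans : ∀ v w : V, v ≠ 0 → w ≠ 0 → ∃ g : G, ρ g v = w) {h ℓ ℓ' : ℕ} [Fact ℓ.Prime]
    [hℓ' : Fact ℓ'.Prime] (hn : Module.finrank (ZMod p) V = h * 2) (h0 : 0 < h)
    (hℓ : ℓ = h * 2 + 1) (hdvd : ℓ ∣ p ^ (h * 2) - 1)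
    (hprim : ∀ i, 1 ≤ i → i < h * 2 → ¬ ℓ ∣ p ^ i - 1) (h5 : 5 < ℓ)
    (hdvd' : ℓ' ∣ p ^ h - 1) (hprim' : ∀ i, 1 ≤ i → i < h → ¬ ℓ' ∣ p ^ i - 1)
    (hsize : (h * 2 + 1) ^ 2 ≤ ℓ' ∨ (h * 2 + 1 < ℓ' ∧ (2 * (h * 2) + 1 < ℓ' ∨ (p = 3 ∧ h = 3 ∧ ℓ' = 13)))) :
    Semilin ρ := by
  classical
  have hℓG : ℓ ∣ Nat.card G := by
    refine hdvd.trans ?_
    rw [← hn]; exact pow_finrank_sub_one_dvd ρ htrans
  rcases semilin_or_prim (ℓ := ℓ) ρ hρ hG htrans (hn ▸ hdvd) (hn ▸ hprim) with hs | ⟨hsq, -⟩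
  · exact hs
  obtain ⟨χ, hχ, hfaith, hdeg⟩ := exists_char ρ hρ hG hn
  obtain ⟨m, σ, hσ⟩ := id hχ
  have hm : m = h * 2 := by
    rw [← hdeg, charDegree, ← hσ, Representation.char_one, Module.finrank_fin_fun, Complex.natCast_re,
      Nat.floor_natCast]
  subst hm
  have hσinj : Function.Injective σ := by
    refine (injective_iff_map_eq_one σ).mpr fun g hg => hfaith g ?_
    rw [← hσ]
    simp only [Representation.character]
    rw [hg, map_one σ]
  have hℓ'G : ℓ' ∣ Nat.card G := by
    refine (hdvd'.trans ?_).trans (pow_finrank_sub_one_dvd ρ htrans)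
    rw [hn]
    exact Nat.pow_sub_one_dvd_pow_sub_one _ (dvd_mul_right h 2)
  let P : Sylow ℓ' G := default
  have hPn : (P : Subgroup G).Normal := by
    refine Cfsg.Agent.S0899.result (h * 2) σ hσinj ℓ' ?_ P
    rcases hsize with hb | ⟨hb, hb'⟩
    · exact Or.inl hb
    refine Or.inr ⟨hb, fun K hK Q => ?_⟩
    by_cases hKℓ : ℓ' ∣ Nat.card K
    · have hN : ∃ H : Subgroup K, H.Normal ∧ Nat.card H = ℓ' := by
        by_contra hno
        push Not at hno
        have hχK : IsCharacter K (fun g : K => χ g) :=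
          ⟨h * 2, σ.comp K.subtype, funext fun g => by rw [← hσ]; rfl⟩
        have hfK : ∀ g : K, χ g = χ ((1 : K) : G) → g = 1 := fun g hg => Subtype.ext (hfaith g hg)
        have hdK : charDegree (fun g : K => χ g) = h * 2 := hdeg
        have hle := Cfsg.Agent.S4503.result ℓ' hℓ'.out hKℓ hK hno _ hχK hfK
        rw [hdK] at hle
        rcases hb' with hb' | ⟨hp3, hh3, h13⟩
        · omega
        · have h2 : 2 * charDegree (fun g : K => χ g) + 1 = ℓ' := by
            rw [hdK, h13, hh3]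
          obtain ⟨e⟩ := Cfsg.Agent.S4504.result ℓ' hℓ'.out hKℓ hK hno _ hχK hfK h2
          apply hG
          rw [hp3]
          have h3 : 3 ∣ Nat.card (Matrix.ProjectiveSpecialLinearGroup (Fin 2) (ZMod ℓ')) := by
            subst h13
            exact three_dvd_psl
          rw [← Nat.card_congr e.toEquiv] at h3
          exact (h3.trans (Subgroup.card_quotient_dvd_card _)).trans (Subgroup.card_subgroup_dvd_card K)
      obtain ⟨H, hHn, hH⟩ := hN
      let S : Sylow ℓ' K := Sylow.ofCard H (by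
        rw [hH, factorization_exact hℓ'.out hKℓ hK, pow_one])
      have : Subsingleton (Sylow ℓ' K) := (Sylow.unique_of_normal S hHn).instSubsingleton
      rw [Subsingleton.elim Q S]
      exact hHn
    · have : (Q : Subgroup K) = ⊥ := Subgroup.card_eq_one.mp (by
        rw [Q.card_eq_multiplicity, Nat.factorization_eq_zero_of_not_dvd hKℓ, pow_zero])
      rw [this]; infer_instance
  haveI := hPn
  let Z : Subgroup G := (Subgroup.center (P : Subgroup G)).map (P : Subgroup G).subtype
  haveI : Z.Normal := ConjAct.normal_of_characteristic_of_normal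
  have hZab : ∀ x ∈ Z, ∀ y ∈ Z, x * y = y * x := by
    rintro _ ⟨x, hx, rfl⟩ _ ⟨y, hy, rfl⟩
    exact congrArg Subtype.val (Subgroup.mem_center_iff.mp hy x)
  have hZℓ : ℓ' ∣ Nat.card Z := by
    haveI : Nontrivial P := Finite.one_lt_card_iff_nontrivial.mp
      (lt_of_lt_of_le hℓ'.out.one_lt (Nat.le_of_dvd Nat.card_pos (P.dvd_card_of_dvd_card hℓ'G)))
    haveI := P.2.center_nontrivial
    rw [Subgroup.card_map_of_injective (Subgroup.subtype_injective _)]
    obtain ⟨k, hk⟩ := IsPGroup.iff_card.mp (P.2.to_subgroup (Subgroup.center P))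
    rw [hk]
    refine dvd_pow_self _ fun hk0 => ?_
    have := Finite.one_lt_card (α := Subgroup.center P)
    rw [hk, hk0, pow_zero] at this
    omega
  obtain ⟨d, t, hd, ht, hV, hA, hZd, ⟨f, hf⟩, hone⟩ := exists_field_data ρ hρ htrans Z hZab
  have hdt : h * 2 = d * t := by
    rw [card_eq_pow (p := p), hn] at hV
    exact Nat.pow_right_injective hp.out.two_le hV
  have hhd : h ∣ d := by
    have hp0 : 1 ≤ p := hp.out.pos
    have hord : orderOf (p : ZMod ℓ') = h := (orderOf_eq_iff h0).mpr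
      ⟨(dvd_pow_sub_one_iff hp0).mp hdvd',
        fun i hi hi0 e => hprim' i hi0 hi ((dvd_pow_sub_one_iff hp0).mpr e)⟩
    exact hord ▸ orderOf_dvd_of_pow_eq_one ((dvd_pow_sub_one_iff hp0).mp (hZℓ.trans hZd))
  by_cases ht1 : t = 1
  · exact (hone ht1).1
  have hdh : d = h := by
    obtain ⟨j, rfl⟩ := hhd
    have e : 2 = j * t := Nat.eq_of_mul_eq_mul_left h0 (hdt.trans (mul_assoc _ _ _))
    rcases (Nat.dvd_prime Nat.prime_two).mp ⟨t, e⟩ with rfl | rfl
    · rw [mul_one]
    · omega
  subst hdh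
  have ht2 : t = 2 := (Nat.eq_of_mul_eq_mul_left h0 hdt).symm
  subst ht2
  set C := Subgroup.centralizer (Z : Set G) with hC
  obtain ⟨ψ, hψ, hψf, hψd⟩ : ∃ χ : C → ℂ, IsCharacter _ χ ∧ (∀ g, χ g = χ 1 → g = 1) ∧
      charDegree χ = 2 := centralizer_char ρ hρ hG htrans Z hZab hA hV
  haveI hCn : C.Normal := hf ▸ f.normal_ker
  have hℓC : ℓ ∣ Nat.card C := by
    haveI : NeZero d := ⟨h0.ne'⟩
    have h1 : Nat.card C * Nat.card f.range = Nat.card G := by
      rw [← Subgroup.index_ker, hf, Subgroup.card_mul_index]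
    have h2 : Nat.card f.range ∣ d := by
      have := Subgroup.card_subgroup_dvd_card f.range
      rwa [Nat.card_congr Multiplicative.toAdd, Nat.card_zmod] at this
    rw [← h1] at hℓG
    refine ((Fact.out : ℓ.Prime).dvd_mul.mp hℓG).resolve_right fun hc => ?_
    have := Nat.le_of_dvd h0 (hc.trans h2)
    omega
  have hsqC : ¬ ℓ ^ 2 ∣ Nat.card C := fun e => hsq (e.trans (Subgroup.card_subgroup_dvd_card C))
  obtain ⟨H, hHn, hH⟩ : ∃ H : Subgroup C, H.Normal ∧ Nat.card H = ℓ := by
    by_contra hno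
    push Not at hno
    have := Cfsg.Agent.S4503.result ℓ Fact.out hℓC hsqC hno ψ hψ hψf
    omega
  let S : Sylow ℓ C := Sylow.ofCard H (by
    rw [hH, factorization_exact Fact.out hℓC hsqC, pow_one])
  haveI : H.Characteristic := S.characteristic_of_normal hHn
  haveI : (H.map C.subtype).Normal := ConjAct.normal_of_characteristic_of_normal
  have hHcard : Nat.card (H.map C.subtype) = ℓ := by
    rw [Subgroup.card_map_of_injective (Subgroup.subtype_injective _), hH]
  haveI : IsCyclic (H.map C.subtype) := isCyclic_of_prime_card hHcard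
  exact semilin_of_abelian_one ρ hρ htrans (H.map C.subtype) (fun x hx y hy =>
    congrArg Subtype.val (mul_comm' (⟨x, hx⟩ : H.map C.subtype) ⟨y, hy⟩)) (hHcard ▸ dvd_rfl)
    (hn ▸ hprim)

/-- **Structure.** -/
theorem structure_cases [Nontrivial V] (hρ : Function.Injective ρ) (hG : ¬ p ∣ Nat.card G)
    (htrans : ∀ v w : V, v ≠ 0 → w ≠ 0 → ∃ g : G, ρ g v = w) :
    Semilin ρ ∨ (p ≠ 2 ∧ Module.finrank (ZMod p) V = 2) ∨ (p = 3 ∧ Module.finrank (ZMod p) V = 4) := by
  classical
  set n := Module.finrank (ZMod p) V with hn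
  have hn0 : 0 < n := finrank_pos' (p := p)
  by_cases hp2 : p = 2
  · subst hp2
    have hodd : Odd (Nat.card G) := Nat.odd_iff.mpr (by omega)
    rcases Cfsg.Agent.S3360.result 2 (Cfsg.Agent.S0205.result hodd) ρ hρ htrans with h | h
    · exact Or.inl h
    · exfalso
      rw [card_eq_pow (p := 2), ← hn] at h
      have h2 : 2 ∣ 2 ^ n := dvd_pow_self 2 hn0.ne'
      simp only [Set.mem_insert_iff, Set.mem_singleton_iff] at h
      rcases h with h | h | h | h | h | h <;> rw [h] at h2 <;> norm_num at h2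
  rcases (show n = 1 ∨ n = 2 ∨ 3 ≤ n by omega) with h1 | h2 | h3
  · refine Or.inl (semilin_of_abelian_one ρ hρ htrans ⊥ (fun x hx y hy => ?_) (ℓ := 1) (one_dvd _)
      fun i hi hi' => absurd hi' (by rw [← hn, h1]; omega))
    rw [Subgroup.mem_bot.mp hx, Subgroup.mem_bot.mp hy]
  · exact Or.inr (Or.inl ⟨hp2, h2⟩)
  refine or_iff_not_imp_left.mpr fun hns => Or.inr ?_
  by_cases h34 : p = 3 ∧ n = 4
  · exact h34
  exfalso
  by_cases h36 : p = 3 ∧ n = 6
  · obtain ⟨rfl, h6⟩ := h36
    haveI : Fact (Nat.Prime 7) := ⟨by norm_num⟩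
    haveI : Fact (Nat.Prime 13) := ⟨by norm_num⟩
    exact hns (semilin_special (h := 3) (ℓ := 7) (ℓ' := 13) ρ hρ hG htrans h6 (by omega) rfl
      (by norm_num) (by decide +kernel) (by omega) (by norm_num) (by decide +kernel)
      (Or.inr ⟨by omega, Or.inr ⟨rfl, rfl, rfl⟩⟩))
  by_cases h56 : p = 5 ∧ n = 6
  · obtain ⟨rfl, h6⟩ := h56
    haveI : Fact (Nat.Prime 7) := ⟨by norm_num⟩
    haveI : Fact (Nat.Prime 31) := ⟨by norm_num⟩
    exact hns (semilin_special (h := 3) (ℓ := 7) (ℓ' := 31) ρ hρ hG htrans h6 (by omega) rfl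
      (by norm_num) (by decide +kernel) (by omega) (by norm_num) (by decide +kernel)
      (Or.inr ⟨by omega, Or.inl (by omega)⟩))
  -- primes of primitive divisors
  have hkey : ∀ m, PrimitivePart.IsPrim p n m → m ∣ Nat.card G → ∀ r, r.Prime → r ∣ m →
      ¬ r ^ 2 ∣ Nat.card G ∧ (r = n + 1 ∨ r = 2 * n + 1) ∧
        r ∣ p ^ n - 1 ∧ ∀ i, 1 ≤ i → i < n → ¬ r ∣ p ^ i - 1 := by
    intro m hm _ r hr hrm
    haveI := Fact.mk hr
    have h1 : r ∣ p ^ n - 1 := hrm.trans hm.1
    have h2 : ∀ i, 1 ≤ i → i < n → ¬ r ∣ p ^ i - 1 := fun i hi hin hd =>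
      hr.ne_one (Nat.eq_one_of_dvd_coprimes (hm.2 i hi hin) hrm hd)
    rcases semilin_or_prim (ℓ := r) ρ hρ hG htrans h1 h2 with h | ⟨h, h'⟩
    · exact absurd h hns
    · exact ⟨h, h', h1, h2⟩
  have hdvdG : ∀ m, PrimitivePart.IsPrim p n m → m ∣ Nat.card G := fun m hm =>
    hm.1.trans (pow_finrank_sub_one_dvd ρ htrans)
  have hbound : ∀ m, PrimitivePart.IsPrim p n m →
      m ≤ ∏ r ∈ m.primeFactors, r ∧ m.primeFactors ⊆ {n + 1, 2 * n + 1} := by
    intro m hm
    have hmG := hdvdG m hm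
    have hm0 : m ≠ 0 := fun h => Nat.card_pos.ne' (Nat.zero_dvd.mp (h ▸ hmG))
    have hsf : Squarefree m := Nat.squarefree_iff_prime_squarefree.mpr fun r hr hrr =>
      (hkey m hm hmG r hr (dvd_trans (dvd_mul_right r r) hrr)).1
        (by rw [pow_two]; exact hrr.trans hmG)
    refine ⟨(Nat.prod_primeFactors_of_squarefree hsf).symm.le, fun r hr => ?_⟩
    obtain ⟨hrp, hrm, -⟩ := Nat.mem_primeFactors.mp hr
    rcases (hkey m hm hmG r hrp hrm).2.1 with h | h <;> simp [h]
  have hexc : (p, n) ∉ [(2, 6), (2, 4), (2, 10), (2, 12), (2, 18), (3, 4), (3, 6), (5, 6), (2, 3),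
      (2, 8), (2, 20), (4, 3), (4, 6)] := by
    simp only [List.mem_cons, Prod.mk.injEq, List.not_mem_nil, or_false]
    have h4 : p ≠ 4 := fun h => by have := hp.out; rw [h] at this; norm_num at this
    omega
  obtain ⟨m, hm, hmbig⟩ := PrimitivePart.exists_prim hp.out.two_le h3 hexc
  obtain ⟨hm1, hm2⟩ := hbound m hm
  have hboth : n + 1 ∈ m.primeFactors ∧ 2 * n + 1 ∈ m.primeFactors := by
    by_contra hc
    have hsub : m.primeFactors ⊆ {n + 1} ∨ m.primeFactors ⊆ {2 * n + 1} := by
      rw [not_and_or] at hc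
      rcases hc with hc | hc
      · refine Or.inr fun r hr => ?_
        rcases Finset.mem_insert.mp (hm2 hr) with h | h
        · exact absurd (h ▸ hr) hc
        · exact h
      · refine Or.inl fun r hr => ?_
        rcases Finset.mem_insert.mp (hm2 hr) with h | h
        · exact Finset.mem_singleton.mpr h
        · exact absurd ((Finset.mem_singleton.mp h) ▸ hr) hc
    rcases hsub with hs | hs <;>
      have := Finset.prod_le_prod_of_subset_of_one_le (f := fun r : ℕ => r) hs (fun _ _ => Nat.zero_le _)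
        fun r hr _ => by rw [Finset.mem_singleton] at hr; omega
    all_goals rw [Finset.prod_singleton] at this; omega
  obtain ⟨⟨hq1, hd1, -⟩, ⟨hq2, hd2, -⟩⟩ :=
    And.intro (Nat.mem_primeFactors.mp hboth.1) (Nat.mem_primeFactors.mp hboth.2)
  obtain ⟨-, -, o1, o1'⟩ := hkey m hm (hdvdG m hm) _ hq1 hd1
  obtain ⟨-, -, o2, o2'⟩ := hkey m hm (hdvdG m hm) _ hq2 hd2
  obtain ⟨m', hm', hlarge⟩ := PrimitivePart.exists_prim_large (show 2 < n by omega) hp.out.two_le
  obtain ⟨hm1', hm2'⟩ := hbound m' hm'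
  have hm'' : m' ≤ (n + 1) * (2 * n + 1) := by
    refine hm1'.trans ((Finset.prod_le_prod_of_subset_of_one_le hm2' (fun _ _ => Nat.zero_le _)
      fun r hr _ => ?_).trans ?_)
    · simp only [Finset.mem_insert, Finset.mem_singleton] at hr
      omega
    · rw [Finset.prod_pair (by omega)]
  have hb : p ^ n.totient ≤ 4 * n * (n + 1) * (2 * n + 1) :=
    hlarge.trans (by rw [mul_assoc (4 * n), mul_assoc 4 n]; exact Nat.mul_le_mul_left _ (Nat.mul_le_mul_left _ hm''))
  rcases pair_cases hp.out hp2 h3 hq1 hq2 o1 o1' o2 o2' hb with ⟨rfl, h6⟩ | ⟨rfl, h18⟩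
  · haveI : Fact (Nat.Prime 7) := ⟨by norm_num⟩
    haveI : Fact (Nat.Prime 307) := ⟨by norm_num⟩
    exact hns (semilin_special (h := 3) (ℓ := 7) (ℓ' := 307) ρ hρ hG htrans h6 (by omega) rfl
      (by norm_num) (by decide +kernel) (by omega) (by norm_num) (by decide +kernel)
      (Or.inl (by norm_num)))
  · haveI : Fact (Nat.Prime 19) := ⟨by norm_num⟩
    haveI : Fact (Nat.Prime 757) := ⟨by norm_num⟩
    exact hns (semilin_special (h := 9) (ℓ := 19) (ℓ' := 757) ρ hρ hG htrans h18 (by omega) rfl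
      (by norm_num) (by decide +kernel) (by omega) (by norm_num) (by decide +kernel)
      (Or.inl (by norm_num)))

end CfsgLib.KGVTrans
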