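import Mathlib

/-!
# Classes of elements of order prime to `p` and surjections
-/

set_option autoImplicit false
set_option linter.unusedSectionVars false

namespace CfsgLib.KGVTrans

/-- The classes of elements of order prime to `p`. -/
abbrev RegClass (p : ℕ) (G : Type*) [Group G] :=
  {c : ConjClasses G // ∃ g : G, ConjClasses.mk g = c ∧ ¬ p ∣ orderOf g}

variable {p : ℕ} [hp : Fact p.Prime] {G Q : Type*} [Group G] [Group Q] [Finite G]

/-- An element of order prime to `p` lifts to one. -/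
theorem exists_regular_lift (f : G →* Q) (hf : Function.Surjective f) {y : Q}
    (hy : ¬ p ∣ orderOf y) : ∃ x, f x = y ∧ ¬ p ∣ orderOf x := by
  obtain ⟨x₀, rfl⟩ := hf y
  obtain ⟨a, m, hm, ham⟩ := Nat.exists_eq_pow_mul_and_not_dvd (orderOf_pos x₀).ne' p hp.out.ne_one
  obtain ⟨j, hj⟩ := exists_pow_eq_self_of_coprime
    ((hp.out.coprime_iff_not_dvd.mpr hy).pow_left a)
  refine ⟨(x₀ ^ p ^ a) ^ j, by rw [map_pow, map_pow, hj], fun hd => hm (hd.trans ?_)⟩
  refine orderOf_dvd_of_pow_eq_one ?_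
  rw [← pow_mul, mul_comm j m, pow_mul (x₀ ^ p ^ a), ← pow_mul x₀, ← ham, pow_orderOf_eq_one, one_pow]

/-- An element of `p`-power order lifts to one. -/
theorem exists_pElement_lift (f : G →* Q) (hf : Function.Surjective f) {y : Q}
    (hy : ∃ k, orderOf y = p ^ k) : ∃ x, f x = y ∧ ∃ k, orderOf x = p ^ k := by
  obtain ⟨x₀, rfl⟩ := hf y
  obtain ⟨k, hk⟩ := hy
  obtain ⟨a, m, hm, ham⟩ := Nat.exists_eq_pow_mul_and_not_dvd (orderOf_pos x₀).ne' p hp.out.ne_one
  have hc : m.Coprime (orderOf (f x₀)) := by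
    rw [hk]
    exact (Nat.Coprime.pow_right k ((hp.out.coprime_iff_not_dvd.mpr hm).symm))
  obtain ⟨j, hj⟩ := exists_pow_eq_self_of_coprime hc
  refine ⟨(x₀ ^ m) ^ j, by rw [map_pow, map_pow, hj], ?_⟩
  have hd : orderOf ((x₀ ^ m) ^ j) ∣ p ^ a := by
    refine orderOf_dvd_of_pow_eq_one ?_
    rw [← pow_mul, mul_comm j (p ^ a), pow_mul (x₀ ^ m), ← pow_mul x₀, mul_comm m, ← ham, pow_orderOf_eq_one,
      one_pow]
  obtain ⟨i, -, hi⟩ := (Nat.dvd_prime_pow hp.out).mp hd
  exact ⟨i, hi⟩

/-- The classes of a quotient, and further classes in the kernel. -/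
theorem regClass_add_le (f : G →* Q) (hf : Function.Surjective f) {m : ℕ} (w : Fin m → G)
    (hw1 : ∀ i, w i ≠ 1) (hwk : ∀ i, f (w i) = 1) (hwp : ∀ i, ¬ p ∣ orderOf (w i))
    (hwc : ∀ i j, IsConj (w i) (w j) → i = j) :
    Nat.card (RegClass p Q) + m ≤ Nat.card (RegClass p G) := by
  classical
  haveI : Finite Q := Finite.of_surjective f hf
  have hlift : ∀ c : RegClass p Q, ∃ x : G, ConjClasses.mk (f x) = c.1 ∧ ¬ p ∣ orderOf x ∧
      (c.1 = ConjClasses.mk 1 → x = 1) := by
    rintro ⟨c, y, hy, hyp⟩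
    by_cases h1 : c = ConjClasses.mk 1
    · exact ⟨1, by rw [map_one]; exact h1.symm,
        fun hd => hp.out.ne_one (Nat.dvd_one.mp (orderOf_one (G := G) ▸ hd)), fun _ => rfl⟩
    · obtain ⟨x, hx, hxp⟩ := exists_regular_lift f hf hyp
      exact ⟨x, by rw [hx]; exact hy, hxp, fun h => absurd h h1⟩
  choose x hx hxp hx1 using hlift
  let F : RegClass p Q ⊕ Fin m → RegClass p G := fun s => match s with
    | Sum.inl c => ⟨ConjClasses.mk (x c), x c, rfl, hxp c⟩
    | Sum.inr i => ⟨ConjClasses.mk (w i), w i, rfl, hwp i⟩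
  have hmap : ∀ a b : G, ConjClasses.mk a = ConjClasses.mk b →
      ConjClasses.mk (f a) = ConjClasses.mk (f b) := fun a b h =>
    ConjClasses.mk_eq_mk_iff_isConj.mpr (f.map_isConj (ConjClasses.mk_eq_mk_iff_isConj.mp h))
  have hmix : ∀ c i, ConjClasses.mk (x c) ≠ ConjClasses.mk (w i) := fun c i h => by
    have h1 := hmap _ _ h
    rw [hx, hwk] at h1
    rw [hx1 c h1] at h
    exact hw1 i (isConj_one_right.mp (ConjClasses.mk_eq_mk_iff_isConj.mp h))
  have hF : Function.Injective F := by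
    rintro (c | i) (c' | i') h <;> replace h := congrArg Subtype.val h
    · exact congrArg Sum.inl (Subtype.ext (by rw [← hx c, ← hx c']; exact hmap _ _ h))
    · exact absurd h (hmix c i')
    · exact absurd h.symm (hmix c' i)
    · exact congrArg Sum.inr (hwc i i' (ConjClasses.mk_eq_mk_iff_isConj.mp h))
  have h := Nat.card_le_card_of_injective F hF
  rwa [Nat.card_sum, Nat.card_fin] at h

theorem regClass_le (f : G →* Q) (hf : Function.Surjective f) :
    Nat.card (RegClass p Q) ≤ Nat.card (RegClass p G) := by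
  simpa using regClass_add_le (p := p) f hf (m := 0) Fin.elim0 (fun i => i.elim0) (fun i => i.elim0)
    (fun i => i.elim0) fun i => i.elim0

theorem regClass_congr [Finite Q] (e : G ≃* Q) :
    Nat.card (RegClass p G) = Nat.card (RegClass p Q) :=
  le_antisymm (regClass_le e.symm.toMonoidHom e.symm.surjective)
    (regClass_le e.toMonoidHom e.surjective)

end CfsgLib.KGVTrans
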