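import Cfsg.Agent.S4957
import Cfsg.Agent.Lib.KGVTrans.ClassesLower
import Cfsg.Agent.Lib.KGVTrans.RegClasses
import Cfsg.Agent.Lib.PSolvable.Core

/-!
# `p`-solvable groups with one class of nontrivial `p`-elements and trivial `O_{p'}`

Such a group is `V ⋊ H` with `H` of order prime to `p`, faithful and transitive on `V \ {1}`.
-/

set_option autoImplicit false
set_option linter.unusedSectionVars false
open scoped Classical

namespace CfsgLib.KGVTrans

open Cfsg

variable {p : ℕ} [hp : Fact p.Prime] {Q : Type*} [Group Q] [Finite Q]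

/-- The structure of such a group. -/
structure TwoClassData (p : ℕ) (Q : Type*) [Group Q] where
  V : Subgroup Q
  H : Subgroup Q
  normal : V.Normal
  compl : Subgroup.IsComplement' V H
  exp : ∀ v ∈ V, v ^ p = 1
  comm : ∀ a ∈ V, ∀ b ∈ V, a * b = b * a
  self : Subgroup.centralizer (V : Set Q) = V
  ne_bot : V ≠ ⊥
  not_dvd : ¬ p ∣ Nat.card H
  trans : ∀ v ∈ V, ∀ w ∈ V, v ≠ 1 → w ≠ 1 → ∃ g ∈ H, g * v * g⁻¹ = w
  mem_iff : ∀ x : Q, x ∈ V ↔ ∃ k, orderOf x = p ^ k

theorem exists_twoClassData (hsolv : IsPSolvable p Q) (hO : pPrimeCore p Q = ⊥)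
    (hdiv : p ∣ Nat.card Q)
    (hconj : ∀ x y : Q, x ≠ 1 → y ≠ 1 → (∃ k : ℕ, orderOf x = p ^ k) →
      (∃ k : ℕ, orderOf y = p ^ k) → IsConj x y) :
    Nonempty (TwoClassData p Q) := by
  haveI := Fitting.pCore_normal (G := Q) p
  set V := pCore p Q with hVdef
  have hVp : IsPGroup p V := Fitting.pCore_isPGroup p
  have hC := PSolvable.centralizer_pCore_le hsolv hO
  have hne : V ≠ ⊥ := by
    intro h
    obtain ⟨x, hx⟩ := exists_prime_orderOf_dvd_card' (G := Q) p hdiv
    have h1 : x ∈ Subgroup.centralizer (V : Set Q) := by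
      rw [h]
      rintro y hy
      rw [SetLike.mem_coe, Subgroup.mem_bot] at hy
      rw [hy, one_mul, mul_one]
    have h2 := hC h1
    rw [← hVdef, h, Subgroup.mem_bot] at h2
    rw [h2, orderOf_one] at hx
    exact hp.out.ne_one hx.symm
  have hpk : ∀ x ∈ V, ∃ k, orderOf x = p ^ k := fun x hx => by
    obtain ⟨k, hk⟩ := IsPGroup.iff_orderOf.mp hVp ⟨x, hx⟩
    exact ⟨k, by rw [← hk, ← Subgroup.orderOf_coe]⟩
  -- a normal subgroup inside `V` other than `⊥` contains every `p`-element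
  have hall : ∀ W : Subgroup Q, W.Normal → W ≤ V → W ≠ ⊥ →
      ∀ x : Q, (∃ k, orderOf x = p ^ k) → x ∈ W := by
    intro W hW hWV hW1 x hx
    rcases eq_or_ne x 1 with rfl | hx1
    · exact one_mem W
    obtain ⟨w, hw, hw1⟩ := (Subgroup.bot_or_exists_ne_one W).resolve_left hW1
    obtain ⟨g, hg⟩ := isConj_iff.mp (hconj w x hw1 hx1 (hpk w (hWV hw)) hx)
    rw [← hg]
    exact hW.conj_mem w hw g
  have hmem : ∀ x : Q, x ∈ V ↔ ∃ k, orderOf x = p ^ k :=
    fun x => ⟨hpk x, hall V inferInstance le_rfl hne x⟩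
  haveI : Nontrivial V := (Subgroup.nontrivial_iff_ne_bot V).mpr hne
  -- abelian
  have hcomm : ∀ a ∈ V, ∀ b ∈ V, a * b = b * a := by
    haveI : Nontrivial (Subgroup.center V) := hVp.center_nontrivial
    set W := (Subgroup.center V).map V.subtype with hW
    have hWn : W.Normal := ConjAct.normal_of_characteristic_of_normal
    have hW1 : W ≠ ⊥ := by
      rw [hW, ne_eq, Subgroup.map_eq_bot_iff_of_injective _ V.subtype_injective, ← ne_eq,
        ← Subgroup.nontrivial_iff_ne_bot]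
      infer_instance
    intro a ha b hb
    obtain ⟨⟨a', ha'⟩, hac, rfl⟩ := hall W hWn (Subgroup.map_subtype_le _) hW1 a (hpk a ha)
    exact congrArg Subtype.val (Subgroup.mem_center_iff.mp hac ⟨b, hb⟩).symm
  -- exponent `p`
  obtain ⟨x₀, hx₀⟩ := exists_prime_orderOf_dvd_card' (G := Q) p hdiv
  have hexp : ∀ v ∈ V, v ^ p = 1 := fun v hv => by
    rcases eq_or_ne v 1 with rfl | hv1
    · exact one_pow p
    have hx₀1 : x₀ ≠ 1 := fun h => hp.out.ne_one (by rw [← hx₀, h, orderOf_one])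
    obtain ⟨g, hg⟩ := isConj_iff.mp (hconj x₀ v hx₀1 hv1 ⟨1, by rw [hx₀, pow_one]⟩ (hpk v hv))
    rw [← hg, conj_pow, ← hx₀, pow_orderOf_eq_one, mul_one, mul_inv_cancel]
  -- the index is prime to `p`
  have hidx : ¬ p ∣ V.index := by
    intro h
    obtain ⟨P⟩ : Nonempty (Sylow p Q) := inferInstance
    have hPV : (P : Subgroup Q) ≤ V := fun x hx => (hmem x).mpr (by
      obtain ⟨k, hk⟩ := IsPGroup.iff_orderOf.mp P.2 ⟨x, hx⟩
      exact ⟨k, by rw [← hk, ← Subgroup.orderOf_coe]⟩)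
    exact Sylow.not_dvd_index P (h.trans (Subgroup.index_dvd_of_le hPV))
  have hcop : (Nat.card V).Coprime V.index := by
    obtain ⟨k, hk⟩ := IsPGroup.iff_card.mp hVp
    rw [hk]
    exact (hp.out.coprime_iff_not_dvd.mpr hidx).pow_left k
  obtain ⟨H, hH⟩ := Subgroup.exists_right_complement'_of_coprime (N := V) hcop
  refine ⟨⟨V, H, inferInstance, hH, hexp, hcomm, le_antisymm hC fun x hx y hy => hcomm y hy x hx, hne,
    by rw [← hH.symm.index_eq_card]; exact hidx, fun v hv w hw hv1 hw1 => ?_, hmem⟩⟩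
  obtain ⟨g, hg⟩ := isConj_iff.mp (hconj v w hv1 hw1 (hpk v hv) (hpk w hw))
  obtain ⟨⟨⟨u, hu⟩, ⟨h, hh⟩⟩, hgh⟩ := hH.surjective g
  dsimp only at hgh
  refine ⟨h, hh, ?_⟩
  have hc : h * v * h⁻¹ ∈ V := (inferInstance : V.Normal).conj_mem v hv h
  rw [← hg, ← hgh]
  calc h * v * h⁻¹ = u * (h * v * h⁻¹) * u⁻¹ := by rw [hcomm u hu _ hc, mul_inv_cancel_right]
    _ = u * h * v * (u * h)⁻¹ := by group

/-- The trichotomy, for a group acting by automorphisms on a group of exponent `p`. -/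
theorem exponent_lower {V : Type*} [CommGroup V] [Finite V] [Nontrivial V]
    [Module (ZMod p) (Additive V)] {H : Type*} [Group H] [Finite H] (φ : H →* MulAut V)
    (hφ : Function.Injective φ) (hH : ¬ p ∣ Nat.card H)
    (htrans : ∀ v w : V, v ≠ 1 → w ≠ 1 → ∃ g : H, φ g v = w) :
    (Nat.card H = Nat.card V - 1 → ∀ g : H, ∀ v : V, v ≠ 1 → φ g v = v → g = 1) ∧
    (p ≤ Nat.card (ConjClasses H) ∨
      (Nat.card V = p ∧ IsCyclic H ∧ Nat.card H = p - 1 ∧ Nat.card (ConjClasses H) = p - 1) ∨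
      (p = 11 ∧ Nat.card V = 121 ∧ Nat.card H = 120 ∧ Nat.card (ConjClasses H) = 9 ∧
        Nonempty (H ≃* Matrix.SpecialLinearGroup (Fin 2) (ZMod 5)))) := by
  have hcardV : Nat.card (Additive V) = Nat.card V := Nat.card_congr Additive.toMul
  have hinj : Function.Injective (addRep (p := p) φ) := fun g h e => hφ (MulEquiv.ext fun x =>
    congrArg (fun f : Additive V ≃ₗ[ZMod p] Additive V => Additive.toMul (f (Additive.ofMul x))) e)
  have htr : ∀ a b : Additive V, a ≠ 0 → b ≠ 0 → ∃ g : H, addRep (p := p) φ g a = b := fun a b ha hb => by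
    obtain ⟨g, hg⟩ := htrans (Additive.toMul a) (Additive.toMul b)
      (fun h => ha (Additive.toMul.injective h)) (fun h => hb (Additive.toMul.injective h))
    exact ⟨g, Additive.toMul.injective hg⟩
  refine ⟨fun hc g v hv hgv => ?_, ?_⟩
  · have hv' : Additive.ofMul v ≠ 0 := fun e => hv (congrArg Additive.toMul e)
    let S : Subgroup H :=
      { carrier := {g | φ g v = v}
        one_mem' := by simp
        mul_mem' := fun {a b} ha hb => by
          show φ (a * b) v = v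
          rw [map_mul, MulAut.mul_apply, hb, ha]
        inv_mem' := fun {a} ha => by
          show φ a⁻¹ v = v
          rw [map_inv]
          exact (φ a).symm_apply_eq.mpr (Eq.symm ha) }
    have h1 := card_stabilizer_mul (addRep (p := p) φ) htr S _ hv' fun g =>
      ⟨fun h => Additive.toMul.injective h, fun h => congrArg Additive.toMul h⟩
    rw [hcardV, ← hc] at h1
    have hS : Nat.card S = 1 := Nat.eq_of_mul_eq_mul_left Nat.card_pos (by rw [h1, mul_one])
    have hm : g ∈ S := hgv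
    rwa [Subgroup.eq_bot_of_card_eq S hS, Subgroup.mem_bot] at hm
  · simpa only [hcardV] using classes_lower (addRep (p := p) φ) hinj hH htr

namespace TwoClassData

variable (D : TwoClassData p Q)

theorem prod_eq (D : TwoClassData p Q) (x : Q) : ∃ v ∈ D.V, ∃ h ∈ D.H, v * h = x := by
  obtain ⟨⟨⟨v, hv⟩, ⟨h, hh⟩⟩, he⟩ := D.compl.surjective x
  exact ⟨v, hv, h, hh, he⟩

theorem eq_one_of_mem {x : Q} (hv : x ∈ D.V) (hh : x ∈ D.H) : x = 1 :=
  Subgroup.mem_bot.mp (D.compl.disjoint.le_bot ⟨hv, hh⟩)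

/-- Elements of the complement conjugate in the whole group are conjugate in it. -/
theorem isConj_of_isConj {a b : D.H} (h : IsConj (a : Q) (b : Q)) : IsConj a b := by
  haveI := D.normal
  obtain ⟨g, hg⟩ := isConj_iff.mp h
  obtain ⟨v, hv, k, hk, rfl⟩ := D.prod_eq g
  refine isConj_iff.mpr ⟨⟨k, hk⟩, Subtype.ext ?_⟩
  show k * (a : Q) * k⁻¹ = (b : Q)
  have hc : (k * (a : Q) * k⁻¹) * (b : Q)⁻¹ = 1 := by
    set m := k * (a : Q) * k⁻¹ with hm
    have hmH : m ∈ D.H := mul_mem (mul_mem hk a.2) (inv_mem hk)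
    have hb : (b : Q) = v * m * v⁻¹ := by rw [← hg, hm]; group
    refine D.eq_one_of_mem ?_ (mul_mem hmH (inv_mem b.2))
    rw [hb, show m * (v * m * v⁻¹)⁻¹ = (m * v * m⁻¹) * v⁻¹ by group]
    exact mul_mem (D.normal.conj_mem v hv m) (inv_mem hv)
  exact mul_inv_eq_one.mp hc

/-- The complement gives classes of elements of order prime to `p`. -/
theorem card_classes_le (D : TwoClassData p Q) :
    Nat.card (ConjClasses D.H) ≤ Nat.card (RegClass p Q) := by
  have hreg : ∀ h : D.H, ¬ p ∣ orderOf (h : Q) := fun h hd =>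
    D.not_dvd ((Subgroup.orderOf_coe h ▸ hd).trans (orderOf_dvd_natCard h))
  refine Nat.card_le_card_of_injective
    (Quotient.lift (fun h : D.H => (⟨ConjClasses.mk (h : Q), h, rfl, hreg h⟩ : RegClass p Q))
      fun a b hab => Subtype.ext (ConjClasses.mk_eq_mk_iff_isConj.mpr (D.H.subtype.map_isConj hab))) ?_
  intro c c'
  induction c using Quotient.inductionOn with | h a => ?_
  induction c' using Quotient.inductionOn with | h b => ?_
  intro h
  exact Quotient.sound (D.isConj_of_isConj (ConjClasses.mk_eq_mk_iff_isConj.mp (congrArg Subtype.val h)))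

/-- The action of the complement is free. -/
def IsFree : Prop := ∀ h ∈ D.H, ∀ v ∈ D.V, v ≠ 1 → h * v = v * h → h = 1

/-- With a free action these are all the classes. -/
theorem card_classes_eq (hfree : D.IsFree) :
    Nat.card (RegClass p Q) = Nat.card (ConjClasses D.H) := by
  refine le_antisymm ?_ D.card_classes_le
  haveI := D.normal
  have hex : ∀ c : RegClass p Q, ∃ h : D.H, ConjClasses.mk (h : Q) = c.1 := by
    rintro ⟨c, x, rfl, hx⟩
    obtain ⟨v, hv, h, hh, rfl⟩ := D.prod_eq x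
    rcases eq_or_ne h 1 with rfl | h1
    · refine ⟨1, ?_⟩
      rw [mul_one] at hx
      obtain ⟨k, hk⟩ := (D.mem_iff v).mp hv
      rcases k.eq_zero_or_pos with rfl | hk0
      · rw [pow_zero, orderOf_eq_one_iff] at hk
        simp [hk]
      · exact absurd (hk ▸ dvd_pow_self p hk0.ne') hx
    let T : D.V → D.V := fun u =>
      ⟨(u : Q) * (h * (u : Q)⁻¹ * h⁻¹), mul_mem u.2 (D.normal.conj_mem _ (inv_mem u.2) h)⟩
    have hT : Function.Injective T := by
      intro a b he
      have he' : (a : Q) * (h * (a : Q)⁻¹ * h⁻¹) = (b : Q) * (h * (b : Q)⁻¹ * h⁻¹) :=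
        congrArg Subtype.val he
      have hfix : h * ((b : Q)⁻¹ * a) = ((b : Q)⁻¹ * a) * h := by
        calc h * ((b : Q)⁻¹ * a) = (b : Q)⁻¹ * ((b : Q) * (h * (b : Q)⁻¹ * h⁻¹)) * h * a := by group
          _ = (b : Q)⁻¹ * ((a : Q) * (h * (a : Q)⁻¹ * h⁻¹)) * h * a := by rw [he']
          _ = ((b : Q)⁻¹ * a) * h := by group
      by_contra hab
      exact h1 (hfree h hh _ (mul_mem (inv_mem b.2) a.2)
        (fun e => hab (Subtype.ext (inv_mul_eq_one.mp e).symm)) hfix)
    obtain ⟨u, hu⟩ := (Finite.injective_iff_surjective.mp hT) ⟨v, hv⟩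
    refine ⟨⟨h, hh⟩, ConjClasses.mk_eq_mk_iff_isConj.mpr (isConj_iff.mpr ⟨u, ?_⟩)⟩
    rw [← show (u : Q) * (h * (u : Q)⁻¹ * h⁻¹) = v from congrArg Subtype.val hu]
    group
  choose h hh using hex
  exact Nat.card_le_card_of_injective (fun c => ConjClasses.mk (h c)) fun c c' e => Subtype.ext (by
    rw [← hh c, ← hh c']
    exact ConjClasses.mk_eq_mk_iff_isConj.mpr
      (D.H.subtype.map_isConj (ConjClasses.mk_eq_mk_iff_isConj.mp e)))

/-- The trichotomy for the complement. -/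
theorem trichotomy (D : TwoClassData p Q) :
    p ≤ Nat.card (ConjClasses D.H) ∨
      (D.IsFree ∧ Nat.card D.V = p ∧ IsCyclic D.H ∧ Nat.card D.H = p - 1 ∧
        Nat.card (ConjClasses D.H) = p - 1) ∨
      (D.IsFree ∧ p = 11 ∧ Nat.card D.V = 121 ∧ Nat.card D.H = 120 ∧
        Nat.card (ConjClasses D.H) = 9 ∧
        Nonempty (D.H ≃* Matrix.SpecialLinearGroup (Fin 2) (ZMod 5))) := by
  haveI := D.normal
  letI : CommGroup D.V := { (inferInstance : Group D.V) with
    mul_comm := fun a b => Subtype.ext (D.comm a a.2 b b.2) }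
  letI : Module (ZMod p) (Additive D.V) := AddCommGroup.zmodModule fun a => by
    have h := D.exp _ (Additive.toMul a).2
    exact Additive.toMul.injective (Subtype.ext (by rw [toMul_nsmul, SubmonoidClass.coe_pow, h]; rfl))
  haveI : Nontrivial D.V := (Subgroup.nontrivial_iff_ne_bot D.V).mpr D.ne_bot
  let φ : D.H →* MulAut D.V := (MulAut.conjNormal : Q →* MulAut D.V).comp D.H.subtype
  have hap : ∀ (g : D.H) (v : D.V), ((φ g v : D.V) : Q) = (g : Q) * v * (g : Q)⁻¹ := fun g v =>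
    MulAut.conjNormal_apply _ _
  have hinj : Function.Injective φ := by
    refine (injective_iff_map_eq_one φ).mpr fun g hg => ?_
    have hmem : (g : Q) ∈ Subgroup.centralizer (D.V : Set Q) := fun v hv => by
      have h2 := hap g ⟨v, hv⟩
      rw [hg] at h2
      exact eq_mul_inv_iff_mul_eq.mp h2
    rw [D.self] at hmem
    exact Subtype.ext (D.eq_one_of_mem hmem g.2)
  obtain ⟨hreg, h3⟩ := exponent_lower (p := p) φ hinj D.not_dvd fun v w hv hw => by
    obtain ⟨g, hg, he⟩ := D.trans _ v.2 _ w.2 (fun h => hv (Subtype.ext h)) (fun h => hw (Subtype.ext h))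
    exact ⟨⟨g, hg⟩, Subtype.ext ((hap ⟨g, hg⟩ v).trans he)⟩
  have hfree : Nat.card D.H = Nat.card D.V - 1 → D.IsFree := fun hc h hh v hv hv1 hcomm =>
    congrArg Subtype.val (hreg hc ⟨h, hh⟩ ⟨v, hv⟩ (fun e => hv1 (congrArg Subtype.val e))
      (Subtype.ext ((hap ⟨h, hh⟩ ⟨v, hv⟩).trans (by
        show h * v * h⁻¹ = v
        rw [hcomm, mul_inv_cancel_right]))))
  rcases h3 with h | ⟨hV, hc, hH, hk⟩ | ⟨h11, hV, hH, hk, he⟩
  · exact Or.inl h
  · exact Or.inr (Or.inl ⟨hfree (by rw [hH, hV]), hV, hc, hH, hk⟩)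
  · exact Or.inr (Or.inr ⟨hfree (by rw [hH, hV]), h11, hV, hH, hk, he⟩)

end TwoClassData

end CfsgLib.KGVTrans
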